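import Groth.Agent.TFOne.AlgClosed
import Groth.Agent.EulerDeg.Coherent
import Mathlib.LinearAlgebra.Lagrange

/-!
# A torsion-free rank-one sheaf which is not simple decomposes
-/

set_option autoImplicit false
set_option linter.style.haveILetI false
set_option backward.isDefEq.respectTransparency.types false

universe u

open CategoryTheory CategoryTheory.Limits AlgebraicGeometry TopologicalSpace Polynomial

noncomputable section

namespace Groth.TFOneAux

open Duality.StalkHom (stalkMapₗ_comp_apply stalkMapₗ_zero)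

variable {X : Scheme.{u}}

/-- Away from the components in its support a torsion-free sheaf vanishes. -/
theorem subsingleton_stalk_of_generic (hX : IsCurve X) {G : X.Modules} (hG : Coh.IsCoh G)
    (hGt : _root_.TorSh.IsTorsionFree G) {x : X}
    (h : ∀ η ∈ genericPoints (X : Type u), η ∈ CohB1.support G → x ∉ closure ({η} : Set X)) :
    Subsingleton (G.presheaf.stalk x) := by
  haveI := hX.noeth
  haveI := hX.red
  by_contra hx
  have hS := CohTwo.isClosed_support G hG
  obtain ⟨T, hTf, hTc, hTi, hTS⟩ := NoetherianSpace.exists_finite_set_isClosed_irreducible hS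
  have hpt : ∀ t ∈ T, x ∈ t → t ⊆ {x} := fun t ht hxt => by
    obtain ⟨η, hη⟩ := QuasiSober.sober (hTi t ht) (hTc t ht)
    have hηS : η ∈ CohB1.support G := hTS.ge ⟨t, ht, hη.mem⟩
    rcases hX.cases_pt η with hg | hc
    · exact absurd (hη.def.ge hxt) (h η hg hηS)
    · rw [← hη.def, hc.closure_eq] at hxt ⊢
      rw [Set.mem_singleton_iff.1 hxt]
  have hxg : x ∉ genericPoints (X : Type u) := fun hg => h x hg hx (subset_closure rfl)
  have hxc : IsClosed ({x} : Set X) := (hX.cases_pt x).resolve_left hxg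
  let O : Set X := (⋃ t ∈ {t ∈ T | x ∉ t}, t)ᶜ
  have hO : IsOpen O := ((hTf.sep _).isClosed_biUnion fun t ht => hTc t ht.1).isOpen_compl
  have hxO : x ∈ O := fun hxO => by
    obtain ⟨t, ht, hxt⟩ := Set.mem_iUnion₂.1 hxO
    exact ht.2 hxt
  have hOS : ∀ y ∈ O, y ∈ CohB1.support G → y = x := fun y hy hyS => by
    obtain ⟨t, ht, hyt⟩ := hTS.le hyS
    by_contra hne
    exact hy (Set.mem_iUnion₂.2 ⟨t, ⟨ht, fun hxt => hne (hpt t ht hxt hyt)⟩, hyt⟩)
  refine hx ⟨fun a b => ?_⟩
  suffices key : ∀ a : G.presheaf.stalk x, a = 0 from (key a).trans (key b).symm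
  intro a
  obtain ⟨U, hxU, s, rfl⟩ := TopCat.Presheaf.exists_germ_eq G.presheaf a
  obtain ⟨W, hW, hxW, hWle⟩ := exists_isAffineOpen_mem_and_subset (X := X) (x := x)
    (U := U ⊓ ⟨O, hO⟩) ⟨hxU, hxO⟩
  obtain ⟨r, hr, hxr⟩ := DecShCurve.exists_nzd hW ⟨x, hxW⟩ hxc (hX.not_open x)
  let s' : Γ(G, W) := G.presheaf.map (homOfLE (hWle.trans inf_le_left)).op s
  have h0 : G.presheaf.map (homOfLE (X.basicOpen_le r)).op s' = 0 := by
    refine Misc1.TorSh.eq_zero_of_germ G _ fun y hy => ?_
    have hyS : y ∉ CohB1.support G := fun hyS =>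
      hxr ((hOS y (hWle (X.basicOpen_le r hy)).2 hyS) ▸ hy)
    haveI : Subsingleton (G.presheaf.stalk y) := not_not.1 hyS
    exact Subsingleton.elim _ _
  obtain ⟨n, hn⟩ := Divisors.exists_pow_smul_eq_zero hW hG.1 r s' h0
  have hg : G.presheaf.germ W x hxW s' = G.presheaf.germ U x hxU s :=
    G.presheaf.germ_res_apply (homOfLE (hWle.trans inf_le_left)) x hxW s
  rw [← hg]
  have hreg : IsRegular (X.presheaf.germ W x hxW r ^ n) :=
    (isRegular_iff_mem_nonZeroDivisors.2 (RefRank.MeroTotal.germ_nzd hW hr ⟨x, hxW⟩)).pow n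
  haveI := hGt x
  refine Module.IsTorsionFree.isSMulRegular hreg ?_
  show _ • _ = _ • (0 : G.presheaf.stalk x)
  rw [smul_zero, ← map_pow, ← Divisors.germ_smul_mod hxW G (r ^ n) s', hn, map_zero]

theorem support_eq (hX : IsCurve X) {G : X.Modules} (hG : Coh.IsCoh G)
    (hGt : _root_.TorSh.IsTorsionFree G) :
    CohB1.support G =
      ⋃ η ∈ {η ∈ genericPoints (X : Type u) | η ∈ CohB1.support G}, closure ({η} : Set X) := by
  haveI := hX.noeth
  refine Set.Subset.antisymm (fun x hx => ?_) (Set.iUnion₂_subset fun η hη =>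
    closure_minimal (Set.singleton_subset_iff.2 hη.2) (CohTwo.isClosed_support G hG))
  by_contra hne
  exact hx (subsingleton_stalk_of_generic hX hG hGt fun η hη hS hcl =>
    hne (Set.mem_iUnion₂.2 ⟨η, ⟨hη, hS⟩, hcl⟩))

theorem isTorsionFree_of_mono {G M : X.Modules} (ι : G ⟶ M) [Mono ι]
    (hM : _root_.TorSh.IsTorsionFree M) : _root_.TorSh.IsTorsionFree G := fun x => by
  haveI := hM x
  exact ((QCohMod.mono_iff_stalk ι).1 inferInstance x : Function.Injective (RefHull.stalkMapₗ ι x))
    |>.moduleIsTorsionFree (RefHull.stalkMapₗ ι x) (fun r m => map_smul _ r m)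

variable {k : Type u} [Field k] [X.Over (Spec (CommRingCat.of k))]
  [IsProper (X ↘ Spec (CommRingCat.of k))] {M : X.Modules}

theorem finite_hom (hM : Coh.IsCoh M) : Module.Finite k (M ⟶ M) := by
  haveI := EulerDeg.isNoetherian_of_proper k X
  haveI := CohTwo.LocFreeExt.hasSheafHom M
  haveI := EulerDeg.finite_HH k X (CohTwo.HomDepth.isCoh_sheafHom hM hM) 0
  exact Module.Finite.equiv (Duality.SheafHom.homH0 M k M).symm

omit [IsProper (X ↘ Spec (CommRingCat.of k))] in
theorem stalkMap_aeval (φ : CategoryTheory.End M) {η : X} {s : X.presheaf.stalk η}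
    (hs : ∀ v, RefHull.stalkMapₗ (show M ⟶ M from φ) η v = s • v) (p : k[X]) (v : M.presheaf.stalk η) :
    RefHull.stalkMapₗ (show M ⟶ M from aeval φ p) η v =
      p.eval₂ (toStalk k η) s • v := by
  induction p using Polynomial.induction_on' generalizing v with
  | add p q hp hq =>
    rw [map_add, eval₂_add, add_smul, ← hp, ← hq]
    exact stalkMap_add _ _ _ _
  | monomial n a =>
    rw [aeval_monomial, eval₂_monomial, ← Algebra.smul_def]
    refine (stalkMap_smul _ a η v).trans ?_
    rw [mul_smul]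
    congr 1
    clear a
    induction n generalizing v with
    | zero => rw [pow_zero, pow_zero, one_smul]; exact stalkMap_id η v
    | succ n ih =>
      rw [pow_succ, pow_succ]
      refine (stalkMapₗ_comp_apply (show M ⟶ M from φ) (show M ⟶ M from φ ^ n) η v).trans ?_
      rw [hs, map_smul, ih, smul_smul, mul_comm]

omit [IsProper (X ↘ Spec (CommRingCat.of k))] in
theorem scalar_mem_range_aux [IsReduced X] {Z : Scheme.{u}} (i : Z ⟶ X)
    [GeometricallyIntegral (i ≫ (X ↘ Spec (CommRingCat.of k)))] (z : Z)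
    (hη : i z ∈ genericPoints (X : Type u)) (s : X.presheaf.stalk (i z))
    (p : k[X]) (hp : p.Monic) (hs : p.eval₂ (toStalk k (i z)) s = 0) :
    ∃ c : k, s = toStalk k (i z) c := by
  letI : Z.Over (Spec (CommRingCat.of k)) := ⟨i ≫ (X ↘ Spec (CommRingCat.of k))⟩
  haveI : GeometricallyIntegral (Z ↘ Spec (CommRingCat.of k)) :=
    inferInstanceAs (GeometricallyIntegral (i ≫ (X ↘ Spec (CommRingCat.of k))))
  haveI : IsIntegral Z := GeometricallyIntegral.isIntegral_of_subsingleton (Z ↘ Spec (CommRingCat.of k))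
  letI : Field (X.presheaf.stalk (i z)) := (Duality.TorsionFree.isField_stalk_generic hη).toField
  have hk : ∀ c, (i.stalkMap z).hom (toStalk k (i z) c) = toStalk k z c := fun c => by
    change (i.stalkMap z).hom (X.presheaf.germ ⊤ (i z) trivial _) = _
    exact Scheme.Hom.germ_stalkMap_apply i ⊤ z trivial _
  have hs' : p.eval₂ (toStalk k z) ((i.stalkMap z).hom s) = 0 := by
    have := congrArg (i.stalkMap z).hom hs
    rw [hom_eval₂, map_zero] at this
    rw [← this]
    congr 1
    ext c
    exact (hk c).symm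
  obtain ⟨c, hc⟩ := mem_range_germ z _ p hp hs'
  exact ⟨c, (i.stalkMap z).hom.injective (hc.trans (hk c).symm)⟩

omit [IsProper (X ↘ Spec (CommRingCat.of k))] in
theorem scalar_mem_range (hgi : ∀ (C : Set X) (hC : C ∈ irreducibleComponents (X : Type u)),
      GeometricallyIntegral (VecSt.subschι X C (isClosed_of_mem_irreducibleComponents C hC) ≫
        (X ↘ Spec (CommRingCat.of k))))
    [IsReduced X] {η : X} (hη : η ∈ genericPoints (X : Type u)) (s : X.presheaf.stalk η)
    (p : k[X]) (hp : p.Monic) (hs : p.eval₂ (toStalk k η) s = 0) :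
    ∃ c : k, s = toStalk k η c := by
  let C := closure ({η} : Set X)
  let i := VecSt.subschι X C (isClosed_of_mem_irreducibleComponents C hη)
  let Z := VecSt.subsch X C (isClosed_of_mem_irreducibleComponents C hη)
  letI : Z.Over (Spec (CommRingCat.of k)) := ⟨i ≫ (X ↘ Spec (CommRingCat.of k))⟩
  haveI : GeometricallyIntegral (Z ↘ Spec (CommRingCat.of k)) := hgi C hη
  haveI : IsIntegral Z := GeometricallyIntegral.isIntegral_of_subsingleton (Z ↘ Spec (CommRingCat.of k))
  obtain ⟨z, hz⟩ : ∃ z : Z, i z = η := by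
    have : η ∈ Set.range i := by
      show η ∈ Set.range (VecSt.subschι X C _)
      rw [Scheme.IdealSheafData.range_subschemeι, Scheme.IdealSheafData.coe_support_vanishingIdeal]
      exact subset_closure rfl
    exact this
  revert hs hp p s
  rw [← hz]
  haveI : GeometricallyIntegral (i ≫ (X ↘ Spec (CommRingCat.of k))) := hgi C hη
  exact fun s p hp hs => scalar_mem_range_aux i z (hz ▸ hη) s p hp hs

/-- An endomorphism of a rank-one sheaf is diagonal with scalars at the generic points. -/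
theorem exists_scalars (hgi : ∀ (C : Set X) (hC : C ∈ irreducibleComponents (X : Type u)),
      GeometricallyIntegral (VecSt.subschι X C (isClosed_of_mem_irreducibleComponents C hC) ≫
        (X ↘ Spec (CommRingCat.of k))))
    [IsReduced X] (hM : TFOne.IsTF1 X M) (φ : M ⟶ M) :
    ∃ c : X → k, ∀ η ∈ genericPoints (X : Type u), ∀ v,
      RefHull.stalkMapₗ φ η v = toStalk k η (c η) • v := by
  classical
  haveI : Module.Finite k (CategoryTheory.End M) := finite_hom hM.1
  let φ' : CategoryTheory.End M := φ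
  obtain ⟨p, hp, hpz⟩ := Algebra.IsIntegral.isIntegral (R := k) φ'
  have key : ∀ η ∈ genericPoints (X : Type u), ∃ c : k, ∀ v,
      RefHull.stalkMapₗ φ η v = toStalk k η c • v := by
    intro η hη
    obtain ⟨s, hs⟩ := exists_scalar hM.2.2 φ hη
    have h0 : p.eval₂ (toStalk k η) s = 0 := scalar_unique hM.2.2 hη fun v => by
      rw [← stalkMap_aeval φ' hs p v, zero_smul]
      have : (show M ⟶ M from aeval φ' p) = 0 := hpz
      rw [this, stalkMapₗ_zero]
    obtain ⟨c, rfl⟩ := scalar_mem_range hgi hη s p hp h0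
    exact ⟨c, hs⟩
  choose! c hc using key
  exact ⟨c, hc⟩

omit [IsProper (X ↘ Spec (CommRingCat.of k))] in
/-- The image of an idempotent is the torsion-free quotient on the components where it is `1`. -/
theorem isQuotOn_image (hX : IsCurve X) (hM : TFOne.IsTF1 X M) (e : M ⟶ M) (P : X → Prop)
    (h1 : ∀ η ∈ genericPoints (X : Type u), P η → ∀ v, RefHull.stalkMapₗ e η v = v)
    (h0 : ∀ η ∈ genericPoints (X : Type u), ¬ P η → ∀ v, RefHull.stalkMapₗ e η v = 0) :
    TFOne.IsQuotOn X M (⋃ η ∈ {η ∈ genericPoints (X : Type u) | P η}, closure ({η} : Set X))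
      (Abelian.image e) (Abelian.factorThruImage e) := by
  haveI := hX.noeth
  haveI := hM.1.1
  have hG : Coh.IsCoh (Abelian.image e) := QCohMod.isCoh_kernel (cokernel.π e) hM.1
  have hGt := isTorsionFree_of_mono (Abelian.image.ι e) hM.2.1
  refine ⟨inferInstance, hG, hGt, ?_⟩
  rw [support_eq hX hG hGt]
  congr 2 with η
  simp only [Set.mem_ofPred_eq]
  congr! 2
  refine and_congr_right fun hη => ⟨fun hs => ?_, fun hP hs => ?_⟩
  · by_contra hP
    refine hs ⟨fun a b => ?_⟩
    obtain ⟨a', rfl⟩ := surjective_stalkMap (Abelian.factorThruImage e) η a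
    obtain ⟨b', rfl⟩ := surjective_stalkMap (Abelian.factorThruImage e) η b
    apply (QCohMod.mono_iff_stalk (Abelian.image.ι e)).1 inferInstance η
    show RefHull.stalkMapₗ (Abelian.image.ι e) η _ = RefHull.stalkMapₗ (Abelian.image.ι e) η _
    rw [← stalkMapₗ_comp_apply, ← stalkMapₗ_comp_apply, Abelian.image.fac, h0 η hη hP, h0 η hη hP]
  · haveI : Subsingleton ((Abelian.image e).presheaf.stalk η) := hs
    refine mem_support_of_generic hM.2.2 hη ⟨fun a b => ?_⟩
    rw [← h1 η hη hP a, ← h1 η hη hP b, ← Abelian.image.fac e, stalkMapₗ_comp_apply,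
      stalkMapₗ_comp_apply, Subsingleton.elim (RefHull.stalkMapₗ (Abelian.factorThruImage e) η a)]

omit [IsProper (X ↘ Spec (CommRingCat.of k))] in
theorem isSubcurve_biUnion {P : X → Prop} (h : ∃ η ∈ genericPoints (X : Type u), P η) :
    VecSt.IsSubcurve X (⋃ η ∈ {η ∈ genericPoints (X : Type u) | P η}, closure ({η} : Set X)) := by
  obtain ⟨η, hη, hP⟩ := h
  refine ⟨(fun η => closure ({η} : Set X)) '' {η ∈ genericPoints (X : Type u) | P η}, ?_,
    ⟨_, η, ⟨hη, hP⟩, rfl⟩, (Set.sUnion_image _ _).symm⟩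
  rintro _ ⟨x, hx, rfl⟩
  exact hx.1

omit [IsProper (X ↘ Spec (CommRingCat.of k))] in
theorem eq_of_mem_closure_generic {η x : X} (hη : η ∈ genericPoints (X : Type u))
    (hx : x ∈ genericPoints (X : Type u)) (h : η ∈ closure ({x} : Set X)) : η = x := by
  have h1 : closure ({η} : Set X) ⊆ closure ({x} : Set X) :=
    closure_minimal (Set.singleton_subset_iff.2 h) isClosed_closure
  exact (Inseparable.eq (inseparable_iff_closure_eq.2
    (h1.antisymm (hη.2 hx.1 h1))))

/-- A rank-one sheaf on a reduced curve is simple or decomposes. -/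
theorem isSimple_of_not_decomposable (hX : IsCurve X) [IsReduced X] [Nonempty X]
    (hgi : ∀ (C : Set X) (hC : C ∈ irreducibleComponents (X : Type u)),
      GeometricallyIntegral (VecSt.subschι X C (isClosed_of_mem_irreducibleComponents C hC) ≫
        (X ↘ Spec (CommRingCat.of k))))
    (hM : TFOne.IsTF1 X M)
    (hnd : ¬ ∃ (Y Z : Set X) (_ : IsClosed Y) (_ : IsClosed Z) (GY GZ : X.Modules) (πY : M ⟶ GY)
      (πZ : M ⟶ GZ), VecSt.IsSubcurve X Y ∧ VecSt.IsSubcurve X Z ∧ Y ≠ Set.univ ∧ Z ≠ Set.univ ∧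
      TFOne.IsQuotOn X M Y GY πY ∧ TFOne.IsQuotOn X M Z GZ πZ ∧ IsIso (biprod.lift πY πZ)) :
    TFOne.IsSimple X k (X ↘ Spec (CommRingCat.of k)) M := by
  classical
  haveI := hX.noeth
  obtain ⟨η₀, hη₀⟩ : (genericPoints (X : Type u)).Nonempty := by
    obtain ⟨C, hC, -⟩ := exists_mem_irreducibleComponents_subset_of_isIrreducible _
      (isIrreducible_singleton (x := Classical.arbitrary X))
    obtain ⟨η, hη⟩ := QuasiSober.sober hC.1 (isClosed_of_mem_irreducibleComponents C hC)
    exact ⟨η, show closure ({η} : Set X) ∈ irreducibleComponents (X : Type u) from hη.def.symm ▸ hC⟩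
  refine ⟨not_isZero_of_mem_support (mem_support_of_generic hM.2.2 hη₀), fun φ => ?_⟩
  obtain ⟨c, hc⟩ := exists_scalars hgi hM φ
  by_cases hall : ∀ η ∈ genericPoints (X : Type u), c η = c η₀
  · refine ⟨c η₀, ?_⟩
    rw [← KLin.smul_id]
    refine eq_of_generic hX hM.1 hM.1 hM.2.1 _ _ fun η hη v => ?_
    rw [stalkMap_smul, stalkMap_id, hc η hη v, hall η hη]
    rfl
  exfalso
  push Not at hall
  obtain ⟨η₁, hη₁, hne⟩ := hall
  have hfin := (Curves1.CurveMor.finite_genericPoints (X := X))
  let V := hfin.toFinset.image c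
  have hmem : ∀ η ∈ genericPoints (X : Type u), c η ∈ V := fun η hη =>
    Finset.mem_image_of_mem c (hfin.mem_toFinset.2 hη)
  let q : k[X] := Lagrange.basis V id (c η₀)
  let φ' : CategoryTheory.End M := φ
  let e : M ⟶ M := aeval φ' q
  let e' : M ⟶ M := 𝟙 M - e
  have he : ∀ η ∈ genericPoints (X : Type u), ∀ v,
      RefHull.stalkMapₗ e η v = toStalk k η (q.eval (c η)) • v := fun η hη v => by
    exact (stalkMap_aeval φ' (hc η hη) q v).trans (by rw [eval₂_at_apply])
  have h1 : ∀ η ∈ genericPoints (X : Type u), c η = c η₀ → ∀ v, RefHull.stalkMapₗ e η v = v :=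
    fun η hη h v => by
      rw [he η hη, h, show q.eval (c η₀) = 1 from
        Lagrange.eval_basis_self Function.injective_id.injOn (hmem η₀ hη₀), map_one, one_smul]
  have h0 : ∀ η ∈ genericPoints (X : Type u), ¬ c η = c η₀ → ∀ v, RefHull.stalkMapₗ e η v = 0 :=
    fun η hη h v => by
      rw [he η hη, show q.eval (c η) = 0 from
        Lagrange.eval_basis_of_ne (v := id) (Ne.symm h) (hmem η hη), map_zero, zero_smul]
  have h1' : ∀ η ∈ genericPoints (X : Type u), ¬ c η = c η₀ → ∀ v, RefHull.stalkMapₗ e' η v = v :=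
    fun η hη h v => by rw [stalkMap_sub, stalkMap_id, h0 η hη h, sub_zero]
  have h0' : ∀ η ∈ genericPoints (X : Type u), ¬ ¬ c η = c η₀ → ∀ v, RefHull.stalkMapₗ e' η v = 0 :=
    fun η hη h v => by rw [stalkMap_sub, stalkMap_id, h1 η hη (not_not.1 h), sub_self]
  have hidem : e ≫ e = e := eq_of_generic hX hM.1 hM.1 hM.2.1 _ _ fun η hη v => by
    rw [stalkMapₗ_comp_apply]
    by_cases h : c η = c η₀
    · rw [h1 η hη h, h1 η hη h]
    · simp [h0 η hη h]
  have hee' : e ≫ e' = 0 := by rw [Preadditive.comp_sub, Category.comp_id, hidem, sub_self]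
  have he'e : e' ≫ e = 0 := by rw [Preadditive.sub_comp, Category.id_comp, hidem, sub_self]
  have hidem' : e' ≫ e' = e' := by
    rw [Preadditive.sub_comp, Category.id_comp, hee', sub_zero]
  let πY := Abelian.factorThruImage e
  let πZ := Abelian.factorThruImage e'
  have hY := isQuotOn_image hX hM e (fun η => c η = c η₀) h1 h0
  have hZ := isQuotOn_image hX hM e' (fun η => ¬ c η = c η₀) h1' h0'
  haveI : Epi πY := hY.1
  haveI : Epi πZ := hZ.1
  refine hnd ⟨_, _, hY.2.2.2 ▸ CohTwo.isClosed_support _ hY.2.1,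
    hZ.2.2.2 ▸ CohTwo.isClosed_support _ hZ.2.1, _, _, πY, πZ,
    isSubcurve_biUnion (P := fun η => c η = c η₀) ⟨η₀, hη₀, rfl⟩, isSubcurve_biUnion (P := fun η => ¬ c η = c η₀) ⟨η₁, hη₁, hne⟩, ?_, ?_, hY, hZ, ?_⟩
  · intro h
    obtain ⟨x, ⟨hx, hPx⟩, hx'⟩ := Set.mem_iUnion₂.1 (h.ge (Set.mem_univ η₁))
    exact hne (by rwa [eq_of_mem_closure_generic hη₁ hx hx'])
  · intro h
    obtain ⟨x, ⟨hx, hPx⟩, hx'⟩ := Set.mem_iUnion₂.1 (h.ge (Set.mem_univ η₀))
    exact hPx (by rw [← eq_of_mem_closure_generic hη₀ hx hx'])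
  · refine ⟨biprod.desc (Abelian.image.ι e) (Abelian.image.ι e'), ?_, ?_⟩
    · rw [biprod.lift_desc, Abelian.image.fac, Abelian.image.fac, add_sub_cancel]
    · apply biprod.hom_ext' <;> apply biprod.hom_ext <;>
        simp only [biprod.inl_desc_assoc, biprod.inr_desc_assoc, Category.assoc, biprod.lift_fst,
          biprod.lift_snd, Category.comp_id, biprod.inl_fst, biprod.inl_snd, biprod.inr_fst,
          biprod.inr_snd]
      · rw [← cancel_mono (Abelian.image.ι e), ← cancel_epi πY]
        simp only [πY, Category.assoc, Category.id_comp, reassoc_of% (Abelian.image.fac e), reassoc_of% (Abelian.image.fac e'), Abelian.image.fac]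
        exact hidem
      · rw [← cancel_mono (Abelian.image.ι e'), ← cancel_epi πY]
        simp only [πY, πZ, Category.assoc, CategoryTheory.Limits.zero_comp, CategoryTheory.Limits.comp_zero, reassoc_of% (Abelian.image.fac e), reassoc_of% (Abelian.image.fac e'),
          Abelian.image.fac]
        exact hee'
      · rw [← cancel_mono (Abelian.image.ι e), ← cancel_epi πZ]
        simp only [πY, πZ, Category.assoc, CategoryTheory.Limits.zero_comp, CategoryTheory.Limits.comp_zero, reassoc_of% (Abelian.image.fac e), reassoc_of% (Abelian.image.fac e'),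
          Abelian.image.fac]
        exact he'e
      · rw [← cancel_mono (Abelian.image.ι e'), ← cancel_epi πZ]
        simp only [πZ, Category.assoc, Category.id_comp, reassoc_of% (Abelian.image.fac e), reassoc_of% (Abelian.image.fac e'), Abelian.image.fac]
        exact hidem'

omit [IsProper (X ↘ Spec (CommRingCat.of k))] in
/-- A decomposable rank-one sheaf is not simple. -/
theorem not_isSimple_of_decomposition (hX : IsCurve X) (hM : TFOne.IsTF1 X M) {GY GZ : X.Modules}
    {Y Z : Set X} {πY : M ⟶ GY} {πZ : M ⟶ GZ} (hY : TFOne.IsQuotOn X M Y GY πY)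
    (hYc : IsClosed Y) (hne : Y ≠ Set.univ) (hYs : VecSt.IsSubcurve X Y) [IsIso (biprod.lift πY πZ)] :
    ¬ TFOne.IsSimple X k (X ↘ Spec (CommRingCat.of k)) M := by
  haveI := hY.1
  intro hs
  obtain ⟨η, hη, hηY⟩ : ∃ η ∈ genericPoints (X : Type u), η ∉ Y := by
    by_contra! h
    refine hne (Set.eq_univ_of_forall fun x => ?_)
    obtain ⟨C, hC, hxC⟩ := exists_mem_irreducibleComponents_subset_of_isIrreducible _
      (isIrreducible_singleton (x := x))
    obtain ⟨η, hη⟩ := QuasiSober.sober hC.1 (isClosed_of_mem_irreducibleComponents C hC)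
    have := h η (show closure ({η} : Set X) ∈ irreducibleComponents (X : Type u) from hη.def.symm ▸ hC)
    exact closure_minimal (Set.singleton_subset_iff.2 this) hYc (hη.def.ge (hxC rfl))
  let t : GY ⟶ M := biprod.inl ≫ inv (biprod.lift πY πZ)
  obtain ⟨c, hc⟩ := hs.2 (πY ≫ t)
  rw [← KLin.smul_id] at hc
  haveI : Nontrivial (X.presheaf.stalk η) := inferInstance
  haveI : Subsingleton (GY.presheaf.stalk η) :=
    subsingleton_stalk_of_not_mem (hY.2.2.2.symm ▸ hηY)
  have hc0 : c = 0 := (toStalk k η).injective (by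
    rw [map_zero]
    refine scalar_unique hM.2.2 hη fun v => ?_
    have e1 := congrArg (fun f => RefHull.stalkMapₗ f η v) hc
    simp only [stalkMap_smul, stalkMap_id, stalkMapₗ_comp_apply] at e1
    refine e1.symm.trans ?_
    rw [Subsingleton.elim (RefHull.stalkMapₗ πY η v) 0, map_zero, zero_smul])
  rw [hc0] at hc
  replace hc := hc.trans (zero_smul k _)
  have htt : t ≫ biprod.lift πY πZ ≫ biprod.fst = 𝟙 GY := by
    simp only [t, Category.assoc, IsIso.inv_hom_id_assoc, biprod.inl_fst]
  have hz : IsZero GY := by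
    rw [IsZero.iff_id_eq_zero, ← htt, ← cancel_epi πY, ← Category.assoc, hc, CategoryTheory.Limits.zero_comp, CategoryTheory.Limits.comp_zero]
  obtain ⟨S, hS, ⟨C, hC⟩, e⟩ := hYs
  obtain ⟨x, hx⟩ := (hS hC).1.1
  have hxY : x ∈ Y := e ▸ ⟨C, hC, hx⟩
  exact not_isZero_of_mem_support (hY.2.2.2.symm ▸ hxY) hz

end Groth.TFOneAux
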