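import Groth.Prelude.Def_TFOne
import Groth.Agent.S10831
import Groth.Agent.Curves1.CurveMor.Basic
import Groth.Agent.Duality.TorsionFree
import Groth.Agent.Duality.StalkHom
import Groth.Agent.DecShCurve.TorsFree
import Groth.Agent.DecShCurve.Alpha
import Groth.Agent.EulerDeg.Coherent

/-!
# Torsion-free quotients of rank-one sheaves on reduced curves, tested at the generic points
-/

set_option autoImplicit false
set_option linter.style.haveILetI false
set_option backward.isDefEq.respectTransparency.types false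

universe u

open CategoryTheory CategoryTheory.Limits AlgebraicGeometry TopologicalSpace

namespace Groth.TFOneAux

variable {X : Scheme.{u}}

/-- A reduced noetherian scheme all of whose points are generic or closed, without open points. -/
structure IsCurve (X : Scheme.{u}) : Prop where
  noeth : IsNoetherian X
  red : IsReduced X
  cases_pt : ∀ x : X, x ∈ genericPoints (X : Type u) ∨ IsClosed ({x} : Set X)
  not_open : ∀ x : X, ¬ IsOpen ({x} : Set X)

theorem dim_le_one (hpure : ∀ C ∈ irreducibleComponents (X : Type u), topologicalKrullDim C = 1) :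
    topologicalKrullDim X ≤ 1 := by
  rw [Groth.Agent.S10831.result]
  exact iSup₂_le fun C hC => (hpure C hC).le

theorem isCurve (k : Type u) [Field k] [X.Over (Spec (CommRingCat.of k))]
    [IsProper (X ↘ Spec (CommRingCat.of k))] [IsReduced X]
    (hpure : ∀ C ∈ irreducibleComponents (X : Type u), topologicalKrullDim C = 1) : IsCurve X where
  noeth := EulerDeg.isNoetherian_of_proper k X
  red := inferInstance
  cases_pt x := or_iff_not_imp_right.2 fun hx => Curves1.CurveMor.mem_genericPoints_of_isMax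
    (Curves1.CurveMor.isMax_and_height_of_not_isClosed (X ↘ Spec (CommRingCat.of k))
      (dim_le_one hpure) hx).1
  not_open x hx := by
    haveI := EulerDeg.isNoetherian_of_proper k X
    haveI : JacobsonSpace X := LocallyOfFiniteType.jacobsonSpace (X ↘ Spec (CommRingCat.of k))
    have hc : IsClosed ({x} : Set X) :=
      isClosed_singleton_of_isLocallyClosed_singleton hx.isLocallyClosed
    obtain ⟨C, hC, hxC⟩ := exists_mem_irreducibleComponents_subset_of_isIrreducible ({x} : Set X)
      isIrreducible_singleton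
    have hCx : C = {x} := by
      refine subset_antisymm ?_ hxC
      have h1 : C ⊆ closure ({x} : Set X) :=
        (subset_closure_inter_of_isPreirreducible_of_isOpen hC.1.2 hx
          ⟨x, hxC rfl, rfl⟩).trans (closure_mono Set.inter_subset_right)
      exact hc.closure_eq ▸ h1
    have h1 := hpure C hC
    rw [hCx] at h1
    have h0 : topologicalKrullDim ({x} : Set X) ≤ 0 := topologicalKrullDim_zero_of_discreteTopology _
    rw [h1] at h0
    exact absurd h0 (by decide)

theorem subsingleton_stalk_of_not_mem {G : X.Modules} {x : X} (h : x ∉ CohB1.support G) :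
    Subsingleton (G.presheaf.stalk x) := not_not.1 h

theorem surjective_stalkMap {M N : X.Modules} (f : M ⟶ N) [Epi f] (x : X) :
    Function.Surjective (RefHull.stalkMapₗ f x) :=
  (QCohMod.epi_iff_stalk f).1 inferInstance x

/-- At a generic point a nonzero quotient of a rank-one sheaf is isomorphic to it. -/
theorem bijective_of_isRkOne (hX : IsCurve X) {M G : X.Modules} (hM : TFOne.IsRkOne X M)
    (π : M ⟶ G) [Epi π] {η : X} (hη : η ∈ genericPoints (X : Type u)) (h : η ∈ CohB1.support G) :
    Function.Bijective (RefHull.stalkMapₗ π η) := by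
  haveI := hX.red
  refine ⟨?_, surjective_stalkMap π η⟩
  obtain ⟨e⟩ := hM η hη
  let φ := (RefHull.stalkMapₗ π η).comp e.symm.toLinearMap
  letI : Field (X.presheaf.stalk η) := (Duality.TorsionFree.isField_stalk_generic hη).toField
  have hφ : LinearMap.ker φ = ⊥ := by
    refine (eq_bot_or_eq_top (LinearMap.ker φ : Ideal (X.presheaf.stalk η))).resolve_right
      fun ht => h ?_
    rw [LinearMap.ker_eq_top] at ht
    refine ⟨fun a b => ?_⟩
    obtain ⟨a', rfl⟩ := surjective_stalkMap π η a
    obtain ⟨b', rfl⟩ := surjective_stalkMap π η b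
    have ha := LinearMap.congr_fun ht (e a')
    have hb := LinearMap.congr_fun ht (e b')
    simp only [φ, LinearMap.comp_apply, LinearEquiv.coe_coe, LinearEquiv.symm_apply_apply] at ha hb
    rw [ha, hb]
    rfl
  intro a b hab
  refine e.injective (LinearMap.ker_eq_bot.1 hφ ?_)
  simpa [φ] using hab

/-- A coherent subsheaf of a torsion-free sheaf vanishing at the generic points vanishes. -/
theorem isZero_of_generic (hX : IsCurve X) {E A : X.Modules} (hE : _root_.TorSh.IsTorsionFree E)
    (ι : A ⟶ E) [Mono ι] (hA : Coh.IsCoh A)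
    (h : ∀ η ∈ genericPoints (X : Type u), Subsingleton (A.presheaf.stalk η)) : IsZero A := by
  haveI := hX.noeth
  haveI := hX.red
  exact DecShCurve.isZero_of_supportedAtClosed hX.not_open hE ι hA fun x hx =>
    (hX.cases_pt x).resolve_left fun hg => hx (h x hg)

theorem supportedAtClosed_of_generic (hX : IsCurve X) {A : X.Modules}
    (h : ∀ η ∈ genericPoints (X : Type u), Subsingleton (A.presheaf.stalk η)) :
    EulerDeg.SupportedAtClosed A := fun x hx =>
  (hX.cases_pt x).resolve_left fun hg => hx (h x hg)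

theorem subsingleton_stalk_kernel {M N : X.Modules} (f : M ⟶ N) (x : X)
    (h : Function.Injective (RefHull.stalkMapₗ f x)) : Subsingleton ((kernel f).presheaf.stalk x) := by
  have hi : Function.Injective (RefHull.stalkMapₗ (kernel.ι f) x) :=
    (QCohMod.mono_iff_stalk (kernel.ι f)).1 inferInstance x
  refine ⟨fun a b => hi (h ?_)⟩
  rw [← Duality.StalkHom.stalkMapₗ_comp_apply, ← Duality.StalkHom.stalkMapₗ_comp_apply,
    kernel.condition, Duality.StalkHom.stalkMapₗ_zero, Duality.StalkHom.stalkMapₗ_zero]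

/-- A map into a torsion-free sheaf vanishing at the generic points is zero. -/
theorem eq_zero_of_generic (hX : IsCurve X) {A G : X.Modules} (hA : Coh.IsCoh A) (hG : Coh.IsCoh G)
    (hGt : _root_.TorSh.IsTorsionFree G) (f : A ⟶ G)
    (h : ∀ η ∈ genericPoints (X : Type u), ∀ a, RefHull.stalkMapₗ f η a = 0) : f = 0 := by
  haveI := hX.noeth
  haveI := hA.1
  haveI := hG.1
  have hI : Coh.IsCoh (Abelian.image f) :=
    QCohMod.isCoh_kernel (cokernel.π f) hG
  have hz := isZero_of_generic hX hGt (Abelian.image.ι f) hI fun η hη => ⟨fun a b => by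
    have hi : Function.Injective (RefHull.stalkMapₗ (Abelian.image.ι f) η) :=
      (QCohMod.mono_iff_stalk (Abelian.image.ι f)).1 inferInstance η
    obtain ⟨a', rfl⟩ := surjective_stalkMap (Abelian.factorThruImage f) η a
    obtain ⟨b', rfl⟩ := surjective_stalkMap (Abelian.factorThruImage f) η b
    refine hi ?_
    rw [← Duality.StalkHom.stalkMapₗ_comp_apply, ← Duality.StalkHom.stalkMapₗ_comp_apply,
      Abelian.image.fac, h η hη, h η hη]⟩
  rw [← Abelian.image.fac f, hz.eq_zero_of_src (Abelian.image.ι f), comp_zero]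

variable {M GY GZ : X.Modules}

/-- Quotients of a rank-one sheaf: the one with the larger generic support dominates. -/
theorem exists_factor (hX : IsCurve X) (hM : TFOne.IsTF1 X M) {πY : M ⟶ GY} {πZ : M ⟶ GZ}
    {Y Z : Set X} (hY : TFOne.IsQuotOn X M Y GY πY) (hZ : TFOne.IsQuotOn X M Z GZ πZ)
    (h : ∀ η ∈ genericPoints (X : Type u), η ∈ Z → η ∈ Y) :
    ∃ g : GY ⟶ GZ, πY ≫ g = πZ ∧ Epi g := by
  haveI := hX.noeth
  haveI := hY.1
  haveI := hZ.1
  haveI := hY.2.1.1
  have hz : kernel.ι πY ≫ πZ = 0 := by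
    refine eq_zero_of_generic hX (QCohMod.isCoh_kernel πY hM.1) hZ.2.1 hZ.2.2.1 _
      fun η hη a => ?_
    by_cases hηZ : η ∈ CohB1.support GZ
    · have hηY : η ∈ CohB1.support GY := hY.2.2.2.symm ▸ h η hη (hZ.2.2.2 ▸ hηZ)
      have := subsingleton_stalk_kernel πY η (bijective_of_isRkOne hX hM.2.2 πY hη hηY).1
      rw [Subsingleton.elim a 0, map_zero]
    · have := subsingleton_stalk_of_not_mem hηZ
      exact Subsingleton.elim _ _
  refine ⟨Abelian.epiDesc πY πZ hz, Abelian.comp_epiDesc _ _ _, ?_⟩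
  haveI : Epi (πY ≫ Abelian.epiDesc πY πZ hz) := by rw [Abelian.comp_epiDesc]; infer_instance
  exact epi_of_epi πY _

theorem mem_sUnion_components_iff {S : Set X} (hS : IsClosed S) {η : X}
    (hη : η ∈ genericPoints (X : Type u)) :
    η ∈ ⋃₀ {C | C ∈ irreducibleComponents (X : Type u) ∧ C ⊆ S} ↔ η ∈ S :=
  ⟨fun ⟨_, hC, h⟩ => hC.2 h, fun h => ⟨closure {η}, ⟨hη,
    closure_minimal (Set.singleton_subset_iff.2 h) hS⟩, subset_closure rfl⟩⟩

variable (k : Type u) [Field k] [X.Over (Spec (CommRingCat.of k))]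
  [IsProper (X ↘ Spec (CommRingCat.of k))]

/-- `χ` does not increase along an epimorphism which is bijective at the generic points. -/
theorem euler_le_of_epi (hX : IsCurve X) {M N : X.Modules} (hM : Coh.IsCoh M) (hN : Coh.IsCoh N)
    (g : M ⟶ N) [Epi g]
    (h : ∀ η ∈ genericPoints (X : Type u), Function.Injective (RefHull.stalkMapₗ g η)) :
    Curv2.euler k X N ≤ Curv2.euler k X M := by
  haveI := hX.noeth
  haveI := hN.1
  have hS : (ShortComplex.mk (kernel.ι g) g (kernel.condition g)).ShortExact :=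
    { exact := ShortComplex.exact_of_f_is_kernel _ (kernelIsKernel g) }
  have h1 := DecShCurve.euler_ses k hS (QCohMod.isCoh_kernel g hM) hN
  have h2 := EulerDeg.euler_nonneg k (supportedAtClosed_of_generic hX
    fun η hη => subsingleton_stalk_kernel g η (h η hη))
  simp only at h1
  omega

/-- `χ(F_{Y ∪ Z}) + χ(F_W) ≤ χ(F_Y) + χ(F_Z)`. -/
theorem euler_union_add_le (hX : IsCurve X) (hM : TFOne.IsTF1 X M) {Y Z U W : Set X}
    {GU GW : X.Modules} {πY : M ⟶ GY} {πZ : M ⟶ GZ} {πU : M ⟶ GU} {πW : M ⟶ GW}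
    (hY : TFOne.IsQuotOn X M Y GY πY) (hZ : TFOne.IsQuotOn X M Z GZ πZ)
    (hU : TFOne.IsQuotOn X M U GU πU) (hW : TFOne.IsQuotOn X M W GW πW)
    (hUYZ : ∀ η ∈ genericPoints (X : Type u), η ∈ U ↔ η ∈ Y ∨ η ∈ Z)
    (hWYZ : ∀ η ∈ genericPoints (X : Type u), η ∈ W ↔ η ∈ Y ∧ η ∈ Z) :
    Curv2.euler k X GU + Curv2.euler k X GW ≤ Curv2.euler k X GY + Curv2.euler k X GZ := by
  haveI := hX.noeth
  haveI := hY.1
  haveI := hZ.1
  haveI := hU.1
  haveI := hW.1
  haveI := hY.2.1.1
  haveI := hZ.2.1.1
  haveI := hU.2.1.1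
  obtain ⟨aY, haY, _⟩ := exists_factor hX hM hU hY fun η hη h => (hUYZ η hη).2 (.inl h)
  obtain ⟨aZ, haZ, _⟩ := exists_factor hX hM hU hZ fun η hη h => (hUYZ η hη).2 (.inr h)
  obtain ⟨bY, hbY, _⟩ := exists_factor hX hM hY hW fun η hη h => ((hWYZ η hη).1 h).1
  obtain ⟨bZ, hbZ, hbZe⟩ := exists_factor hX hM hZ hW fun η hη h => ((hWYZ η hη).1 h).2
  let φ : GU ⟶ GY ⊞ GZ := biprod.lift aY aZ
  have hbp : Coh.IsCoh (GY ⊞ GZ) := QCohMod.isCoh_biprod hY.2.1 hZ.2.1
  haveI : Mono φ := by
    refine Preadditive.mono_of_isZero_kernel φ (isZero_of_generic hX hU.2.2.1 (kernel.ι φ)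
      (have := hbp.1; QCohMod.isCoh_kernel φ hU.2.1) fun η hη => ?_)
    by_cases hηU : η ∈ CohB1.support GU
    · refine subsingleton_stalk_kernel φ η fun a b hab => ?_
      obtain ⟨a', rfl⟩ := surjective_stalkMap πU η a
      obtain ⟨b', rfl⟩ := surjective_stalkMap πU η b
      have key : ∀ {G : X.Modules} (q : GY ⊞ GZ ⟶ G) (π : M ⟶ G), πU ≫ φ ≫ q = π → [Epi π] →
          η ∈ CohB1.support G → a' = b' := fun q π e _ hG =>
        (bijective_of_isRkOne hX hM.2.2 π hη hG).1 (by
          rw [← e, Duality.StalkHom.stalkMapₗ_comp_apply, Duality.StalkHom.stalkMapₗ_comp_apply,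
            Duality.StalkHom.stalkMapₗ_comp_apply, Duality.StalkHom.stalkMapₗ_comp_apply, hab])
      rw [hU.2.2.2] at hηU
      rcases (hUYZ η hη).1 hηU with h | h
      · rw [key biprod.fst πY (by simp [φ, haY]) (hY.2.2.2.symm ▸ h)]
      · rw [key biprod.snd πZ (by simp [φ, haZ]) (hZ.2.2.2.symm ▸ h)]
    · have := subsingleton_stalk_of_not_mem hηU
      exact subsingleton_stalk_kernel φ η (Function.injective_of_subsingleton _)
  have hQ : Coh.IsCoh (cokernel φ) := QCohMod.isCoh_cokernel φ hbp
  let s : GZ ⟶ cokernel φ := biprod.inr ≫ cokernel.π φ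
  let t : GY ⟶ cokernel φ := biprod.inl ≫ cokernel.π φ
  have hst : πY ≫ t + πZ ≫ s = 0 := by
    have : πU ≫ φ = πY ≫ biprod.inl + πZ ≫ biprod.inr := by
      apply biprod.hom_ext <;> simp [φ, haY, haZ]
    simp only [s, t, ← Category.assoc, ← Preadditive.add_comp, ← this]
    simp
  haveI hse : Epi s := ⟨fun {G} u v huv => by
    rw [← cancel_epi (cokernel.π φ)]
    apply biprod.hom_ext'
    · rw [← cancel_epi πY]
      have e : πY ≫ t = -(πZ ≫ s) := eq_neg_of_add_eq_zero_left hst
      simp only [t] at e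
      simp only [← Category.assoc] at e ⊢
      rw [e, Preadditive.neg_comp, Preadditive.neg_comp]
      simp only [s, Category.assoc] at huv ⊢
      rw [huv]
    · simpa [s] using huv⟩
  haveI hte : Epi t := ⟨fun {G} u v huv => by
    rw [← cancel_epi (cokernel.π φ)]
    apply biprod.hom_ext'
    · simpa [t] using huv
    · rw [← cancel_epi πZ]
      have e : πZ ≫ s = -(πY ≫ t) := eq_neg_of_add_eq_zero_right hst
      simp only [s] at e
      simp only [← Category.assoc] at e ⊢
      rw [e, Preadditive.neg_comp, Preadditive.neg_comp]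
      simp only [t, Category.assoc] at huv ⊢
      rw [huv]⟩
  let ψ : cokernel φ ⟶ GW := cokernel.desc φ (biprod.desc bY (-bZ)) (by
    rw [← cancel_epi πU, comp_zero]
    simp [φ, reassoc_of% haY, reassoc_of% haZ, hbY, hbZ])
  have hsψ : s ≫ ψ = -bZ := by simp [s, ψ]
  haveI : Epi ψ := by
    haveI : Epi (-bZ) := Preadditive.epi_of_cancel_zero _ fun g hg => by
      rw [Preadditive.neg_comp, neg_eq_zero] at hg
      exact (cancel_epi bZ).1 (hg.trans comp_zero.symm)
    haveI : Epi (s ≫ ψ) := by rw [hsψ]; infer_instance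
    exact epi_of_epi s ψ
  have h1 := euler_le_of_epi k hX hQ hW.2.1 ψ fun η hη => ?_
  · have h2 := DecShCurve.euler_mono k φ hU.2.1 hbp
    have h3 := DecShCurve.euler_mono k (biprod.inl : GY ⟶ GY ⊞ GZ) hY.2.1 hbp
    have h4 := EulerDeg.euler_congr k (cokernelBiprodInlIso (X := GY) (Y := GZ))
    omega
  intro a b hab
  by_cases hηZ : η ∈ Z
  · by_cases hηY : η ∈ Y
    · obtain ⟨a', rfl⟩ := surjective_stalkMap s η a
      obtain ⟨b', rfl⟩ := surjective_stalkMap s η b
      obtain ⟨a'', rfl⟩ := surjective_stalkMap πZ η a'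
      obtain ⟨b'', rfl⟩ := surjective_stalkMap πZ η b'
      haveI : Epi (-πW) := Preadditive.epi_of_cancel_zero _ fun g hg => by
        rw [Preadditive.neg_comp, neg_eq_zero] at hg
        exact (cancel_epi πW).1 (hg.trans comp_zero.symm)
      have hw := (bijective_of_isRkOne hX hM.2.2 (-πW) hη
        (hW.2.2.2.symm ▸ (hWYZ η hη).2 ⟨hηY, hηZ⟩)).1 (a₁ := a'') (a₂ := b'') (by
          rw [show -πW = πZ ≫ s ≫ ψ by rw [hsψ, Preadditive.comp_neg, hbZ],
            Duality.StalkHom.stalkMapₗ_comp_apply πZ (s ≫ ψ),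
            Duality.StalkHom.stalkMapₗ_comp_apply πZ (s ≫ ψ)]
          exact (Duality.StalkHom.stalkMapₗ_comp_apply s ψ η _).trans
            (hab.trans (Duality.StalkHom.stalkMapₗ_comp_apply s ψ η _).symm))
      rw [hw]
    · have : Subsingleton (GY.presheaf.stalk η) :=
        subsingleton_stalk_of_not_mem (hY.2.2.2.symm ▸ hηY)
      obtain ⟨a', rfl⟩ := surjective_stalkMap t η a
      obtain ⟨b', rfl⟩ := surjective_stalkMap t η b
      rw [Subsingleton.elim a' b']
  · have : Subsingleton (GZ.presheaf.stalk η) :=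
      subsingleton_stalk_of_not_mem (hZ.2.2.2.symm ▸ hηZ)
    obtain ⟨a', rfl⟩ := surjective_stalkMap s η a
    obtain ⟨b', rfl⟩ := surjective_stalkMap s η b
    rw [Subsingleton.elim a' b']

end Groth.TFOneAux
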