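import Groth.Agent.TFOne.Generic
import Groth.Agent.Duality.SheafHomSections
import Groth.Agent.CohTwo.HomDepth
import Groth.Agent.CohTwo.LocFreeExt
import Groth.Agent.CohC3.Smul
import Groth.Agent.CohC3.QuotSections
import Groth.Agent.Misc7.ClosedImm.Modules
import Groth.Agent.CohTwo.PushClosed
import Groth.Prelude.Def_KLin

/-!
# Simple torsion-free rank-one sheaves: endomorphisms tested at the generic points
-/

set_option autoImplicit false
set_option linter.style.haveILetI false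
set_option backward.isDefEq.respectTransparency.types false

universe u

open CategoryTheory CategoryTheory.Limits AlgebraicGeometry TopologicalSpace

noncomputable section

namespace Groth.TFOneAux

open Duality.StalkHom (stalkMapₗ_comp_apply stalkMapₗ_zero)

variable {k : Type u} [Field k] {X : Scheme.{u}} [X.Over (Spec (CommRingCat.of k))]

variable (k) in
/-- `k` in the local ring at `x`. -/
def toStalk (x : X) : k →+* X.presheaf.stalk x :=
  (X.presheaf.germ ⊤ x trivial).hom.comp (Coh.toGlobal (X ↘ Spec (CommRingCat.of k)))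

theorem stalkMap_smul {M N : X.Modules} (f : M ⟶ N) (a : k) (x : X) (v : M.presheaf.stalk x) :
    RefHull.stalkMapₗ (a • f) x v = toStalk k x a • RefHull.stalkMapₗ f x v := by
  obtain ⟨U, hU, m, rfl⟩ := QCohMod.exists_germ M _ v
  rw [KLin.smul_def, stalkMapₗ_comp_apply, RefHull.stalkMapₗ_germ, ← map_smul]
  refine congrArg _ ?_
  refine (QCohMod.germ_smul M x hU _ m).trans ?_
  refine congrArg (· • QCohMod.germ M x hU m) ?_
  exact TopCat.Presheaf.germ_res_apply X.presheaf (homOfLE le_top) _ hU _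

theorem stalkMap_add {M N : X.Modules} (f g : M ⟶ N) (x : X) (v : M.presheaf.stalk x) :
    RefHull.stalkMapₗ (f + g) x v = RefHull.stalkMapₗ f x v + RefHull.stalkMapₗ g x v := by
  obtain ⟨U, hU, m, rfl⟩ := QCohMod.exists_germ M _ v
  rw [RefHull.stalkMapₗ_germ, RefHull.stalkMapₗ_germ, RefHull.stalkMapₗ_germ, Scheme.Modules.Hom.add_app]
  exact map_add _ _ _

theorem stalkMap_sub {M N : X.Modules} (f g : M ⟶ N) (x : X) (v : M.presheaf.stalk x) :
    RefHull.stalkMapₗ (f - g) x v = RefHull.stalkMapₗ f x v - RefHull.stalkMapₗ g x v := by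
  rw [eq_sub_iff_add_eq, ← stalkMap_add, sub_add_cancel]

theorem stalkMap_id {M : X.Modules} (x : X) (v : M.presheaf.stalk x) :
    RefHull.stalkMapₗ (𝟙 M) x v = v := by
  obtain ⟨U, hU, m, rfl⟩ := QCohMod.exists_germ M _ v
  rw [RefHull.stalkMapₗ_germ]
  rfl

theorem smul_comp' {A B C : X.Modules} (a : k) (f : A ⟶ B) (g : B ⟶ C) : (a • f) ≫ g = a • (f ≫ g) :=
  Linear.smul_comp A B C a f g

theorem comp_smul' {A B C : X.Modules} (a : k) (f : A ⟶ B) (g : B ⟶ C) : f ≫ (a • g) = a • (f ≫ g) :=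
  Linear.comp_smul A B C f a g

theorem eq_of_generic (hX : IsCurve X) {A G : X.Modules} (hA : Coh.IsCoh A) (hG : Coh.IsCoh G)
    (hGt : _root_.TorSh.IsTorsionFree G) (f g : A ⟶ G)
    (h : ∀ η ∈ genericPoints (X : Type u), ∀ a, RefHull.stalkMapₗ f η a = RefHull.stalkMapₗ g η a) :
    f = g :=
  sub_eq_zero.1 (eq_zero_of_generic hX hA hG hGt _ fun η hη a => by
    rw [stalkMap_sub, h η hη a, sub_self])

variable {M : X.Modules}

theorem exists_scalar (hM : TFOne.IsRkOne X M) (φ : M ⟶ M) {η : X}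
    (hη : η ∈ genericPoints (X : Type u)) :
    ∃ s : X.presheaf.stalk η, ∀ v, RefHull.stalkMapₗ φ η v = s • v := by
  obtain ⟨e⟩ := hM η hη
  refine ⟨e (RefHull.stalkMapₗ φ η (e.symm 1)), fun v => e.injective ?_⟩
  obtain ⟨r, rfl⟩ := e.symm.surjective v
  conv_lhs => rw [show e.symm r = r • e.symm 1 by rw [← map_smul, smul_eq_mul, mul_one]]
  rw [map_smul, map_smul, map_smul, e.apply_symm_apply, smul_eq_mul, smul_eq_mul, mul_comm]

theorem scalar_unique (hM : TFOne.IsRkOne X M) {η : X} (hη : η ∈ genericPoints (X : Type u))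
    {s t : X.presheaf.stalk η} (h : ∀ v : M.presheaf.stalk η, s • v = t • v) : s = t := by
  obtain ⟨e⟩ := hM η hη
  have := congrArg e (h (e.symm 1))
  simpa using this

theorem mem_support_of_generic (hM : TFOne.IsRkOne X M) {η : X}
    (hη : η ∈ genericPoints (X : Type u)) : η ∈ CohB1.support M := by
  obtain ⟨e⟩ := hM η hη
  intro hs
  exact zero_ne_one ((e.symm.injective (Subsingleton.elim _ _) : (0 : X.presheaf.stalk η) = 1))

theorem not_isZero_of_mem_support {G : X.Modules} {x : X} (h : x ∈ CohB1.support G) : ¬ IsZero G :=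
  fun hz => by
    rw [(QCohMod.isZero_iff_support_eq_empty G).1 hz] at h
    exact h

/-- The endomorphism induced on a torsion-free quotient of a rank-one sheaf. -/
theorem exists_induced (hX : IsCurve X) (hM : TFOne.IsTF1 X M) {G : X.Modules} {Y : Set X}
    {π : M ⟶ G} (hG : TFOne.IsQuotOn X M Y G π) (φ : M ⟶ M) : ∃ ψ : G ⟶ G, π ≫ ψ = φ ≫ π := by
  haveI := hX.noeth
  haveI := hG.1
  haveI := hG.2.1.1
  refine ⟨Abelian.epiDesc π (φ ≫ π) (eq_zero_of_generic hX (QCohMod.isCoh_kernel π hM.1) hG.2.1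
    hG.2.2.1 _ fun η hη a => ?_), Abelian.comp_epiDesc _ _ _⟩
  by_cases h : η ∈ CohB1.support G
  · have := subsingleton_stalk_kernel π η (bijective_of_isRkOne hX hM.2.2 π hη h).1
    rw [Subsingleton.elim a 0, map_zero]
  · have := subsingleton_stalk_of_not_mem h
    exact Subsingleton.elim _ _

theorem scalar_of_simple (hX : IsCurve X) (hM : TFOne.IsTF1 X M) {G : X.Modules} {Y : Set X}
    {π : M ⟶ G} (hG : TFOne.IsQuotOn X M Y G π)
    (hs : TFOne.IsSimple X k (X ↘ Spec (CommRingCat.of k)) G) (φ : M ⟶ M) :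
    ∃ c : k, ∀ η ∈ genericPoints (X : Type u), η ∈ Y →
      ∀ v, RefHull.stalkMapₗ φ η v = toStalk k η c • v := by
  haveI := hG.1
  obtain ⟨ψ, hψ⟩ := exists_induced hX hM hG φ
  obtain ⟨c, hc⟩ := hs.2 ψ
  have hc' : ψ = c • 𝟙 G := hc.trans (KLin.smul_id G c).symm
  refine ⟨c, fun η hη hY v => (bijective_of_isRkOne hX hM.2.2 π hη (hG.2.2.2.symm ▸ hY)).1 ?_⟩
  rw [map_smul, ← stalkMapₗ_comp_apply, ← hψ, hc', stalkMapₗ_comp_apply, stalkMap_smul, stalkMap_id]

/-- Simplicity glues along a common component. -/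
theorem isSimple_of_union (hX : IsCurve X) [Nontrivial k] (hM : TFOne.IsTF1 X M) {GY GZ : X.Modules} {Y Z : Set X}
    {πY : M ⟶ GY} {πZ : M ⟶ GZ} (hY : TFOne.IsQuotOn X M Y GY πY) (hZ : TFOne.IsQuotOn X M Z GZ πZ)
    (hcov : ∀ η ∈ genericPoints (X : Type u), η ∈ Y ∨ η ∈ Z) {η₀ : X}
    (hη₀ : η₀ ∈ genericPoints (X : Type u)) (h₀Y : η₀ ∈ Y) (h₀Z : η₀ ∈ Z)
    (hsY : TFOne.IsSimple X k (X ↘ Spec (CommRingCat.of k)) GY)
    (hsZ : TFOne.IsSimple X k (X ↘ Spec (CommRingCat.of k)) GZ) :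
    TFOne.IsSimple X k (X ↘ Spec (CommRingCat.of k)) M := by
  refine ⟨not_isZero_of_mem_support (mem_support_of_generic hM.2.2 hη₀), fun φ => ?_⟩
  obtain ⟨c, hc⟩ := scalar_of_simple hX hM hY hsY φ
  obtain ⟨d, hd⟩ := scalar_of_simple hX hM hZ hsZ φ
  haveI : Nontrivial (X.presheaf.stalk η₀) := inferInstance
  obtain rfl : c = d := (toStalk k η₀).injective (scalar_unique hM.2.2 hη₀ fun v => by
    rw [← hc η₀ hη₀ h₀Y, ← hd η₀ hη₀ h₀Z])
  refine ⟨c, ?_⟩
  rw [← KLin.smul_id]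
  refine eq_of_generic hX hM.1 hM.1 hM.2.1 _ _ fun η hη v => ?_
  rw [stalkMap_smul, stalkMap_id]
  rcases hcov η hη with h | h
  exacts [hc η hη h v, hd η hη h v]

/-- An extension of simple sheaves with disjoint generic supports is simple iff it is not split. -/
theorem isSimple_iff_not_isSplitEpi (hX : IsCurve X) (hM : TFOne.IsTF1 X M) {P Q : X.Modules}
    (hP : Coh.IsCoh P) (hQ : Coh.IsCoh Q)
    (hQz : ∀ (A : X.Modules) (f : A ⟶ Q), Coh.IsCoh A →
      (∀ η ∈ genericPoints (X : Type u), ∀ v, RefHull.stalkMapₗ f η v = 0) → f = 0)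
    (hPs : TFOne.IsSimple X k (X ↘ Spec (CommRingCat.of k)) P)
    (hQs : TFOne.IsSimple X k (X ↘ Spec (CommRingCat.of k)) Q)
    (a : P ⟶ M) (b : M ⟶ Q) (w : a ≫ b = 0) (hex : (ShortComplex.mk a b w).ShortExact) :
    TFOne.IsSimple X k (X ↘ Spec (CommRingCat.of k)) M ↔ ¬ IsSplitEpi b := by
  haveI : Mono a := hex.mono_f
  haveI : Epi b := hex.epi_g
  haveI := hX.red
  have disj : ∀ η ∈ genericPoints (X : Type u),
      Subsingleton (P.presheaf.stalk η) ∨ Subsingleton (Q.presheaf.stalk η) := by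
    intro η hη
    refine or_iff_not_imp_right.2 fun hq => ⟨fun v₁ v₂ => ?_⟩
    have key : ∀ v : P.presheaf.stalk η, v = 0 := by
      intro v
      have hi : Function.Injective (RefHull.stalkMapₗ a η) :=
        (QCohMod.mono_iff_stalk a).1 inferInstance η
      refine hi (Eq.trans ?_ (map_zero _).symm)
      refine (bijective_of_isRkOne hX hM.2.2 b hη hq).1 ?_
      rw [map_zero, ← stalkMapₗ_comp_apply, w, stalkMapₗ_zero]
    rw [key v₁, key v₂]
  constructor
  · intro hs hsp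
    obtain ⟨⟨s, hbs⟩⟩ := hsp
    obtain ⟨c, hc⟩ := hs.2 (b ≫ s)
    rw [← KLin.smul_id] at hc
    have ha : c • a = 0 := by
      have := congrArg (a ≫ ·) hc
      simp only [reassoc_of% w, zero_comp, comp_smul', Category.comp_id] at this
      exact this.symm
    have hc0 : c = 0 := by
      by_contra hne
      exact hPs.1 (IsZero.of_mono_eq_zero a ((smul_eq_zero_iff_right hne).1 ha))
    rw [hc0] at hc
    replace hc := hc.trans (zero_smul k _)
    refine hQs.1 ((IsZero.iff_id_eq_zero Q).2 ?_)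
    rw [← hbs, ← cancel_epi b, ← Category.assoc, hc, zero_comp, comp_zero]
  · intro hsp
    refine ⟨fun hz => hPs.1 (IsZero.of_mono a hz), fun φ => ?_⟩
    have h1 : (a ≫ φ) ≫ b = 0 := hQz _ _ hP fun x hx v => by
      obtain ⟨s, hs⟩ := exists_scalar hM.2.2 φ hx
      rw [stalkMapₗ_comp_apply, stalkMapₗ_comp_apply, hs, map_smul, ← stalkMapₗ_comp_apply,
        w, stalkMapₗ_zero, smul_zero]
    have hf := hex.fIsKernel
    obtain ⟨ψ, hψ⟩ : ∃ ψ : P ⟶ P, ψ ≫ a = a ≫ φ :=
      ⟨hf.lift (KernelFork.ofι (a ≫ φ) h1), hf.fac (KernelFork.ofι (a ≫ φ) h1) WalkingParallelPair.zero⟩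
    obtain ⟨c, hc⟩ := hPs.2 ψ
    rw [← KLin.smul_id] at hc
    have hac : a ≫ φ = c • a := by rw [← hψ, hc, smul_comp', Category.id_comp]; rfl
    have hg := hex.gIsCokernel
    have h2 : a ≫ (φ ≫ b) = 0 := by rw [← Category.assoc, h1]
    obtain ⟨χ, hχ⟩ : ∃ χ : Q ⟶ Q, b ≫ χ = φ ≫ b :=
      ⟨hg.desc (CokernelCofork.ofπ (φ ≫ b) h2),
        hg.fac (CokernelCofork.ofπ (φ ≫ b) h2) WalkingParallelPair.one⟩
    obtain ⟨d, hd⟩ := hQs.2 χ
    rw [← KLin.smul_id] at hd
    have hbd : φ ≫ b = d • b := by rw [← hχ, hd, comp_smul', Category.comp_id]; rfl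
    have h3 : (φ - d • 𝟙 M) ≫ b = 0 := by
      rw [Preadditive.sub_comp, hbd, smul_comp', Category.id_comp, sub_self]
    obtain ⟨h, hh⟩ : ∃ h : M ⟶ P, h ≫ a = φ - d • 𝟙 M :=
      ⟨hf.lift (KernelFork.ofι (φ - d • 𝟙 M) h3),
        hf.fac (KernelFork.ofι (φ - d • 𝟙 M) h3) WalkingParallelPair.zero⟩
    have hah : a ≫ h = (c - d) • 𝟙 P := by
      rw [← cancel_mono a, Category.assoc, hh, Preadditive.comp_sub, hac, comp_smul',
        Category.comp_id, smul_comp', Category.id_comp, sub_smul]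
    obtain rfl : c = d := by
      by_contra hne
      let r : M ⟶ P := (c - d)⁻¹ • h
      have har : a ≫ r = 𝟙 P := by
        simp only [r, comp_smul', hah, smul_smul, inv_mul_cancel₀ (sub_ne_zero.2 hne), one_smul]
      have hr' : a ≫ (𝟙 M - r ≫ a) = 0 := by
        rw [Preadditive.comp_sub, Category.comp_id, ← Category.assoc, har, Category.id_comp, sub_self]
      obtain ⟨t, ht⟩ : ∃ t : Q ⟶ M, b ≫ t = 𝟙 M - r ≫ a :=
        ⟨hg.desc (CokernelCofork.ofπ _ hr'), hg.fac (CokernelCofork.ofπ _ hr') WalkingParallelPair.one⟩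
      refine hsp ⟨⟨⟨t, (cancel_epi b).1 ?_⟩⟩⟩
      have hg' := ht
      rw [← Category.assoc]
      refine (congrArg (· ≫ b) hg').trans ?_
      rw [Preadditive.sub_comp, Category.assoc, w, comp_zero, sub_zero, Category.id_comp,
        Category.comp_id]
    have hah0 : a ≫ h = 0 := by rw [hah, sub_self, zero_smul]
    obtain ⟨g, hbg⟩ : ∃ g : Q ⟶ P, b ≫ g = h :=
      ⟨hg.desc (CokernelCofork.ofπ h hah0), hg.fac (CokernelCofork.ofπ h hah0) WalkingParallelPair.one⟩
    have hga : g ≫ a = 0 := eq_zero_of_generic hX hQ hM.1 hM.2.1 _ fun x hx v => by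
      rw [stalkMapₗ_comp_apply]
      rcases disj x hx with hp | hq
      · rw [Subsingleton.elim (RefHull.stalkMapₗ g x v) 0, map_zero]
      · rw [Subsingleton.elim v 0, map_zero, map_zero]
    refine ⟨c, ?_⟩
    rw [← KLin.smul_id, ← sub_eq_zero]
    refine hh.symm.trans ?_
    rw [← hbg, Category.assoc, hga, comp_zero]

/-- The direct image of a simple sheaf under a closed immersion is simple. -/
theorem isSimple_push {Z : Scheme.{u}} (i : Z ⟶ X) [IsClosedImmersion i] {J : Z.Modules}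
    (hJ : TFOne.IsSimple Z k (i ≫ (X ↘ Spec (CommRingCat.of k))) J) :
    TFOne.IsSimple X k (X ↘ Spec (CommRingCat.of k)) ((Scheme.Modules.pushforward i).obj J) := by
  letI : Z.Over (Spec (CommRingCat.of k)) := ⟨i ≫ (X ↘ Spec (CommRingCat.of k))⟩
  haveI := (Misc7.ClosedImm.fullyFaithfulPush i).faithful
  haveI := (Misc7.ClosedImm.fullyFaithfulPush i).full
  refine ⟨fun hz => hJ.1 ?_, fun φ => ?_⟩
  · rw [IsZero.iff_id_eq_zero] at hz ⊢
    exact (Scheme.Modules.pushforward i).map_injective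
      (by rw [CategoryTheory.Functor.map_id, Functor.map_zero]; exact hz)
  · obtain ⟨c, hc⟩ := hJ.2 ((Scheme.Modules.pushforward i).preimage φ)
    refine ⟨c, ?_⟩
    rw [← (Scheme.Modules.pushforward i).map_preimage φ, hc]
    exact CohC3.pushforward_map_smulMod (f := i) rfl J c

end Groth.TFOneAux
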