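import Groth.Agent.TFOne.Generic
import Groth.Agent.Misc7.ClosedImm.Modules
import Groth.Agent.CohTwo.PushClosed
import Groth.Agent.QCohMod.Pullback

/-!
# Torsion-free sheaves on a subcurve have no sections supported at points
-/

set_option autoImplicit false
set_option linter.style.haveILetI false
set_option backward.isDefEq.respectTransparency.types false

universe u

open CategoryTheory CategoryTheory.Limits AlgebraicGeometry TopologicalSpace

namespace Groth.TFOneAux

open Duality.StalkHom (stalkMapₗ_comp_apply stalkMapₗ_zero)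

variable {X Z : Scheme.{u}}

theorem not_open_of_closedImmersion (i : Z ⟶ X) [IsClosedImmersion i] (hX : IsCurve X)
    (hZ : ∀ z : Z, ∃ C ∈ irreducibleComponents (X : Type u), i z ∈ C ∧ C ⊆ Set.range i)
    (hJ : JacobsonSpace X) (z : Z) : ¬ IsOpen ({z} : Set Z) := by
  intro hz
  haveI := hX.noeth
  obtain ⟨V, hV, e⟩ := i.isClosedEmbedding.isInducing.isOpen_iff.1 hz
  have hlc : IsLocallyClosed ({i z} : Set X) := by
    refine ⟨V, Set.range i, hV, i.isClosedEmbedding.isClosed_range, ?_⟩
    rw [Set.inter_comm, ← Set.image_preimage_eq_range_inter, e, Set.image_singleton]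
  have hc := isClosed_singleton_of_isLocallyClosed_singleton hlc
  obtain ⟨C, hC, hzC, hCr⟩ := hZ z
  have hsub : C ∩ V ⊆ {i z} := by
    rintro x ⟨hxC, hxV⟩
    obtain ⟨w, rfl⟩ := hCr hxC
    have : w ∈ i ⁻¹' V := hxV
    rw [e] at this
    rw [Set.mem_singleton_iff.1 this]; rfl
  have hzV : i z ∈ V := by
    have : z ∈ i ⁻¹' V := by rw [e]; rfl
    exact this
  have hCx : C ⊆ {i z} :=
    (subset_closure_inter_of_isPreirreducible_of_isOpen hC.1.2 hV ⟨i z, hzC, hzV⟩).trans
      ((closure_mono hsub).trans hc.closure_eq.le)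
  obtain ⟨η, hη⟩ := QuasiSober.sober hC.1 (isClosed_of_mem_irreducibleComponents C hC)
  have hηg : η ∈ genericPoints (X : Type u) := by
    show closure ({η} : Set X) ∈ irreducibleComponents (X : Type u)
    rw [hη.def]; exact hC
  -- a closed generic point is open
  have hgen : closure ({i z} : Set X) ∈ irreducibleComponents (X : Type u) :=
    (show η = i z from hCx hη.mem) ▸ hηg
  refine hX.not_open (i z) ?_
  have hfin := TopologicalSpace.NoetherianSpace.finite_irreducibleComponents (α := X)
  have hcl : IsClosed (⋃₀ (irreducibleComponents (X : Type u) \ {{i z}})) :=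
    Set.sUnion_eq_biUnion ▸ hfin.sdiff.isClosed_biUnion fun C hC =>
      isClosed_of_mem_irreducibleComponents C hC.1
  have : ({i z} : Set X) = (⋃₀ (irreducibleComponents (X : Type u) \ {{i z}}))ᶜ := by
    refine Set.ext fun x => ⟨fun hx hx' => ?_, fun hx => ?_⟩
    · obtain ⟨C, ⟨hC, hCne⟩, hxC⟩ := hx'
      rw [hc.closure_eq] at hgen
      exact hCne (subset_antisymm (hgen.2 hC.1 (Set.singleton_subset_iff.2 ((hx : x = i z) ▸ hxC)))
        (Set.singleton_subset_iff.2 ((hx : x = i z) ▸ hxC)))
    · by_contra hne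
      obtain ⟨C, hC, hxC⟩ := exists_mem_irreducibleComponents_subset_of_isIrreducible ({x} : Set X)
        isIrreducible_singleton
      exact hx ⟨C, ⟨hC, fun h => hne ((h : C = {i z}) ▸ hxC rfl)⟩, hxC rfl⟩
  rw [this]
  exact hcl.isOpen_compl

theorem subscheme_not_open (k : Type u) [Field k] [X.Over (Spec (CommRingCat.of k))]
    [IsProper (X ↘ Spec (CommRingCat.of k))] (hX : IsCurve X) {Y : Set X} (hY : IsClosed Y)
    (hYs : VecSt.IsSubcurve X Y) : ∀ z : VecSt.subsch X Y hY, ¬ IsOpen ({z} : Set (VecSt.subsch X Y hY)) := by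
  have hr : Set.range (VecSt.subschι X Y hY) = Y := by
    simp [VecSt.subschι, Scheme.IdealSheafData.range_subschemeι]
  refine not_open_of_closedImmersion (VecSt.subschι X Y hY) hX (fun z => ?_)
    (LocallyOfFiniteType.jacobsonSpace (X ↘ Spec (CommRingCat.of k)))
  obtain ⟨S, hS, -, e⟩ := hYs
  have hz : VecSt.subschι X Y hY z ∈ Y := by
    have := Set.mem_range_self (f := VecSt.subschι X Y hY) z
    rwa [hr] at this
  replace hz := e.le hz
  obtain ⟨C, hC, hzC⟩ := hz
  exact ⟨C, hS hC, hzC, hr.symm ▸ (Set.subset_sUnion_of_mem hC).trans e.ge⟩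

/-- A map into `i_* J` vanishing at the generic points is zero, for `J` torsion-free. -/
theorem eq_zero_push (hX : IsCurve X) (i : Z ⟶ X) [IsClosedImmersion i] [IsNoetherian Z]
    [IsReduced Z] (hiso : ∀ z : Z, ¬ IsOpen ({z} : Set Z)) {J : Z.Modules} (hJ : Coh.IsCoh J)
    (hJt : _root_.TorSh.IsTorsionFree J) {A : X.Modules} (hA : Coh.IsCoh A)
    (f : A ⟶ (Scheme.Modules.pushforward i).obj J)
    (h : ∀ η ∈ genericPoints (X : Type u), ∀ a, RefHull.stalkMapₗ f η a = 0) : f = 0 := by
  haveI := hX.noeth
  have hP := CohTwo.isCoh_push i hJ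
  haveI := hP.1
  haveI := hA.1
  let I := Abelian.image f
  let ι : I ⟶ (Scheme.Modules.pushforward i).obj J := Abelian.image.ι f
  have hI : Coh.IsCoh I := QCohMod.isCoh_kernel (cokernel.π f) hP
  have hi : ∀ x, Function.Injective (RefHull.stalkMapₗ ι x) :=
    (QCohMod.mono_iff_stalk ι).1 inferInstance
  have hsupp : EulerDeg.SupportedAtClosed I := supportedAtClosed_of_generic hX fun η hη => ⟨fun a b => by
    obtain ⟨a', rfl⟩ := surjective_stalkMap (Abelian.factorThruImage f) η a
    obtain ⟨b', rfl⟩ := surjective_stalkMap (Abelian.factorThruImage f) η b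
    refine hi η ?_
    rw [← stalkMapₗ_comp_apply, ← stalkMapₗ_comp_apply, Abelian.image.fac, h η hη, h η hη]⟩
  have hk : Misc7.ClosedImm.Killed i I :=
    ⟨fun x hx t => hi x (((Misc7.ClosedImm.killed_push i J).outside x hx _).trans (map_zero _).symm),
      fun z a ha t => hi (i z) (by
        rw [map_smul, map_zero]
        exact (Misc7.ClosedImm.killed_push i J).killed z a ha _)⟩
  haveI := Misc7.ClosedImm.isIso_unit i hk
  let j : (Scheme.Modules.pullback i).obj I ⟶ J :=
    ((Scheme.Modules.pullbackPushforwardAdjunction i).homEquiv I J).symm ι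
  have hj : (Scheme.Modules.pullbackPushforwardAdjunction i).unit.app I ≫
      (Scheme.Modules.pushforward i).map j = ι := by
    exact (Adjunction.homEquiv_unit _ I J j).symm.trans (Equiv.apply_symm_apply _ _)
  haveI : Mono j := by
    haveI := (Misc7.ClosedImm.fullyFaithfulPush i).faithful
    haveI : Mono ((Scheme.Modules.pushforward i).map j) := by
      rw [(IsIso.eq_inv_comp _).2 hj]
      infer_instance
    exact (Scheme.Modules.pushforward i).mono_of_mono_map inferInstance
  have hI' : Coh.IsCoh ((Scheme.Modules.pullback i).obj I) := haveI := hI.1; ⟨QCohMod.isQCoh_pullback_obj i I, QCohMod.isFT_pullback i I hI.2⟩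
  have hz := DecShCurve.isZero_of_supportedAtClosed hiso hJt j hI' fun z hz => by
    have hiz : i z ∈ CohB1.support I := fun hs => hz <| by
      haveI : Subsingleton (I.presheaf.stalk (i z)) := hs
      exact (Misc7.ClosedImm.pullGerm_bijective i hk z).surjective.subsingleton
    have := (hsupp _ hiz).preimage i.continuous
    rwa [show i ⁻¹' ({i z} : Set X) = {z} from Set.ext fun w =>
      ⟨fun e => i.isClosedEmbedding.injective e, fun e => congrArg _ e⟩] at this
  have hι : ι = 0 := by
    rw [← hj, hz.eq_of_src j 0, Functor.map_zero, comp_zero]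
  rw [← Abelian.image.fac f]
  show Abelian.factorThruImage f ≫ ι = 0
  rw [hι, comp_zero]

end Groth.TFOneAux
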