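import Groth.Agent.TFOne.Numeric

/-!
# Inequalities between `β` and `β^Y`
-/

set_option autoImplicit false
set_option linter.style.haveILetI false
set_option backward.isDefEq.respectTransparency.types false

universe u

open CategoryTheory CategoryTheory.Limits AlgebraicGeometry TopologicalSpace

noncomputable section

namespace Groth.TFOneAux

variable {k : Type u} [Field k] {X : Scheme.{u}} [X.Over (Spec (CommRingCat.of k))]
  [IsProper (X ↘ Spec (CommRingCat.of k))] [IsReduced X] {M M' GY : X.Modules} {πY : M ⟶ GY}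
  {E : X.Modules} {r : ℕ} {Y Z W : Set X} {GW GU GZ G1 G2 : X.Modules} {πW : M ⟶ GW} {πU : M ⟶ GU}
  {πZ : M' ⟶ GZ} {π1 : M' ⟶ G1} {π2 : M' ⟶ G2}

local notation "β" => TFOne.rBeta X k (X ↘ Spec (CommRingCat.of k))

/-- `β^Y(Z) + β(Y) = β(W) + β(Y ∪ Z) + r n` with `n ≥ 0`. -/
theorem Modif.beta (S : Modif M πY M')
    (hpure : ∀ C ∈ irreducibleComponents (X : Type u), topologicalKrullDim C = 1)
    (hE : FlatMod.IsFinLocFreeOfRank r E) (hM : TFOne.IsTF1 X M) (hY : IsClosed Y) (hZ : IsClosed Z)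
    (hGY : TFOne.IsQuotOn X M Y GY πY) (hGZ : TFOne.IsQuotOn X M' Z GZ πZ)
    (hW : W = ⋃₀ {C | C ∈ irreducibleComponents (X : Type u) ∧ C ⊆ Y ∩ Z}) (hWc : IsClosed W)
    (hGW : TFOne.IsQuotOn X M W GW πW) (hGU : TFOne.IsQuotOn X M (Y ∪ Z) GU πU) :
    ∃ n : ℤ, 0 ≤ n ∧
      Curv2.euler k X GZ + Curv2.euler k X GY = Curv2.euler k X GU + Curv2.euler k X GW + n ∧
      β Z hZ E r GZ + β Y hY E r GY = β W hWc E r GW + β (Y ∪ Z) (hY.union hZ) E r GU + r * n := by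
  have hX := isCurve k hpure
  haveI := hX.noeth
  have hM' := S.isTF1 hX hM hGY
  obtain ⟨n, hn, h1, h2, -⟩ := S.numeric (k := k) hX hE hM hGY hGU hGW hGZ (fun η _ => Set.mem_union η Y Z)
    (fun η hη => by rw [hW, mem_sUnion_components_iff (hY.inter hZ) hη]; rfl)
  refine ⟨n, hn, h1, ?_⟩
  rw [rBeta_eq_phi k hpure hE hM' hZ hGZ, rBeta_eq_phi k hpure hE hM hY hGY,
    rBeta_eq_phi k hpure hE hM hWc hGW, rBeta_eq_phi k hpure hE hM (hY.union hZ) hGU]
  linear_combination h2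

/-- `β(X) = 0` for a polarisation of degree `-r χ(M)`. -/
theorem beta_univ (hpure : ∀ C ∈ irreducibleComponents (X : Type u), topologicalKrullDim C = 1)
    (hE : FlatMod.IsFinLocFreeOfRank r E) (hM : TFOne.IsTF1 X M) {d : ℤ}
    (hd : Curv2.euler k X M = d) (hdeg : Curv2.deg k X E r = -(r : ℤ) * d) (h : IsClosed (Set.univ : Set X))
    {G : X.Modules} {π : M ⟶ G} (hG : TFOne.IsQuotOn X M Set.univ G π) : β Set.univ h E r G = 0 := by
  have hX := isCurve k hpure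
  obtain ⟨e, -⟩ := exists_iso hX hM hG (isQuotOn_self hX hM) fun _ _ => Iff.rfl
  rw [rBeta_eq_phi k hpure hE hM h hG, phi_congr k e, phi_self k hpure hE hM, hd, hdeg]
  ring

/-- `β` only depends on the generic points. -/
theorem beta_congr (hpure : ∀ C ∈ irreducibleComponents (X : Type u), topologicalKrullDim C = 1)
    (hE : FlatMod.IsFinLocFreeOfRank r E) (hM : TFOne.IsTF1 X M) {S T : Set X} (hS : IsClosed S)
    (hT : IsClosed T) {G G' : X.Modules} {π : M ⟶ G} {π' : M ⟶ G'}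
    (hG : TFOne.IsQuotOn X M S G π) (hG' : TFOne.IsQuotOn X M T G' π')
    (h : ∀ η ∈ genericPoints (X : Type u), η ∈ S ↔ η ∈ T) : β S hS E r G = β T hT E r G' := by
  obtain ⟨e, -⟩ := exists_iso (isCurve k hpure) hM hG hG' h
  rw [rBeta_eq_phi k hpure hE hM hS hG, rBeta_eq_phi k hpure hE hM hT hG', phi_congr k e]

/-- The lower bound for `β^Y`. -/
theorem Modif.beta_ge (S : Modif M πY M')
    (hpure : ∀ C ∈ irreducibleComponents (X : Type u), topologicalKrullDim C = 1)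
    (hE : FlatMod.IsFinLocFreeOfRank r E) (hM : TFOne.IsTF1 X M) (hY : IsClosed Y) (hZ : IsClosed Z)
    (hYs : VecSt.IsSubcurve X Y) (hZs : VecSt.IsSubcurve X Z)
    (hGY : TFOne.IsQuotOn X M Y GY πY) (hGZ : TFOne.IsQuotOn X M' Z GZ πZ) {b : ℤ}
    (hb : ∀ (T : Set X) (hT : IsClosed T), VecSt.IsSubcurve X T → ∀ (G : X.Modules) (π : M ⟶ G),
      TFOne.IsQuotOn X M T G π → b ≤ β T hT E r G) :
    ∃ (U V : Set X) (hU : IsClosed U) (hV : IsClosed V) (G G' : X.Modules) (π : M ⟶ G) (π' : M ⟶ G'),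
      Z ⊆ U ∧ (VecSt.IsSubcurve X V ∨ V = ∅) ∧ V = ⋃₀ {C | C ∈ irreducibleComponents (X : Type u) ∧ C ⊆ Y ∩ Z} ∧
      TFOne.IsQuotOn X M U G π ∧ TFOne.IsQuotOn X M V G' π' ∧ VecSt.IsSubcurve X U ∧
      b ≤ β U hU E r G ∧ (b ≤ β V hV E r G' ∨ β V hV E r G' = 0) ∧
      β V hV E r G' + β U hU E r G ≤ β Z hZ E r GZ + β Y hY E r GY := by
  have hX := isCurve k hpure
  haveI := hX.noeth
  obtain ⟨S₁, hS₁, hne, e₁⟩ := hYs
  obtain ⟨S₂, hS₂, -, e₂⟩ := hZs
  obtain ⟨GU', πU', hGU'⟩ := exists_quot_on_union hX hM (Set.union_subset hS₁ hS₂)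
  have hUeq : ⋃₀ (S₁ ∪ S₂) = Y ∪ Z := by rw [Set.sUnion_union, e₁, e₂]
  have hGU : TFOne.IsQuotOn X M (Y ∪ Z) GU' πU' := hUeq ▸ hGU'
  have hUs : VecSt.IsSubcurve X (Y ∪ Z) :=
    ⟨S₁ ∪ S₂, Set.union_subset hS₁ hS₂, hne.mono Set.subset_union_left, hUeq.symm⟩
  have hV₀ : {C | C ∈ irreducibleComponents (X : Type u) ∧ C ⊆ Y ∩ Z} ⊆ irreducibleComponents (X : Type u) :=
    fun C hC => hC.1
  obtain ⟨GV, πV, hGV⟩ := exists_quot_on_union hX hM hV₀
  have hVc := isClosed_sUnion_components hV₀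
  obtain ⟨n, hn, -, h⟩ := S.beta (k := k) hpure hE hM hY hZ hGY hGZ rfl hVc hGV hGU
  have hrn : (0 : ℤ) ≤ r * n := mul_nonneg (Int.natCast_nonneg r) hn
  have hVsub : VecSt.IsSubcurve X (⋃₀ {C | C ∈ irreducibleComponents (X : Type u) ∧ C ⊆ Y ∩ Z}) ∨
      (⋃₀ {C | C ∈ irreducibleComponents (X : Type u) ∧ C ⊆ Y ∩ Z}) = ∅ := by
    rcases Set.eq_empty_or_nonempty {C | C ∈ irreducibleComponents (X : Type u) ∧ C ⊆ Y ∩ Z} with h | h
    · exact .inr (by rw [h, Set.sUnion_empty])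
    · exact .inl ⟨_, hV₀, h, rfl⟩
  refine ⟨Y ∪ Z, _, hY.union hZ, hVc, GU', GV, πU', πV, Set.subset_union_right, hVsub, rfl, hGU, hGV,
    hUs, hb _ _ hUs _ _ hGU, ?_, by linarith⟩
  rcases hVsub with h' | h'
  · exact .inl (hb _ hVc h' _ _ hGV)
  · refine .inr ?_
    have hz : IsZero GV := (QCohMod.isZero_iff_support_eq_empty GV).2 (hGV.2.2.2.trans h')
    rw [rBeta_eq_phi k hpure hE hM hVc hGV, phi_isZero hE hGV.2.1 hz]

/-- `χ(M) = χ(GY) + χ(M'_{Y'})` and `χ(M') = χ(M)`. -/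
theorem Modif.euler_complement (S : Modif M πY M')
    (hpure : ∀ C ∈ irreducibleComponents (X : Type u), topologicalKrullDim C = 1)
    (hM : TFOne.IsTF1 X M) (hY : IsClosed Y) (hGY : TFOne.IsQuotOn X M Y GY πY) {Y' : Set X}
    (hY' : Y' = ⋃₀ {C | C ∈ irreducibleComponents (X : Type u) ∧ ¬ C ⊆ Y})
    (hG2 : TFOne.IsQuotOn X M' Y' G2 π2) :
    Curv2.euler k X M = Curv2.euler k X GY + Curv2.euler k X G2 ∧
      Curv2.euler k X M' = Curv2.euler k X M ∧
      ∀ η ∈ genericPoints (X : Type u), η ∈ Y ↔ η ∉ Y' := by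
  have hX := isCurve k hpure
  haveI := hX.noeth
  haveI := hGY.1
  haveI := hGY.2.1.1
  have hgen : ∀ η ∈ genericPoints (X : Type u), η ∈ Y ↔ η ∉ Y' := by
    intro η hη
    refine ⟨fun h hY'' => ?_, fun h => ?_⟩
    · rw [hY'] at hY''
      obtain ⟨C, ⟨hC, hCY⟩, hηC⟩ := hY''
      obtain ⟨η', hη'⟩ := QuasiSober.sober hC.1 (isClosed_of_mem_irreducibleComponents C hC)
      have hg : η' ∈ genericPoints (X : Type u) := by
        show closure ({η'} : Set X) ∈ irreducibleComponents (X : Type u)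
        rw [hη'.def]; exact hC
      obtain rfl := eq_of_mem_closure_generic hη hg (hη'.def.ge hηC)
      exact hCY (hη'.def ▸ closure_minimal (Set.singleton_subset_iff.2 h) hY)
    · by_contra hne
      exact h (hY' ▸ ⟨closure {η}, ⟨hη, fun hc => hne (hc (subset_closure rfl))⟩, subset_closure rfl⟩)
  have h := S.outside_eq (fun A => Curv2.euler k X A) hX
    (fun S hS a _ c => DecShCurve.euler_ses k hS a c) (fun e => EulerDeg.euler_congr k e) hM hGY
    (isQuotOn_self hX hM) hG2 (fun _ _ _ => trivial)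
    (fun η hη => ⟨fun h => ⟨trivial, fun h' => (hgen η hη).1 h' h⟩,
      fun h => not_not.1 fun h' => h.2 ((hgen η hη).2 h')⟩)
  refine ⟨h, ?_, hgen⟩
  have hK : Coh.IsCoh (kernel πY) := QCohMod.isCoh_kernel πY hM.1
  have h1 := DecShCurve.euler_ses k S.short hGY.2.1 hK
  have hS : (ShortComplex.mk (kernel.ι πY) πY (kernel.condition πY)).ShortExact :=
    { exact := ShortComplex.exact_of_f_is_kernel _ (kernelIsKernel πY) }
  have h2 := DecShCurve.euler_ses k hS hK hGY.2.1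
  simp only at h1 h2
  omega

/-- `I^Y(s)` decomposes at `Y` iff `β^Y(Y) = β(Y)`. -/
theorem Modif.decomposes_iff (S : Modif M πY M')
    (hpure : ∀ C ∈ irreducibleComponents (X : Type u), topologicalKrullDim C = 1)
    (hr : 0 < r) (hM : TFOne.IsTF1 X M) (hY : IsClosed Y) (hGY : TFOne.IsQuotOn X M Y GY πY)
    {Y' : Set X} (hY' : Y' = ⋃₀ {C | C ∈ irreducibleComponents (X : Type u) ∧ ¬ C ⊆ Y})
    (hG1 : TFOne.IsQuotOn X M' Y G1 π1) (hG2 : TFOne.IsQuotOn X M' Y' G2 π2) :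
    β Y hY E r G1 = β Y hY E r GY ↔ IsIso (biprod.lift π1 π2) := by
  have hX := isCurve k hpure
  obtain ⟨h1, h2, hgen⟩ := S.euler_complement (k := k) hpure hM hY hGY hY' hG2
  rw [isIso_lift_iff_euler (k := k) hX (S.isTF1 hX hM hGY) hG1 hG2 hgen]
  have hr' : (r : ℤ) ≠ 0 := by exact_mod_cast hr.ne'
  simp only [TFOne.rBeta]
  constructor
  · intro h
    have : (r : ℤ) * Curv2.euler k X G1 = r * Curv2.euler k X GY := add_right_cancel h
    have := mul_left_cancel₀ hr' this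
    omega
  · intro h
    have : Curv2.euler k X G1 = Curv2.euler k X GY := by omega
    show (r : ℤ) * Curv2.euler k X G1 + _ = (r : ℤ) * Curv2.euler k X GY + _
    rw [this]

end Groth.TFOneAux
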