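import Groth.Agent.TFOne.Numeric
import Groth.Agent.TFOne.Push
import Groth.Agent.Inter.Push
import Groth.Agent.ProjFormula.Natural
import Groth.Agent.PropsBasic2.Reduced

/-!
# A torsion-free quotient seen on its subcurve
-/

set_option autoImplicit false
set_option linter.style.haveILetI false
set_option backward.isDefEq.respectTransparency.types false

universe u

open CategoryTheory CategoryTheory.Limits AlgebraicGeometry Opposite TopologicalSpace

noncomputable section

namespace Groth.TFOneAux

open Duality.StalkHom (stalkMapₗ_comp_apply stalkMapₗ_zero)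
open QCohMod (germ germ_res germ_smul exists_germ res resFun)

variable {X Z : Scheme.{u}}

/-- A section of a torsion-free sheaf vanishing at the generic points is zero. -/
theorem germ_eq_zero_of_generic (hX : IsCurve X) {G : X.Modules} (hG : Coh.IsCoh G)
    (hGt : _root_.TorSh.IsTorsionFree G) {W : X.Opens} (s : Γ(G, W)) {x : X} (hx : x ∈ W)
    (h : ∀ η ∈ genericPoints (X : Type u), ∀ hη : η ∈ W, germ G η hη s = 0) : germ G x hx s = 0 := by
  haveI := hX.noeth
  haveI := hX.red
  let P : X → Prop := fun _ => True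
  have hz := isZero_of_generic hX hGt (vanSub G P).ι (isCoh_vanSub (P := P) hG) fun η hη => ⟨fun a b => by
    suffices key : ∀ a : (vanSub G P).toMod.presheaf.stalk η, a = 0 from (key a).trans (key b).symm
    intro a
    obtain ⟨W', h', s', hs', e⟩ := mem_vanSub_stalk a
    exact injective_stalkMap (vanSub G P).ι η (by rw [e, map_zero]; exact hs' η hη trivial h')⟩
  obtain ⟨t, ht⟩ := (vanSub G P).exists_ι_app_eq s (fun η hη _ hηW => h η hη hηW)
  haveI : Subsingleton ((vanSub G P).toMod.presheaf.stalk x) := not_not.1 fun hns => by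
    have h' := (QCohMod.isZero_iff_support_eq_empty _).1 hz
    exact Set.eq_empty_iff_forall_notMem.1 h' x hns
  rw [← ht, ← RefHull.stalkMapₗ_germ, Subsingleton.elim (germ (vanSub G P).toMod x hx t) 0, map_zero]

/-- A non-zero-divisor does not vanish at the generic points near it. -/
theorem stalkSpecializes_ne_zero [IsNoetherian X] [IsReduced X] {x η : X}
    (hη : η ∈ genericPoints (X : Type u)) (hsp : η ⤳ x) {r : X.presheaf.stalk x}
    (hr : IsRegular r) : X.presheaf.stalkSpecializes hsp r ≠ 0 := by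
  intro hr0
  obtain ⟨U, hxU, r₀, rfl⟩ := TopCat.Presheaf.exists_germ_eq X.presheaf r
  obtain ⟨W, hW, hxW, hWU⟩ := exists_isAffineOpen_mem_and_subset (X := X) (x := x) (U := U) hxU
  have hηW : η ∈ W := hsp.mem_open W.2 hxW
  obtain ⟨N, hN, hNη⟩ := exists_open_nbhd (X := X) η
  obtain ⟨c, hcη, hcN⟩ := QCohMod.exists_basicOpen_mem hW hηW hN
  let r' : Γ(X, W) := resFun X hWU r₀
  have hr' : X.presheaf.germ W x hxW r' = X.presheaf.germ U x hxU r₀ :=
    TopCat.Presheaf.germ_res_apply X.presheaf (homOfLE hWU) x hxW r₀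
  have hr'η : X.presheaf.germ W η hηW r' = 0 := by
    rw [← TopCat.Presheaf.germ_stalkSpecializes_apply X.presheaf hxW hsp r', hr', hr0]
  have hcr : X.basicOpen (c * r') = ⊥ := by
    refine (Opens.ext ?_)
    refine Set.eq_empty_of_forall_notMem fun y hy => ?_
    obtain ⟨C, hC, hyC⟩ := exists_mem_irreducibleComponents_subset_of_isIrreducible _
      (isIrreducible_singleton (x := y))
    obtain ⟨η', hη'⟩ := QuasiSober.sober hC.1 (isClosed_of_mem_irreducibleComponents C hC)
    have hg' : η' ∈ genericPoints (X : Type u) := by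
      show closure ({η'} : Set X) ∈ irreducibleComponents (X : Type u)
      rw [hη'.def]; exact hC
    have h' : η' ∈ X.basicOpen (c * r') := (hη'.specializes (hyC rfl)).mem_open (X.basicOpen _).2 hy
    rw [Scheme.basicOpen_mul] at h'
    obtain rfl := eq_of_specializes_genericPoints hη hg' (hNη η' hg' (hcN h'.1))
    exact not_isUnit_zero (hr'η ▸ (Scheme.mem_basicOpen X r' η' hηW).1 h'.2)
  rw [AlgebraicGeometry.basicOpen_eq_bot_iff] at hcr
  have hc0 : X.presheaf.germ W x hxW c = 0 := by
    have := congrArg (X.presheaf.germ W x hxW) hcr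
    rw [map_mul, map_zero, hr'] at this
    exact hr.right.eq_iff.1 (this.trans (zero_mul _).symm)
  have hcη0 : X.presheaf.germ W η hηW c = 0 := by
    rw [← TopCat.Presheaf.germ_stalkSpecializes_apply X.presheaf hxW hsp c, hc0, map_zero]
  exact not_isUnit_zero (hcη0 ▸ (Scheme.mem_basicOpen X c η hηW).1 hcη)

variable {i : Z ⟶ X} [IsClosedImmersion i]

/-- The subscheme on a union of components: generic points go to generic points. -/
structure IsUnionComp (i : Z ⟶ X) : Prop where
  gen : ∀ z : Z, z ∈ genericPoints (Z : Type u) ↔ i z ∈ genericPoints (X : Type u)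

theorem isUnionComp_subsch {Y : Set X} (hY : IsClosed Y) (hYs : VecSt.IsSubcurve X Y) :
    IsUnionComp (VecSt.subschι X Y hY) where
  gen := by
    have hr : Set.range (VecSt.subschι X Y hY) = Y := by
      rw [Scheme.IdealSheafData.range_subschemeι, Scheme.IdealSheafData.coe_support_vanishingIdeal]; rfl
    have hemb := (VecSt.subschι X Y hY).isClosedEmbedding.isInducing
    have back : ∀ z, VecSt.subschι X Y hY z ∈ genericPoints (X : Type u) →
        z ∈ genericPoints (VecSt.subsch X Y hY : Type u) := fun z hz => by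
      refine Curves1.CurveMor.mem_genericPoints_of_isMax fun w hw => ?_
      have h1 : VecSt.subschι X Y hY w ⤳ VecSt.subschι X Y hY z :=
        (Scheme.le_iff_specializes.1 hw).map (VecSt.subschι X Y hY).continuous
      have hcl : closure ({VecSt.subschι X Y hY z} : Set X) ⊆ closure {VecSt.subschι X Y hY w} :=
        closure_minimal (Set.singleton_subset_iff.2 h1.mem_closure) isClosed_closure
      have h2 : VecSt.subschι X Y hY z ⤳ VecSt.subschι X Y hY w :=
        specializes_iff_mem_closure.2 (hz.2 isIrreducible_singleton.closure hcl (subset_closure rfl))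
      exact Scheme.le_iff_specializes.2 (hemb.specializes_iff.1 h2)
    intro z
    refine ⟨fun hz => ?_, back z⟩
    obtain ⟨S, hS, -, e⟩ := hYs
    obtain ⟨C, hC, hzC⟩ := e.le (hr.le (Set.mem_range_self z))
    obtain ⟨η, hη⟩ := QuasiSober.sober (hS hC).1 (isClosed_of_mem_irreducibleComponents C (hS hC))
    obtain ⟨w, rfl⟩ := hr.ge (e.ge ⟨C, hC, hη.mem⟩)
    have hwg : VecSt.subschι X Y hY w ∈ genericPoints (X : Type u) := by
      show closure ({VecSt.subschι X Y hY w} : Set X) ∈ irreducibleComponents (X : Type u)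
      rw [hη.def]; exact hS hC
    have h3 : w ⤳ z := hemb.specializes_iff.1 (hη.specializes hzC)
    rw [← eq_of_specializes_genericPoints hz (back w hwg) h3]
    exact hwg

theorem stalkMap_injective_generic [IsReduced X] (hi : IsUnionComp i) {z : Z}
    (hz : z ∈ genericPoints (Z : Type u)) : Function.Injective (i.stalkMap z).hom := by
  letI : Field (X.presheaf.stalk (i z)) :=
    (Duality.TorsionFree.isField_stalk_generic ((hi.gen z).1 hz)).toField
  exact (i.stalkMap z).hom.injective

theorem killed_of_support (hX : IsCurve X) [IsReduced X] (hi : IsUnionComp i) {G : X.Modules}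
    (hG : Coh.IsCoh G) (hGt : _root_.TorSh.IsTorsionFree G) (hs : CohB1.support G ⊆ Set.range i) :
    Misc7.ClosedImm.Killed i G := by
  refine ⟨fun x hx t => ?_, fun z a ha t => ?_⟩
  · haveI : Subsingleton (G.presheaf.stalk x) := subsingleton_stalk_of_not_mem fun h => hx (hs h)
    exact Subsingleton.elim _ _
  haveI := hX.noeth
  obtain ⟨U, hzU, a₀, rfl⟩ := TopCat.Presheaf.exists_germ_eq X.presheaf a
  obtain ⟨U', hzU', t₀, rfl⟩ := exists_germ G (i z) t
  obtain ⟨O, hzO, hO⟩ := exists_open_nbhd (X := X) (i z)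
  let W : X.Opens := U ⊓ U' ⊓ O
  have hW : i z ∈ W := ⟨⟨hzU, hzU'⟩, hzO⟩
  have e : X.presheaf.germ U (i z) hzU a₀ • germ G (i z) hzU' t₀ =
      germ G (i z) hW (resFun X (inf_le_left.trans inf_le_left : W ≤ U) a₀ •
        res G (inf_le_left.trans inf_le_right : W ≤ U') t₀) := by
    rw [germ_smul, germ_res]
    congr 1
    exact (TopCat.Presheaf.germ_res_apply X.presheaf (homOfLE (inf_le_left.trans inf_le_left : W ≤ U))
      (i z) hW a₀).symm
  rw [e]
  refine germ_eq_zero_of_generic hX hG hGt _ hW fun η hη hηW => ?_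
  rw [germ_smul, germ_res]
  by_cases hsη : η ∈ CohB1.support G
  · obtain ⟨w, rfl⟩ := hs hsη
    have hwz : w ⤳ z := i.isClosedEmbedding.isInducing.specializes_iff.1 (hO _ hη hηW.2)
    have hw := (hi.gen w).2 hη
    have h0 : X.presheaf.germ W (i w) hηW (resFun X (inf_le_left.trans inf_le_left : W ≤ U) a₀) = 0 := by
      refine stalkMap_injective_generic hi hw (Eq.trans ?_ (map_zero (i.stalkMap w).hom).symm)
      have h1 : X.presheaf.germ W (i w) hηW (resFun X (inf_le_left.trans inf_le_left : W ≤ U) a₀) =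
          X.presheaf.germ U (i w) hηW.1.1 a₀ :=
        TopCat.Presheaf.germ_res_apply X.presheaf (homOfLE (inf_le_left.trans inf_le_left : W ≤ U))
          (i w) hηW a₀
      have h2 : (i.stalkMap w).hom (X.presheaf.germ U (i w) hηW.1.1 a₀) =
          Z.presheaf.germ (i ⁻¹ᵁ U) w hηW.1.1 (i.app U a₀) :=
        Scheme.Hom.germ_stalkMap_apply i U w hηW.1.1 a₀
      have h3 : Z.presheaf.germ (i ⁻¹ᵁ U) z hzU (i.app U a₀) = 0 :=
        (Scheme.Hom.germ_stalkMap_apply i U z hzU a₀).symm.trans ha
      rw [h1, h2, ← TopCat.Presheaf.germ_stalkSpecializes_apply Z.presheaf (show z ∈ i ⁻¹ᵁ U from hzU) hwz,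
        h3, map_zero]
    rw [h0, zero_smul]
  · haveI := subsingleton_stalk_of_not_mem hsη
    exact Subsingleton.elim _ _

theorem epi_push {A B : Z.Modules} (φ : A ⟶ B) [Epi φ] :
    Epi ((Scheme.Modules.pushforward i).map φ) := by
  refine (QCohMod.epi_iff_stalk _).2 fun x v => ?_
  by_cases hx : x ∈ Set.range i
  · obtain ⟨z, rfl⟩ := hx
    obtain ⟨m, hm⟩ := surjective_stalkMap φ z (CohTwo.pushStalk i B z v)
    obtain ⟨m', rfl⟩ := (CohTwo.bijective_pushStalk i A z).2 m
    refine ⟨m', (CohTwo.bijective_pushStalk i B z).1 ?_⟩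
    rw [← hm]
    obtain ⟨U, hU, s, rfl⟩ := exists_germ ((Scheme.Modules.pushforward i).obj A) (i z) m'
    change CohTwo.pushStalk i B z (RefHull.stalkMapₗ ((Scheme.Modules.pushforward i).map φ) (i z) _) = _
    rw [RefHull.stalkMapₗ_germ]
    refine (CohTwo.pushStalk_germ i _ z hU _).trans ?_
    refine Eq.trans ?_ (congrArg (RefHull.stalkMapₗ φ z) (CohTwo.pushStalk_germ i _ z hU s)).symm
    exact (RefHull.stalkMapₗ_germ φ z _ _).symm
  · exact ⟨(0 : ((Scheme.Modules.pushforward i).obj A).presheaf.stalk x), by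
      rw [(Misc7.ClosedImm.killed_push i B).outside x hx v]; exact map_zero _⟩

theorem support_push (J : Z.Modules) :
    CohB1.support ((Scheme.Modules.pushforward i).obj J) = i '' CohB1.support J := by
  ext x
  constructor
  · intro hx
    obtain ⟨z, rfl⟩ := CohTwo.support_push_subset i J hx
    refine ⟨z, fun hs => hx ?_, rfl⟩
    haveI : Subsingleton (J.presheaf.stalk z) := hs
    exact (CohTwo.bijective_pushStalk i J z).1.subsingleton
  · rintro ⟨z, hz, rfl⟩ hs
    haveI : Subsingleton (((Scheme.Modules.pushforward i).obj J).presheaf.stalk (i z)) := hs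
    exact hz (CohTwo.bijective_pushStalk i J z).2.subsingleton

theorem isTorsionFree_push [IsReduced X] [IsReduced Z] [IsNoetherian X] (hi : IsUnionComp i)
    {J : Z.Modules} (hJ : _root_.TorSh.IsTorsionFree J) :
    _root_.TorSh.IsTorsionFree ((Scheme.Modules.pushforward i).obj J) := fun x => ⟨fun r hr => by
  intro u v huv
  suffices key : ∀ t : ((Scheme.Modules.pushforward i).obj J).presheaf.stalk x, r • t = 0 → t = 0 from
    sub_eq_zero.1 (key _ (by rw [smul_sub]; exact sub_eq_zero.2 huv))
  intro t ht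
  by_cases hx : x ∈ Set.range i
  · obtain ⟨z, rfl⟩ := hx
    have hreg : IsRegular ((i.stalkMap z).hom r) := by
      rw [isRegular_iff_mem_nonZeroDivisors, mem_nonZeroDivisors_iff_right]
      intro s hs
      obtain ⟨V, hzV, s₀, rfl⟩ := TopCat.Presheaf.exists_germ_eq Z.presheaf s
      obtain ⟨U, hzU, r₀, rfl⟩ := TopCat.Presheaf.exists_germ_eq X.presheaf r
      have hm : z ∈ V ⊓ i ⁻¹ᵁ U := ⟨hzV, hzU⟩
      have e : Z.presheaf.germ (V ⊓ i ⁻¹ᵁ U) z hm
          (resFun Z inf_le_left s₀ * resFun Z inf_le_right (i.app U r₀)) =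
          Z.presheaf.germ V z hzV 0 := by
        rw [map_mul, map_zero, ← hs]
        congr 1
        · exact TopCat.Presheaf.germ_res_apply Z.presheaf (homOfLE inf_le_left) z hm s₀
        · exact (TopCat.Presheaf.germ_res_apply Z.presheaf (homOfLE inf_le_right) z hm _).trans
            (Scheme.Hom.germ_stalkMap_apply i U z hzU r₀).symm
      obtain ⟨W', hzW', i1, i2, e'⟩ := Z.presheaf.germ_eq z hm hzV _ _ e
      haveI : IsLocallyNoetherian Z := LocallyOfFiniteType.isLocallyNoetherian i
      haveI : CompactSpace Z := i.isClosedEmbedding.compactSpace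
      haveI : IsNoetherian Z := {}
      obtain ⟨O, hzO, hO⟩ := exists_open_nbhd (X := Z) z
      let W : Z.Opens := W' ⊓ O
      have hWV : W ≤ V := inf_le_left.trans i2.le
      suffices h0 : resFun Z hWV s₀ = 0 by
        rw [← TopCat.Presheaf.germ_res_apply Z.presheaf (homOfLE hWV) z ⟨hzW', hzO⟩ s₀]
        exact (congrArg _ h0).trans (map_zero _)
      rw [← AlgebraicGeometry.basicOpen_eq_bot_iff]
      refine Opens.ext (Set.eq_empty_of_forall_notMem fun y hy => ?_)
      obtain ⟨C, hC, hyC⟩ := exists_mem_irreducibleComponents_subset_of_isIrreducible _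
        (isIrreducible_singleton (x := y))
      obtain ⟨w, hw⟩ := QuasiSober.sober hC.1 (isClosed_of_mem_irreducibleComponents C hC)
      have hwg : w ∈ genericPoints (Z : Type u) := by
        show closure ({w} : Set Z) ∈ irreducibleComponents (Z : Type u)
        rw [hw.def]; exact hC
      have hwb : w ∈ Z.basicOpen (resFun Z hWV s₀) := (hw.specializes (hyC rfl)).mem_open (Z.basicOpen _).2 hy
      have hwW : w ∈ W := Z.basicOpen_le _ hwb
      have hwz : w ⤳ z := hO w hwg hwW.2
      letI : Field (Z.presheaf.stalk w) := (Duality.TorsionFree.isField_stalk_generic hwg).toField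
      have hwV : w ∈ V := hWV hwW
      have hwU : i w ∈ U := (i1.le hwW.1).2
      have hprod : Z.presheaf.germ V w hwV s₀ * Z.presheaf.germ (i ⁻¹ᵁ U) w hwU (i.app U r₀) = 0 := by
        have h1 := congrArg (Z.presheaf.germ W' w hwW.1) e'
        rw [TopCat.Presheaf.germ_res_apply, TopCat.Presheaf.germ_res_apply, map_zero, map_mul] at h1
        refine Eq.trans ?_ h1
        congr 1
        · exact (TopCat.Presheaf.germ_res_apply Z.presheaf (homOfLE inf_le_left) w (i1.le hwW.1) s₀).symm
        · exact (TopCat.Presheaf.germ_res_apply Z.presheaf (homOfLE inf_le_right) w (i1.le hwW.1) _).symm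
      refine (mul_eq_zero.1 hprod).elim (fun h => ?_) fun h => ?_
      · refine not_isUnit_zero (M₀ := Z.presheaf.stalk w) ?_
        rw [← h, ← TopCat.Presheaf.germ_res_apply Z.presheaf (homOfLE hWV) w hwW s₀]
        exact (Scheme.mem_basicOpen Z _ w hwW).1 hwb
      · refine stalkSpecializes_ne_zero ((hi.gen w).1 hwg)
          (hwz.map i.continuous) hr ?_
        refine stalkMap_injective_generic hi hwg ?_
        rw [map_zero, TopCat.Presheaf.germ_stalkSpecializes_apply]
        exact (Scheme.Hom.germ_stalkMap_apply i U w hwU r₀).trans h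
    haveI := hJ z
    refine (CohTwo.bijective_pushStalk i J z).1 ?_
    rw [map_zero]
    refine Module.IsTorsionFree.isSMulRegular hreg ?_
    show (i.stalkMap z).hom r • _ = (i.stalkMap z).hom r • (0 : J.presheaf.stalk z)
    rw [smul_zero, ← CohTwo.pushStalk_smul, ht, map_zero]
  · exact (Misc7.ClosedImm.killed_push i J).outside x hx t⟩

theorem isTorsionFree_of_push (hX : IsCurve X) [IsReduced X] [IsReduced Z] (hi : IsUnionComp i)
    {J : Z.Modules} (hPc : Coh.IsCoh ((Scheme.Modules.pushforward i).obj J))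
    (hP : _root_.TorSh.IsTorsionFree ((Scheme.Modules.pushforward i).obj J)) :
    _root_.TorSh.IsTorsionFree J := fun z => ⟨fun r hr => by
  intro u v huv
  suffices key : ∀ t : J.presheaf.stalk z, r • t = 0 → t = 0 from
    sub_eq_zero.1 (key _ (by rw [smul_sub]; exact sub_eq_zero.2 huv))
  intro t ht
  haveI := hX.noeth
  haveI : IsLocallyNoetherian Z := LocallyOfFiniteType.isLocallyNoetherian i
  haveI : CompactSpace Z := i.isClosedEmbedding.compactSpace
  haveI : IsNoetherian Z := {}
  obtain ⟨t', rfl⟩ := (CohTwo.bijective_pushStalk i J z).2 t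
  obtain ⟨r', rfl⟩ := i.stalkMap_surjective z r
  rw [← CohTwo.pushStalk_smul] at ht
  have ht' : r' • t' = 0 := (CohTwo.bijective_pushStalk i J z).1 (ht.trans (map_zero _).symm)
  obtain ⟨U, hzU, r₀, rfl⟩ := TopCat.Presheaf.exists_germ_eq X.presheaf r'
  obtain ⟨U', hzU', t₀, rfl⟩ := exists_germ ((Scheme.Modules.pushforward i).obj J) (i z) t'
  have hm : i z ∈ U ⊓ U' := ⟨hzU, hzU'⟩
  have e : germ ((Scheme.Modules.pushforward i).obj J) (i z) hm
      (resFun X (inf_le_left : U ⊓ U' ≤ U) r₀ •
        res ((Scheme.Modules.pushforward i).obj J) (inf_le_right : U ⊓ U' ≤ U') t₀) =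
      germ ((Scheme.Modules.pushforward i).obj J) (i z) hzU' 0 := by
    rw [germ_smul, germ_res, map_zero, ← ht']
    congr 1
    exact TopCat.Presheaf.germ_res_apply X.presheaf (homOfLE inf_le_left) (i z) hm r₀
  obtain ⟨W', hzW', i1, i2, e'⟩ :=
    ((Scheme.Modules.pushforward i).obj J).presheaf.germ_eq (i z) hm hzU' _ _ e
  obtain ⟨O, hzO, hO⟩ := exists_open_nbhd (X := X) (i z)
  have hWU' : W' ⊓ O ≤ U' := inf_le_left.trans i2.le
  have hzero : germ ((Scheme.Modules.pushforward i).obj J) (i z) (show i z ∈ W' ⊓ O from ⟨hzW', hzO⟩)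
      (res ((Scheme.Modules.pushforward i).obj J) hWU' t₀) = 0 := by
    refine germ_eq_zero_of_generic hX hPc hP _ _ fun η hη hηW => ?_
    rw [germ_res]
    by_cases hηr : η ∈ Set.range i
    · obtain ⟨w, rfl⟩ := hηr
      have hwz : w ⤳ z := i.isClosedEmbedding.isInducing.specializes_iff.1 (hO _ hη hηW.2)
      have hwU : i w ∈ U := (i1.le hηW.1).1
      have h1 := congrArg (germ ((Scheme.Modules.pushforward i).obj J) (i w) hηW.1) e'
      have h2 : germ ((Scheme.Modules.pushforward i).obj J) (i w) hηW.1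
          (res ((Scheme.Modules.pushforward i).obj J) i1.le
            (resFun X (inf_le_left : U ⊓ U' ≤ U) r₀ •
              res ((Scheme.Modules.pushforward i).obj J) (inf_le_right : U ⊓ U' ≤ U') t₀)) =
          germ ((Scheme.Modules.pushforward i).obj J) (i w) hηW.1
            (res ((Scheme.Modules.pushforward i).obj J) i2.le 0) := h1
      rw [germ_res, germ_smul, germ_res, map_zero, map_zero] at h2
      letI : Field (X.presheaf.stalk (i w)) := (Duality.TorsionFree.isField_stalk_generic hη).toField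
      refine (smul_eq_zero.1 h2).resolve_left fun h0 => ?_
      refine stalkSpecializes_ne_zero ((hi.gen w).2 hη) hwz hr ?_
      rw [Scheme.Hom.germ_stalkMap_apply i U z hzU r₀,
        TopCat.Presheaf.germ_stalkSpecializes_apply,
        ← Scheme.Hom.germ_stalkMap_apply i U w hwU r₀]
      have h4 : X.presheaf.germ U (i w) hwU r₀ = 0 :=
        (TopCat.Presheaf.germ_res_apply X.presheaf (homOfLE (inf_le_left : U ⊓ U' ≤ U)) (i w)
          (i1.le hηW.1) r₀).symm.trans h0
      rw [h4, map_zero]
    · exact (Misc7.ClosedImm.killed_push i J).outside η hηr _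
  rw [germ_res] at hzero
  rw [hzero, map_zero]⟩

theorem isRkOne_of_push [IsReduced X] [IsReduced Z] (hi : IsUnionComp i) {J : Z.Modules}
    (h : ∀ z ∈ genericPoints (Z : Type u),
      Nonempty (((Scheme.Modules.pushforward i).obj J).presheaf.stalk (i z) ≃ₗ[X.presheaf.stalk (i z)]
        X.presheaf.stalk (i z))) : TFOne.IsRkOne Z J := by
  intro z hz
  obtain ⟨e⟩ := h z hz
  letI : Field (Z.presheaf.stalk z) := (Duality.TorsionFree.isField_stalk_generic hz).toField
  let v : J.presheaf.stalk z := CohTwo.pushStalk i J z (e.symm 1)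
  have hv : v ≠ 0 := fun h0 => by
    have h1 : e.symm 1 = 0 := (CohTwo.bijective_pushStalk i J z).1 (h0.trans (map_zero _).symm)
    letI : Field (X.presheaf.stalk (i z)) :=
      (Duality.TorsionFree.isField_stalk_generic ((hi.gen z).1 hz)).toField
    exact one_ne_zero (e.symm.map_eq_zero_iff.1 h1)
  refine ⟨(LinearEquiv.ofBijective (LinearMap.toSpanSingleton (Z.presheaf.stalk z) _ v)
    ⟨fun a b hab => ?_, fun t => ?_⟩).symm⟩
  · exact sub_eq_zero.1 ((smul_eq_zero.1 (show (a - b) • v = 0 by
      rw [sub_smul]; exact sub_eq_zero.2 hab)).resolve_right hv)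
  · obtain ⟨t', rfl⟩ := (CohTwo.bijective_pushStalk i J z).2 t
    refine ⟨(i.stalkMap z).hom (e t'), ?_⟩
    show (i.stalkMap z).hom (e t') • v = _
    rw [← CohTwo.pushStalk_smul, ← map_smul, smul_eq_mul, mul_one, e.symm_apply_apply]

variable (k : Type u) [Field k] [X.Over (Spec (CommRingCat.of k))]
  [IsProper (X ↘ Spec (CommRingCat.of k))]

theorem phi_push {E : X.Modules} {r : ℕ} (hE : FlatMod.IsFinLocFree E) (i : Z ⟶ X) [IsClosedImmersion i]
    {J : Z.Modules} :
    letI : Z.Over (Spec (CommRingCat.of k)) := ⟨i ≫ (X ↘ Spec (CommRingCat.of k))⟩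
    phi k E r ((Scheme.Modules.pushforward i).obj J) =
      phi k ((Scheme.Modules.pullback i).obj E) r J := by
  letI : Z.Over (Spec (CommRingCat.of k)) := ⟨i ≫ (X ↘ Spec (CommRingCat.of k))⟩
  have := Groth.ProjFormula.isIso_pfApp i E hE J
  have h1 : Curv2.euler k X ((Scheme.Modules.pushforward i).obj J) = Curv2.euler k Z J :=
    Groth.Inter.euler_push k i rfl J
  have h2 : Curv2.euler k X (CohB1.tensorMod E ((Scheme.Modules.pushforward i).obj J)) =
      Curv2.euler k Z (CohB1.tensorMod ((Scheme.Modules.pullback i).obj E) J) :=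
    (EulerDeg.euler_congr k (asIso (Groth.ProjFormula.pfApp i E J))).trans
      (Groth.Inter.euler_push k i rfl _)
  simp only [phi, EulerDeg.tensorDefect]
  rw [h1, h2]

end Groth.TFOneAux
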