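import Groth.Agent.TFOne.Assemble
import Groth.Agent.TFOne.Sub

/-!
# Semistability on a subcurve
-/

set_option autoImplicit false
set_option linter.style.haveILetI false
set_option backward.isDefEq.respectTransparency.types false

universe u

open CategoryTheory CategoryTheory.Limits AlgebraicGeometry TopologicalSpace

noncomputable section

namespace Groth.TFOneAux

variable {k : Type u} [Field k] {X : Scheme.{u}} [X.Over (Spec (CommRingCat.of k))]
  [IsProper (X ↘ Spec (CommRingCat.of k))] [IsReduced X] {M GY : X.Modules} {πY : M ⟶ GY}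
  {E : X.Modules} {r : ℕ} {Y : Set X}

/-- A quotient of a semistable sheaf restricted to its subcurve is semistable. -/
theorem isSemistable_restrict
    (hpure : ∀ C ∈ irreducibleComponents (X : Type u), topologicalKrullDim C = 1)
    (hE : FlatMod.IsFinLocFreeOfRank r E)
    (hss : TFOne.IsSemistable X k (X ↘ Spec (CommRingCat.of k)) M E r) (hY : IsClosed Y)
    (hYs : VecSt.IsSubcurve X Y) (hGY : TFOne.IsQuotOn X M Y GY πY) :
    TFOne.IsSemistable (VecSt.subsch X Y hY) k (VecSt.subschι X Y hY ≫ (X ↘ Spec (CommRingCat.of k)))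
      ((Scheme.Modules.pullback (VecSt.subschι X Y hY)).obj GY)
      ((Scheme.Modules.pullback (VecSt.subschι X Y hY)).obj E) r := by
  have hX := isCurve k hpure
  haveI := hX.noeth
  haveI := hGY.1
  haveI := hGY.2.1.1
  let ι := VecSt.subschι X Y hY
  let Z := VecSt.subsch X Y hY
  letI : Z.Over (Spec (CommRingCat.of k)) := ⟨ι ≫ (X ↘ Spec (CommRingCat.of k))⟩
  haveI : IsProper (Z ↘ Spec (CommRingCat.of k)) :=
    inferInstanceAs (IsProper (ι ≫ (X ↘ Spec (CommRingCat.of k))))
  haveI : IsReduced Z := Groth.PropsBasic2.isReduced_vanishingIdeal_subscheme ⟨Y, hY⟩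
  have hi := isUnionComp_subsch hY hYs
  have hr : Set.range ι = Y := by
    rw [Scheme.IdealSheafData.range_subschemeι, Scheme.IdealSheafData.coe_support_vanishingIdeal]; rfl
  have hk : Misc7.ClosedImm.Killed ι GY :=
    killed_of_support hX hi hGY.2.1 hGY.2.2.1 (hGY.2.2.2.trans hr.symm).le
  haveI := Misc7.ClosedImm.isIso_unit ι hk
  let J := (Scheme.Modules.pullback ι).obj GY
  let e : GY ≅ (Scheme.Modules.pushforward ι).obj J :=
    asIso ((Scheme.Modules.pullbackPushforwardAdjunction ι).unit.app GY)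
  have hPc : Coh.IsCoh ((Scheme.Modules.pushforward ι).obj J) := QCohMod.isCoh_of_iso e hGY.2.1
  have hPt : _root_.TorSh.IsTorsionFree ((Scheme.Modules.pushforward ι).obj J) :=
    isTorsionFree_of_mono e.inv hGY.2.2.1
  have hJc : Coh.IsCoh J := ⟨QCohMod.isQCoh_pullback_obj ι GY, QCohMod.isFT_pullback ι GY hGY.2.1.2⟩
  have hrk : ∀ z ∈ genericPoints (Z : Type u),
      Nonempty (((Scheme.Modules.pushforward ι).obj J).presheaf.stalk (ι z) ≃ₗ[X.presheaf.stalk (ι z)]
        X.presheaf.stalk (ι z)) := fun z hz => by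
    have hg := (hi.gen z).1 hz
    obtain ⟨e₀⟩ := hss.1.2.2 _ hg
    haveI : Epi (πY ≫ e.hom) := epi_comp _ _
    have hmem : ι z ∈ CohB1.support ((Scheme.Modules.pushforward ι).obj J) := by
      rw [← QCohMod.support_eq_of_iso e, hGY.2.2.2]
      exact hr.le (Set.mem_range_self z)
    exact ⟨(LinearEquiv.ofBijective _ (bijective_of_isRkOne hX hss.1.2.2 (πY ≫ e.hom) hg hmem)).symm.trans e₀⟩
  have hJ : TFOne.IsTF1 Z J := ⟨hJc, isTorsionFree_of_push hX hi hPc hPt, isRkOne_of_push hi hrk⟩
  have hZpure : ∀ C ∈ irreducibleComponents (Z : Type u), topologicalKrullDim C = 1 := by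
    intro C hC
    obtain ⟨z, hz⟩ := QuasiSober.sober hC.1 (isClosed_of_mem_irreducibleComponents C hC)
    have hzg : z ∈ genericPoints (Z : Type u) := by
      show closure ({z} : Set Z) ∈ irreducibleComponents (Z : Type u)
      rw [hz.def]; exact hC
    have him : ι '' C = closure ({ι z} : Set X) := by
      rw [← hz.def, ← ι.isClosedEmbedding.closure_image_eq, Set.image_singleton]
    have h := hpure _ ((hi.gen z).1 hzg)
    rw [← him] at h
    rw [← h]
    exact (ι.isClosedEmbedding.isEmbedding.homeomorphImage C).isHomeomorph.topologicalKrullDim_eq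
  refine ⟨hJ, fun T hT hTs hTne G π hG => ?_⟩
  have hE' := LocFree.isFinLocFreeOfRank_pullback ι hE
  show 0 ≤ TFOne.rBeta Z k (Z ↘ Spec (CommRingCat.of k)) T hT ((Scheme.Modules.pullback ι).obj E) r G
  rw [rBeta_eq_phi k hZpure hE' hJ hT hG, ← phi_push k (LocFree.isFinLocFree_of_rank hE) ι]
  haveI := hG.1
  haveI : Epi ((Scheme.Modules.pushforward ι).map π) := epi_push π
  have hTc : IsClosed (ι '' T) := ι.isClosedEmbedding.isClosedMap T hT
  have hT' : VecSt.IsSubcurve X (ι '' T) := by
    obtain ⟨S, hS, hne, eT⟩ := hTs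
    refine ⟨(fun C => ι '' C) '' S, ?_, hne.image _, by rw [eT, Set.image_sUnion]⟩
    rintro _ ⟨C, hC, rfl⟩
    obtain ⟨z, hz⟩ := QuasiSober.sober (hS hC).1 (isClosed_of_mem_irreducibleComponents C (hS hC))
    have hzg : z ∈ genericPoints (Z : Type u) := by
      show closure ({z} : Set Z) ∈ irreducibleComponents (Z : Type u)
      rw [hz.def]; exact hS hC
    show ι '' C ∈ irreducibleComponents (X : Type u)
    rw [← hz.def, ← ι.isClosedEmbedding.closure_image_eq, Set.image_singleton]
    exact (hi.gen z).1 hzg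
  have hTu : ι '' T ≠ Set.univ := fun h => hTne (Set.eq_univ_of_forall fun z => by
    obtain ⟨w, hw, hwz⟩ := h.ge (Set.mem_univ (ι z))
    exact ι.isClosedEmbedding.injective hwz ▸ hw)
  have hP : TFOne.IsQuotOn X M (ι '' T) ((Scheme.Modules.pushforward ι).obj G)
      (πY ≫ e.hom ≫ (Scheme.Modules.pushforward ι).map π) :=
    ⟨inferInstance, CohTwo.isCoh_push ι hG.2.1, isTorsionFree_push hi hG.2.2.1,
      by rw [support_push, hG.2.2.2]⟩
  rw [← rBeta_eq_phi k hpure hE hss.1 hTc hP]
  exact hss.2 _ hTc hT' hTu _ _ hP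

end Groth.TFOneAux
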