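import Groth.Agent.TFOne.Algorithm
import Groth.Agent.Variety2.GenSmooth

/-!
# A smooth section meets one component
-/

set_option autoImplicit false
set_option linter.style.haveILetI false
set_option linter.unusedSectionVars false
set_option backward.isDefEq.respectTransparency.types false

universe u

open CategoryTheory CategoryTheory.Limits AlgebraicGeometry Opposite TopologicalSpace

noncomputable section

namespace Groth.TFOneAux

variable {R : Type u} [CommRing R] [IsDomain R] [IsDiscreteValuationRing R] {X Xs : Scheme.{u}}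
  {f : X ⟶ Spec (CommRingCat.of R)}
  [Xs.Over (Spec (CommRingCat.of (IsLocalRing.ResidueField R)))] {i : Xs ⟶ X}
  (hsq : IsPullback i (Xs ↘ Spec (CommRingCat.of (IsLocalRing.ResidueField R))) f
    (Spec.map (CommRingCat.ofHom (IsLocalRing.residue R))))

include hsq in
theorem isDomain_stalk_of_smooth_open (U : X.Opens) [Smooth (U.ι ≫ f)] (s : Xs) (hs : i s ∈ U) :
    IsDomain (Xs.presheaf.stalk s) := by
  let κ := IsLocalRing.ResidueField R
  let V := i ⁻¹ᵁ U
  let q : V.toScheme ⟶ Spec (CommRingCat.of κ) := V.ι ≫ (Xs ↘ Spec (CommRingCat.of κ))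
  have sq : IsPullback q (i ∣_ U) (Spec.map (CommRingCat.ofHom (IsLocalRing.residue R))) (U.ι ≫ f) :=
    (isPullback_morphismRestrict i U).flip.paste_horiz hsq.flip
  haveI : Smooth q := MorphismProperty.of_isPullback sq.flip inferInstance
  let x : V.toScheme := ⟨s, hs⟩
  let _ : Field ((Spec (CommRingCat.of κ)).presheaf.stalk (q x)) :=
    (Variety2.isField_stalk (Subsingleton.elim (α := PrimeSpectrum κ) _ _)).toField
  haveI : IsRegularLocalRing ((Spec (CommRingCat.of κ)).presheaf.stalk (q x)) := inferInstance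
  haveI := Agf.RegularPoints.isRegularLocalRing_stalk_of_smooth q x
  haveI := IsRegularLocalRing.of_ringEquiv (V.stalkIso x).commRingCatIsoToRingEquiv
  exact Ega4Algebra1.isDomain_of_isRegularLocalRing (Xs.presheaf.stalk s)

include hsq in
theorem exists_special_point (σ : Spec (CommRingCat.of R) ⟶ X) (hσ : σ ≫ f = 𝟙 _) (U : X.Opens)
    (hσU : Set.range σ.base ⊆ (U : Set X)) [Smooth (U.ι ≫ f)] :
    ∃ s₀ : Xs, i s₀ = σ (IsLocalRing.closedPoint R) ∧
      ∀ η η' : Gen Xs, η.1 ⤳ s₀ → η'.1 ⤳ s₀ → η = η' := by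
  have hc : σ (IsLocalRing.closedPoint R) ∈ Set.range i := by
    rw [range_special hsq]
    show f (σ (IsLocalRing.closedPoint R)) = IsLocalRing.closedPoint R
    rw [← Scheme.Hom.comp_apply, hσ]
    rfl
  obtain ⟨s₀, hs₀⟩ := hc
  haveI := isDomain_stalk_of_smooth_open hsq U s₀ (hs₀ ▸ hσU ⟨_, rfl⟩)
  exact ⟨s₀, hs₀, fun η η' h h' => Subtype.ext (eq_of_specializes_domain η.2 η'.2 h h')⟩

end Groth.TFOneAux
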