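import Groth.Agent.TFOne.Lattice

/-!
# The special fibre of an algebraized quotient and the tower of splitting modifications
-/

set_option autoImplicit false
set_option linter.style.haveILetI false
set_option backward.isDefEq.respectTransparency.types false

universe u

open CategoryTheory CategoryTheory.Limits AlgebraicGeometry Opposite TopologicalSpace

noncomputable section

namespace Groth.TFOneAux

open CohC3

variable {R : Type u} [CommRing R] [IsDomain R] [IsDiscreteValuationRing R] {X Xs : Scheme.{u}}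
  {f : X ⟶ Spec (CommRingCat.of R)} {i : Xs ⟶ X}
  {qs : Xs ⟶ Spec (CommRingCat.of (IsLocalRing.ResidueField R))}

/-- A quotient that is `i_* G` modulo the uniformizer restricts to `G`. -/
theorem exists_special_iso
    (hsq : IsPullback i qs f (Spec.map (CommRingCat.ofHom (IsLocalRing.residue R))))
    {ϖ : R} (hϖ : Irreducible ϖ) {J N : X.Modules} [N.IsQuasicoherent] {G : Xs.Modules} (φ : J ⟶ N)
    (π : (Scheme.Modules.pullback i).obj J ⟶ G)
    (e : letI : X.Over (Spec (CommRingCat.of R)) := ⟨f⟩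
      Formal.modPow (Ideal.span {ϖ}) 1 N ≅ (Scheme.Modules.pushforward i).obj G)
    (h : letI : X.Over (Spec (CommRingCat.of R)) := ⟨f⟩
      φ ≫ Formal.modPowπ (Ideal.span {ϖ}) 1 N ≫ e.hom =
        (Scheme.Modules.pullbackPushforwardAdjunction i).unit.app J ≫ (Scheme.Modules.pushforward i).map π) :
    ∃ e' : (Scheme.Modules.pullback i).obj N ≅ G, (Scheme.Modules.pullback i).map φ ≫ e'.hom = π := by
  letI : X.Over (Spec (CommRingCat.of R)) := ⟨f⟩
  letI : Xs.Over (Spec (CommRingCat.of R)) := ⟨i ≫ f⟩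
  haveI : IsClosedImmersion i :=
    haveI : IsClosedImmersion (Spec.map (CommRingCat.ofHom (IsLocalRing.residue R))) :=
      IsClosedImmersion.spec_of_surjective _ IsLocalRing.residue_surjective
    MorphismProperty.of_isPullback hsq.flip inferInstance
  let adj := Scheme.Modules.pullbackPushforwardAdjunction i
  let P := Scheme.Modules.pushforward i
  let Pl := Scheme.Modules.pullback i
  have hu := CohTwo.isQuot_unit (K := IsLocalRing.maximalIdeal R) i rfl
    (fun a ha => toGlobal_residue hsq.w ha) (ker_le hsq) N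
  have hm : IsQuot (IsLocalRing.maximalIdeal R) (Formal.modPowπ (Ideal.span {ϖ}) 1 N ≫ e.hom) :=
    (hϖ.maximalIdeal_eq.trans (pow_one (Ideal.span {ϖ})).symm) ▸
      ((isQuot_modPowπ _ 1 N).comp_iso e.hom)
  obtain ⟨a, ha⟩ := hu.desc _ hm.le_ann
  obtain ⟨b, hb⟩ := hm.desc _ hu.le_ann
  haveI := hu.epi
  haveI := hm.epi
  let a' : P.obj (Pl.obj N) ≅ P.obj G :=
    { hom := a
      inv := b
      hom_inv_id := by
        rw [← cancel_epi (adj.unit.app N), ← Category.assoc, ha, hb]
        exact (Category.comp_id _).symm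
      inv_hom_id := by
        rw [← cancel_epi (Formal.modPowπ (Ideal.span {ϖ}) 1 N ≫ e.hom), ← Category.assoc, hb, ha,
          Category.comp_id] }
  let ff := Misc7.ClosedImm.fullyFaithfulPush i
  haveI := ff.faithful
  refine ⟨ff.preimageIso a', (adj.homEquiv _ _).injective ?_⟩
  show adj.homEquiv J G _ = adj.homEquiv J G π
  rw [adj.homEquiv_unit, adj.homEquiv_unit, P.map_comp, ff.preimageIso_hom, ff.map_preimage]
  refine Eq.trans ?_ h
  refine (Category.assoc _ _ _).symm.trans ?_
  refine ((congrArg (· ≫ a) (adj.unit.naturality φ).symm).trans (Category.assoc _ _ _)).trans ?_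
  exact congrArg (φ ≫ ·) ha

/-- A tower of modifications splitting at `Y` gives a flat quotient. -/
theorem exists_flat_quot_of_tower [IsProper f] [IsAdicComplete (IsLocalRing.maximalIdeal R) R]
    (hsq : IsPullback i qs f (Spec.map (CommRingCat.ofHom (IsLocalRing.residue R))))
    (hX : IsCurve Xs) {In : ℕ → X.Modules} (hIc : Coh.IsCoh (In 0)) (hIf : FlatMod.IsFlatOver f (In 0))
    (hIs : TFOne.IsTF1 Xs ((Scheme.Modules.pullback i).obj (In 0)))
    {G : ℕ → Xs.Modules} (π : ∀ n, (Scheme.Modules.pullback i).obj (In n) ⟶ G n)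
    (hstep : ∀ n, In (n + 1) = nxt i (In n) (π n))
    (hgood : ∀ n, Coh.IsCoh (In n) → FlatMod.IsFlatOver f (In n) →
      TFOne.IsTF1 Xs ((Scheme.Modules.pullback i).obj (In n)) →
      TFOne.IsQuotOn Xs _ (CohB1.support (G n)) (G n) (π n))
    (hsplit : ∀ n (S : Modif ((Scheme.Modules.pullback i).obj (In n)) (π n)
        ((Scheme.Modules.pullback i).obj (In (n + 1)))),
      TFOne.IsTF1 Xs ((Scheme.Modules.pullback i).obj (In n)) → IsIso (S.a ≫ π (n + 1))) :
    ∃ (F : X.Modules) (p : In 0 ⟶ F), Coh.IsCoh F ∧ Epi p ∧ FlatMod.IsFlatOver f F ∧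
      ∃ e : (Scheme.Modules.pullback i).obj F ≅ G 0, (Scheme.Modules.pullback i).map p ≫ e.hom = π 0 := by
  letI : X.Over (Spec (CommRingCat.of R)) := ⟨f⟩
  haveI := isNoetherian_of_isProper f
  haveI := hX.noeth
  haveI : IsClosedImmersion i :=
    haveI : IsClosedImmersion (Spec.map (CommRingCat.ofHom (IsLocalRing.residue R))) :=
      IsClosedImmersion.spec_of_surjective _ IsLocalRing.residue_surjective
    MorphismProperty.of_isPullback hsq.flip inferInstance
  obtain ⟨ϖ, hϖ⟩ := IsDiscreteValuationRing.exists_irreducible R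
  let P := Scheme.Modules.pushforward i
  let η := (Scheme.Modules.pullbackPushforwardAdjunction i).unit
  let gm : ∀ n, In n ⟶ P.obj (G n) := fun n => η.app (In n) ≫ P.map (π n)
  have hI : ∀ n, Coh.IsCoh (In n) ∧ FlatMod.IsFlatOver f (In n) ∧
      TFOne.IsTF1 Xs ((Scheme.Modules.pullback i).obj (In n)) := by
    intro n
    induction n with
    | zero => exact ⟨hIc, hIf, hIs⟩
    | succ n ih =>
      obtain ⟨hc, hf, ht⟩ := ih
      have hG := hgood n hc hf ht
      haveI := hG.1
      haveI := hc.1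
      haveI := hG.2.1.1
      haveI : (P.obj (G n)).IsQuasicoherent := (CohTwo.isCoh_push i hG.2.1).1
      obtain ⟨S, u, hu, -⟩ := exists_modif_eq hsq hc hf (π n) hG.2.1 hϖ
      rw [hstep n]
      refine ⟨QCohMod.isCoh_kernel _ hc, isFlatOver_of_mono_smul f hϖ ?_, S.isTF1 hX ht hG⟩
      haveI := mono_smul_of_flat f hf hϖ.ne_zero
      have h' : Mono (Formal.smulMod R (kernel (gm n)) ϖ ≫ kernel.ι (gm n)) :=
        CohC3.smulMod_naturality (kernel.ι (gm n)) ϖ ▸
          (mono_comp (kernel.ι (gm n)) (Formal.smulMod R (In n) ϖ) :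
            Mono (kernel.ι (gm n) ≫ Formal.smulMod R (In n) ϖ))
      exact @mono_of_mono _ _ _ _ _ (Formal.smulMod R (kernel (gm n)) ϖ) (kernel.ι (gm n)) h'
  have hG := fun n => hgood n (hI n).1 (hI n).2.1 (hI n).2.2
  have key : ∀ n, ∃ (j : In (n + 1) ⟶ In n) (u : In n ⟶ In (n + 1))
      (S : Modif ((Scheme.Modules.pullback i).obj (In n)) (π n) ((Scheme.Modules.pullback i).obj (In (n + 1))))
      (w : j ≫ gm n = 0),
      Mono j ∧ (ShortComplex.mk j (gm n) w).Exact ∧ u ≫ j = Formal.smulMod R (In n) ϖ ∧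
        gm n ≫ P.map S.a = u ≫ η.app (In (n + 1)) := by
    intro n
    have hstep' := hstep n
    generalize In (n + 1) = J at hstep' ⊢
    subst hstep'
    haveI := (hG n).1
    obtain ⟨S, u, hu, hua⟩ := exists_modif_eq hsq (hI n).1 (hI n).2.1 (π n) (hG n).2.1 hϖ
    exact ⟨kernel.ι (gm n), u, S, kernel.condition _, inferInstance,
      ShortComplex.exact_of_f_is_kernel _ (kernelIsKernel (gm n)), hu, hua⟩
  choose j u S w hj hex huj hua using key
  have hgm : ∀ n, Epi (gm n) := fun n => by
    haveI := (hI n).1.1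
    haveI := (hG n).1
    haveI : Epi (η.app (In n)) := (unit_exact hsq (In n) hϖ.maximalIdeal_eq).1
    haveI : Epi (P.map (π n)) := epi_push (π n)
    exact epi_comp _ _
  have ht : ∀ n, IsIso (P.map ((S n).a ≫ π (n + 1))) := fun n => by
    haveI := hsplit n (S n) (hI n).2.2
    infer_instance
  let K : Chain (smulNat (X := X) ϖ) :=
    { M := In
      Q := fun n => P.obj (G n)
      j := j
      g := gm
      u := u
      t := fun n => P.map ((S n).a ≫ π (n + 1))
      mono_j := hj
      epi_g := hgm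
      mono_t := fun n => haveI := ht n; inferInstance
      epi_t := fun n => haveI := ht n; inferInstance
      w := w
      ex := hex
      u_j := huj
      g_t := fun n => (congrArg (gm n ≫ ·) (P.map_comp _ _)).trans ((Category.assoc _ _ _).symm.trans
        ((congrArg (· ≫ P.map (π (n + 1))) (hua n)).trans (Category.assoc _ _ _))) }
  haveI : IsAdicComplete (Ideal.span {ϖ}) R := hϖ.maximalIdeal_eq ▸ inferInstance
  haveI : IsProper (X ↘ Spec (CommRingCat.of R)) := inferInstanceAs (IsProper f)
  obtain ⟨N, φ, e, hN, hφ, hmono, he⟩ := exists_algebraization ϖ K fun n => (hI n).1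
  haveI := hN.1
  obtain ⟨e', he'⟩ := exists_special_iso hsq hϖ φ (π 0) e he
  exact ⟨N, φ, hN, hφ, isFlatOver_of_mono_smul f hϖ hmono, e', he'⟩

end Groth.TFOneAux
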