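import Groth.Agent.Misc15.Moving
import Groth.Agent.TFOne.Simple
import Mathlib.AlgebraicGeometry.Morphisms.ClosedImmersion

/-!
# `k` is algebraically closed in the function field of a geometrically integral component
-/

set_option autoImplicit false
set_option linter.style.haveILetI false
set_option backward.isDefEq.respectTransparency.types false

universe u

open CategoryTheory CategoryTheory.Limits AlgebraicGeometry Opposite TopologicalSpace Polynomial
open scoped TensorProduct

noncomputable section

namespace Groth.TFOneAux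

/-- An algebraic element of an algebra all whose extensions of scalars are domains is a scalar. -/
theorem mem_range_of_isDomain_tensor {k R : Type u} [Field k] [CommRing R] [IsDomain R] [Algebra k R]
    (h : ∀ (K : Type u) [Field K] [Algebra k K], IsDomain (K ⊗[k] R)) {t : R} (ht : IsIntegral k t) :
    t ∈ (algebraMap k R).range := by
  let S : Subalgebra k R := Algebra.adjoin k {t}
  haveI : Module.Finite k S := Module.Finite.iff_fg.2 ht.fg_adjoin_singleton
  haveI : IsArtinianRing S := isArtinian_of_tower k inferInstance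
  letI : Field S := (IsArtinianRing.isField_of_isDomain S).toField
  haveI := h S
  let j : S ⊗[k] S →ₐ[k] S ⊗[k] R := Algebra.TensorProduct.map (AlgHom.id k S) S.val
  have hj : Function.Injective j :=
    Module.Flat.lTensor_preserves_injective_linearMap S.val.toLinearMap Subtype.val_injective
  haveI : IsDomain (S ⊗[k] S) := hj.isDomain j.toRingHom
  haveI : IsArtinianRing (S ⊗[k] S) := isArtinian_of_tower k inferInstance
  letI : Field (S ⊗[k] S) := (IsArtinianRing.isField_of_isDomain (S ⊗[k] S)).toField
  have hinj : Function.Injective (Algebra.TensorProduct.lmul' k : S ⊗[k] S →ₐ[k] S) :=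
    (Algebra.TensorProduct.lmul' k : S ⊗[k] S →ₐ[k] S).toRingHom.injective
  have h1 := LinearMap.finrank_le_finrank_of_injective
    (f := (Algebra.TensorProduct.lmul' k : S ⊗[k] S →ₐ[k] S).toLinearMap) hinj
  rw [Module.finrank_tensorProduct] at h1
  have h2 : 0 < Module.finrank k S := Module.finrank_pos
  have h3 : Module.finrank k S = 1 := by nlinarith
  have h4 : S = ⊥ := Subalgebra.eq_bot_of_finrank_one h3
  obtain ⟨c, hc⟩ := Algebra.mem_bot.1 (h4 ▸ Algebra.self_mem_adjoin_singleton k t : t ∈ (⊥ : Subalgebra k R))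
  exact ⟨c, hc⟩

variable {k : Type u} [Field k]

/-- An algebraic germ at the generic point of a geometrically integral scheme is a constant. -/
theorem mem_range_germ {Z : Scheme.{u}} [Z.Over (Spec (CommRingCat.of k))]
    [GeometricallyIntegral (Z ↘ Spec (CommRingCat.of k))] [IsIntegral Z]
    (x : Z) (s : Z.presheaf.stalk x) (p : k[X]) (hp : p.Monic)
    (hs : p.eval₂ (toStalk k x) s = 0) : ∃ c : k, s = toStalk k x c := by
  obtain ⟨U, hxU, a, rfl⟩ := TopCat.Presheaf.exists_germ_eq Z.presheaf s
  obtain ⟨W, hW, hxW, hWU⟩ := exists_isAffineOpen_mem_and_subset (X := Z) (x := x) (U := U) hxU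
  haveI : Nonempty W := ⟨⟨x, hxW⟩⟩
  let φ : k →+* Γ(Z, W) := CohC3.baseApp Z W
  letI : Algebra k Γ(Z, W) := φ.toAlgebra
  have hφ : hW.fromSpec ≫ (Z ↘ Spec (CommRingCat.of k)) =
      Spec.map (CommRingCat.ofHom (algebraMap k Γ(Z, W))) := by
    have h := IsAffineOpen.SpecMap_appLE_fromSpec (Z ↘ Spec (CommRingCat.of k))
      (isAffineOpen_top (Spec (CommRingCat.of k))) hW le_top
    rw [IsAffineOpen.fromSpec_top, Scheme.isoSpec_Spec_inv] at h
    rw [← h, ← Spec.map_comp]
    rfl
  have hgerm : ∀ c, Z.presheaf.germ W x hxW (φ c) = toStalk k x c := fun c =>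
    TopCat.Presheaf.germ_res_apply Z.presheaf (homOfLE le_top) x hxW _
  let b : Γ(Z, W) := Z.presheaf.map (homOfLE hWU).op a
  have hb : Z.presheaf.germ W x hxW b = Z.presheaf.germ U x hxU a :=
    TopCat.Presheaf.germ_res_apply Z.presheaf (homOfLE hWU) x hxW a
  have hint : IsIntegral k b := by
    refine ⟨p, hp, germ_injective_of_isIntegral Z x hxW ?_⟩
    rw [map_zero, ← hs, ← hb, hom_eval₂]
    congr 1
    ext c
    exact hgerm c
  obtain ⟨c, hc⟩ := mem_range_of_isDomain_tensor (fun K _ _ =>
    Groth.Misc15.Moving.isDomain_tensor (K := K) (Z ↘ Spec (CommRingCat.of k)) Γ(Z, W) hW.fromSpec hφ) hint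
  exact ⟨c, by rw [← hgerm, ← hb, ← hc]; rfl⟩

end Groth.TFOneAux
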