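import Groth.Agent.TFOne.Chain
import Groth.Agent.CohC3.ExistenceProper
import Groth.Agent.CohC3.ExtendZero

/-!
# Algebraization of the quotient of a chain of modifications
-/

set_option autoImplicit false
set_option linter.style.haveILetI false
set_option backward.isDefEq.respectTransparency.types false

universe u

open CategoryTheory CategoryTheory.Limits AlgebraicGeometry Opposite TopologicalSpace

noncomputable section

namespace Groth.TFOneAux

open CohC3

variable {A : Type u} [CommRing A] {X : Scheme.{u}} [X.Over (Spec (CommRingCat.of A))]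

/-- Multiplication by `a`, as a natural endomorphism. -/
def smulNat (a : A) (M : X.Modules) : M ⟶ M := Formal.smulMod A M a

theorem smulNat_naturality (a : A) {M N : X.Modules} (φ : M ⟶ N) :
    φ ≫ smulNat a N = smulNat a M ≫ φ := smulMod_naturality φ a

theorem pw_eq (a : A) (K : Chain (smulNat (X := X) a)) : ∀ n, K.pw n = Formal.smulMod A (K.M 0) (a ^ n)
  | 0 => by rw [pow_zero, smulMod_one]; rfl
  | n + 1 => by
    show K.pw n ≫ Formal.smulMod A (K.M 0) a = _
    rw [pw_eq a K n, pow_succ', smulMod_mul]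

theorem mem_annHom_span_pow {a : A} {n : ℕ} {M N : X.Modules} (φ : M ⟶ N)
    (h : Formal.smulMod A M (a ^ n) ≫ φ = 0) : Ideal.span {a} ^ n ≤ annHom φ := by
  rw [Ideal.span_singleton_pow, Ideal.span_le, Set.singleton_subset_iff]
  exact h

variable [IsNoetherianRing A] [IsProper (X ↘ Spec (CommRingCat.of A))]

/-- The algebraization of `n ↦ M 0 / M n`. -/
theorem exists_algebraization (a : A) [IsAdicComplete (Ideal.span {a}) A]
    (K : Chain (smulNat (X := X) a)) (hM : ∀ n, Coh.IsCoh (K.M n)) :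
    ∃ (N : X.Modules) (φ : K.M 0 ⟶ N) (e : Formal.modPow (Ideal.span {a}) 1 N ≅ K.Q 0),
      Coh.IsCoh N ∧ Epi φ ∧ Mono (Formal.smulMod A N a) ∧
      φ ≫ Formal.modPowπ (Ideal.span {a}) 1 N ≫ e.hom = K.g 0 := by
  let I := Ideal.span {a}
  haveI := isNoetherian_of_proper A X
  have hs : ∀ {M N : X.Modules} (φ : M ⟶ N), φ ≫ smulNat a N = smulNat a M ≫ φ :=
    fun φ => smulNat_naturality a φ
  let G : ℕᵒᵖ ⥤ X.Modules :=
    Functor.ofOpSequence (X := fun n => K.Quot (n + 1)) fun n => K.tr (n + 1)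
  have hG' : ∀ n, sysMap G (Nat.le_succ n) = K.tr (n + 1) := fun n =>
    Functor.ofOpSequence_map_homOfLE_succ _ n
  have hcoh : ∀ n, Coh.IsCoh (K.Quot n) := fun n => by
    haveI := (hM n).1
    exact QCohMod.isCoh_cokernel (K.ι n) (hM 0)
  have hkill : ∀ n, I ^ n ≤ annHom (K.π n) := fun n =>
    mem_annHom_span_pow _ ((congrArg (· ≫ K.π n) (pw_eq a K n).symm).trans (K.pw_π hs n))
  have hkilled : ∀ n, Formal.KilledBy (I ^ n) (K.Quot n) := fun n => killedBy_of_epi (K.π n) (hkill n)
  have hquot' : ∀ n, IsQuot (I ^ (n + 1)) (K.tr (n + 1)) := fun n => by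
    refine ⟨fun b hb => ?_, inferInstance, fun φ hφ => ?_⟩
    · rw [mem_annHom, ← smulMod_naturality, hkilled (n + 1) b hb, comp_zero]
    · refine K.exists_desc hs (n + 1) φ ?_
      rw [pw_eq a K, ← Category.assoc, ← smulMod_naturality, Category.assoc,
        (mem_annHom _ _).1 (hφ (Ideal.pow_mem_pow (Ideal.mem_span_singleton_self a) _)), comp_zero]
  have hquot : ∀ n, IsQuot (I ^ (n + 1)) (sysMap G (Nat.le_succ n)) := fun n =>
    (hG' n).symm ▸ hquot' n
  have hform : Formal.IsCohFormal I G := ⟨fun n => hcoh (n + 1), fun n => hkilled (n + 1),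
    fun n => (hquot n).isIso_desc⟩
  obtain ⟨N, hN, ⟨e⟩⟩ := algebraizes_proper (I := I) X G hform
  let app : ∀ n, Formal.modPow I (n + 1) (K.M 0) ⟶ K.Quot (n + 1) := fun n =>
    modPowDesc I (n + 1) (K.π (n + 1)) (hkill (n + 1))
  let τ : Formal.completion I (K.M 0) ⟶ G := NatTrans.ofOpSequence app (fun n => by
    refine (isQuot_modPowπ I (n + 1 + 1) (K.M 0)).hom_ext ?_
    refine ((Category.assoc _ _ _).symm.trans (congrArg (· ≫ app n) (modPowπ_sysMap_succ I (K.M 0) n))).trans ?_
    refine (modPowπ_desc _ _ _ _).trans ?_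
    refine (K.π_tr (n + 1)).symm.trans ?_
    refine Eq.trans ?_ (Category.assoc _ _ _)
    exact congrArg₂ (· ≫ ·) (modPowπ_desc I (n + 1 + 1) (K.π (n + 1 + 1)) (hkill _)).symm (hG' n).symm)
  obtain ⟨φ, hφ, -⟩ := existsUnique_hom_proper (I := I) X (hM 0) hN (τ ≫ e.inv)
  let Ei : ∀ n, Formal.modPow I (n + 1) N ≅ K.Quot (n + 1) := fun n => e.app (op n)
  have hφ' : ∀ n, φ ≫ Formal.modPowπ I (n + 1) N ≫ (Ei n).hom = K.π (n + 1) := fun n => by
    have h : φ ≫ Formal.modPowπ I (n + 1) N =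
        Formal.modPowπ I (n + 1) (K.M 0) ≫ app n ≫ (Ei n).inv := (hφ n).symm
    rw [← Category.assoc, h, Category.assoc, Category.assoc, Iso.inv_hom_id, Category.comp_id]
    exact modPowπ_desc _ _ _ _
  have hE : ∀ n, Formal.modPowπ I (n + 1 + 1) N ≫ (Ei (n + 1)).hom ≫ K.tr (n + 1) =
      Formal.modPowπ I (n + 1) N ≫ (Ei n).hom := fun n => by
    refine Eq.trans ?_ (congrArg (· ≫ (Ei n).hom) (modPowπ_sysMap_succ I N n))
    refine Eq.trans ?_ (Category.assoc _ _ _).symm
    refine congrArg (Formal.modPowπ I (n + 1 + 1) N ≫ ·) ?_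
    exact (congrArg (e.hom.app (op (n + 1)) ≫ ·) (hG' n).symm).trans
      (e.hom.naturality (homOfLE (Nat.le_succ n)).op).symm
  obtain ⟨e₁, he₁⟩ := K.exists_iso_one
  refine ⟨N, φ, Ei 0 ≪≫ e₁, hN, ?_, ?_, ?_⟩
  · -- `φ` is surjective as it is so modulo `a`
    have hC : Coh.IsCoh (cokernel φ) := by
      haveI := (hM 0).1
      exact QCohMod.isCoh_cokernel φ hN
    have h1 : Formal.modPowπ I 1 (cokernel φ) = 0 := by
      have hle : I ^ 1 ≤ annHom (cokernel.π φ ≫ Formal.modPowπ I 1 (cokernel φ)) :=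
        ((isQuot_modPowπ I 1 (cokernel φ)).le_ann).trans (annHom_le_precomp _ _)
      obtain ⟨χ, hχ⟩ := (isQuot_modPowπ I 1 N).desc _ hle
      have h2 : (φ ≫ Formal.modPowπ I 1 N) ≫ χ = 0 := by
        rw [Category.assoc, hχ, ← Category.assoc, cokernel.condition, zero_comp]
      haveI : Epi (φ ≫ Formal.modPowπ I 1 N) := by
        have h := hφ' 0
        rw [← Category.assoc] at h
        have : φ ≫ Formal.modPowπ I 1 N = K.π 1 ≫ (Ei 0).inv := (Iso.eq_comp_inv (Ei 0)).2 h
        rw [this]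
        exact epi_comp _ _
      have h3 : χ = 0 := by rw [← cancel_epi (φ ≫ Formal.modPowπ I 1 N), h2, comp_zero]
      rw [← cancel_epi (cokernel.π φ), ← hχ, h3, comp_zero, comp_zero]
    have hz : IsZero (Formal.modPow I 1 (cokernel φ)) := by
      rw [IsZero.iff_id_eq_zero, ← cancel_epi (Formal.modPowπ I 1 (cokernel φ)), h1, zero_comp, zero_comp]
    have hd := disjoint_support_of_modPow (I := I) hC isClosed_univ fun x _ => by
      haveI := (isCoh_modPow' hC I 1).1
      rw [(QCohMod.isZero_iff_support_eq_empty _).1 hz]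
      exact id
    haveI := hC.1
    refine Abelian.epi_of_cokernel_π_eq_zero _ ((IsZero.eq_of_tgt ?_ _ _))
    exact (QCohMod.isZero_iff_support_eq_empty _).2
      (Set.eq_empty_of_forall_notMem fun x => hd x trivial)
  · -- `N` has no torsion
    refine Preadditive.mono_of_kernel_zero ?_
    let k := kernel.ι (Formal.smulMod A N a)
    have hK : Coh.IsCoh (kernel (Formal.smulMod A N a)) := by
      haveI := hN.1
      exact QCohMod.isCoh_kernel _ hN
    have hk : k ≫ Formal.smulMod A N a = 0 := kernel.condition _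
    have hzero : ∀ n, k ≫ Formal.modPowπ I (n + 1) N = 0 := fun n => by
      have h3 : (k ≫ Formal.modPowπ I (n + 1) N) ≫ (Ei n).hom = 0 := by
        rw [Category.assoc, ← hE n, ← Category.assoc (Formal.modPowπ I (n + 1 + 1) N), ← Category.assoc k]
        refine K.comp_tr_eq_zero hs (n + 1) _ ?_
        show (k ≫ Formal.modPowπ I (n + 1 + 1) N ≫ (Ei (n + 1)).hom) ≫
          Formal.smulMod A (K.Quot (n + 1 + 1)) a = 0
        rw [smulMod_naturality, ← Category.assoc, ← smulMod_naturality k, hk, zero_comp]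
      rw [← cancel_mono (Ei n).hom, zero_comp, h3]
    exact (existsUnique_hom_proper (I := I) X hK hN 0).unique
      (fun n => (comp_zero.trans (hzero n).symm)) (fun n => comp_zero.trans zero_comp.symm)
  · show φ ≫ Formal.modPowπ I 1 N ≫ (Ei 0).hom ≫ e₁.hom = K.g 0
    rw [← Category.assoc (Formal.modPowπ I 1 N), ← Category.assoc]
    exact (congrArg (· ≫ e₁.hom) (hφ' 0)).trans he₁

end Groth.TFOneAux
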