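import Groth.Agent.TFOne.Refute
import Groth.Agent.Agf.RegularPoints

/-!
# Minimising over the lattices
-/

set_option autoImplicit false
set_option linter.style.haveILetI false
set_option linter.unusedSectionVars false
set_option backward.isDefEq.respectTransparency.types false

universe u

open CategoryTheory CategoryTheory.Limits AlgebraicGeometry Opposite TopologicalSpace

noncomputable section

namespace Groth.TFOneAux

section Curve

variable {X : Scheme.{u}} {M M' G : X.Modules} {P : Set (Gen X)} {π : M ⟶ G}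

/-- A modification decomposing at the same components splits. -/
theorem Modif.section_of_dec (S : Modif M π M') (hX : IsCurve X) (hM : TFOne.IsTF1 X M) (hY : IsQ M P G π)
    (h : Dec M' P) : ∃ σ : M' ⟶ G, S.a ≫ σ = 𝟙 G ∧ IsQ M' P G σ ∧ ∃ s : G ⟶ M', s ≫ σ = 𝟙 G := by
  haveI := hX.noeth
  haveI := hY.epi
  haveI := hY.coh.1
  haveI : Mono S.a := S.short.mono_f
  obtain ⟨G', π', s', hG', hs'⟩ := h
  haveI := hG'.coh.1
  haveI := hG'.epi
  have hM' := S.isTF1' hX hM hY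
  have hz : s' ≫ S.b = 0 := eq_zero_of_generic hX hG'.coh (QCohMod.isCoh_kernel π hM.1)
    (isTorsionFree_of_mono (kernel.ι π) hM.2.1) _ fun η hη v => by
      by_cases hP : (⟨η, hη⟩ : Gen X) ∈ P
      · haveI := subsingleton_stalk_kernel π η
          (bijective_of_isRkOne hX hM.2.2 π hη ((hY.supp ⟨η, hη⟩).2 hP)).1
        exact Subsingleton.elim _ _
      · haveI := subsingleton_stalk_of_not_mem
          (fun h => hP ((hG'.supp ⟨η, hη⟩).1 h) : η ∉ CohB1.support G')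
        rw [Subsingleton.elim v 0, map_zero]
  let ψ : G' ⟶ G := S.short.exact.lift s' hz
  have hψ : ψ ≫ S.a = s' := S.short.exact.lift_f _ _
  let c := S.a ≫ π'
  have hψc : ψ ≫ c = 𝟙 G' := by rw [← Category.assoc, hψ, hs']
  haveI : Epi c := (SplitEpi.mk ψ hψc).epi
  haveI : Mono c := by
    refine Preadditive.mono_of_isZero_kernel c (isZero_of_generic hX hY.tf (kernel.ι c)
      (QCohMod.isCoh_kernel c hY.coh) fun η hη => ?_)
    by_cases hs : η ∈ CohB1.support G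
    · refine subsingleton_stalk_kernel c η fun a b hab => injective_stalkMap S.a η ?_
      refine (bijective_of_isRkOne hX hM'.2.2 π' hη ((hG'.supp ⟨η, hη⟩).2 ((hY.supp ⟨η, hη⟩).1 hs))).1 ?_
      simpa only [c, Duality.StalkHom.stalkMapₗ_comp_apply] using hab
    · haveI := subsingleton_stalk_of_not_mem hs
      exact (injective_stalkMap (kernel.ι c) η).subsingleton
  haveI : IsIso c := isIso_of_mono_of_epi c
  refine ⟨π' ≫ inv c, by rw [← Category.assoc]; exact IsIso.hom_inv_id c,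
    ⟨epi_comp _ _, hY.coh, hY.tf, hY.supp⟩, c ≫ s', ?_⟩
  rw [Category.assoc, reassoc_of% hs', IsIso.hom_inv_id]

theorem isIso_lift_of_retract {A B : X.Modules} (π : M ⟶ A) (s : A ⟶ M) (hs : s ≫ π = 𝟙 A) (p : M ⟶ B)
    (ι : B ⟶ M) (hι : ι ≫ p = 𝟙 B) (hιπ : ι ≫ π = 0) (hp : p ≫ ι = 𝟙 M - π ≫ s) [Mono ι] :
    IsIso (biprod.lift π p) := by
  have hsp : s ≫ p = 0 := by
    rw [← cancel_mono ι, Category.assoc, hp, Preadditive.comp_sub, Category.comp_id, reassoc_of% hs,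
      sub_self, zero_comp]
  refine ⟨biprod.desc s ι, ?_, ?_⟩
  · rw [biprod.lift_desc, hp]; abel
  · apply biprod.hom_ext' <;> apply biprod.hom_ext <;> simp [hs, hsp, hι, hιπ]

theorem eq_of_specializes_domain {x : X} [IsDomain (X.presheaf.stalk x)] {η η' : X}
    (hη : η ∈ genericPoints (X : Type u)) (hη' : η' ∈ genericPoints (X : Type u)) (h : η ⤳ x) (h' : η' ⤳ x) :
    η = η' := by
  let b : PrimeSpectrum (X.presheaf.stalk x) := ⟨⊥, Ideal.isPrime_bot⟩
  have key : ∀ w ∈ genericPoints (X : Type u), w ⤳ x → X.fromSpecStalk x b = w := fun w hw hwx => by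
    obtain ⟨p, rfl⟩ : w ∈ Set.range (X.fromSpecStalk x) := by rw [Scheme.range_fromSpecStalk]; exact hwx
    have hb : X.fromSpecStalk x b ⤳ X.fromSpecStalk x p :=
      ((PrimeSpectrum.le_iff_specializes b p).1 bot_le).map (X.fromSpecStalk x).continuous
    have h1 : closure {X.fromSpecStalk x p} ⊆ closure {X.fromSpecStalk x b} :=
      closure_minimal (Set.singleton_subset_iff.2 hb.mem_closure) isClosed_closure
    exact (specializes_iff_closure_subset.2 (hw.2 (isIrreducible_singleton.closure) h1)).antisymm hb |>.eq.symm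
  rw [← key η hη h, key η' hη' h']

end Curve

variable {R : Type u} [CommRing R] [IsDomain R] [IsDiscreteValuationRing R] {X Xs Xg : Scheme.{u}}
  {f : X ⟶ Spec (CommRingCat.of R)} [IsProper f] [Flat f]
  [Xs.Over (Spec (CommRingCat.of (IsLocalRing.ResidueField R)))] [IsReduced Xs] {i : Xs ⟶ X}
  [Xg.Over (Spec (CommRingCat.of (FractionRing R)))] {j : Xg ⟶ X}
  (hsq : IsPullback i (Xs ↘ Spec (CommRingCat.of (IsLocalRing.ResidueField R))) f
    (Spec.map (CommRingCat.ofHom (IsLocalRing.residue R))))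
  (hgen : IsPullback j (Xg ↘ Spec (CommRingCat.of (FractionRing R))) f
    (Spec.map (CommRingCat.ofHom (algebraMap R (FractionRing R)))))
  (hpure : ∀ C ∈ irreducibleComponents (Xs : Type u), topologicalKrullDim C = 1)
  (hgi : ∀ (C : Set Xs) (hC : C ∈ irreducibleComponents (Xs : Type u)),
    GeometricallyIntegral (VecSt.subschι Xs C (isClosed_of_mem_irreducibleComponents C hC) ≫
      (Xs ↘ Spec (CommRingCat.of (IsLocalRing.ResidueField R)))))
  {I : X.Modules} {E : X.Modules} {r : ℕ}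

include hsq hgi in
theorem good_self (hI : TFOne.IsRelTF1 f I) : Good f i j I I := by
  haveI : SheafOfModules.IsFinitePresentation (R := X.ringCatSheaf) I := hI.2.1
  have hc : Coh.IsCoh I := ⟨inferInstance, PropsBasic.LocFree.isFT_of_isFP I hI.2.1⟩
  exact ⟨hc, hI.1, isTF1_special hsq hgi hc hI.2.2, ⟨Iso.refl _⟩⟩

include hsq hgen in
theorem nonempty_special
    (hg : TFOne.FibSimple (Xg ↘ Spec (CommRingCat.of (FractionRing R))) ((Scheme.Modules.pullback j).obj I)) :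
    Nonempty Xs := by
  let Ω := AlgebraicClosure (FractionRing R)
  let t := Spec.map (CommRingCat.ofHom (algebraMap (FractionRing R) Ω))
  let Y := pullback (Xg ↘ Spec (CommRingCat.of (FractionRing R))) t
  have hs := (hg Ω t Y (pullback.fst _ _) (pullback.snd _ _) (IsPullback.of_hasPullback _ _)).1
  by_contra hne
  refine hs ((QCohMod.isZero_iff_support_eq_empty _).2 (Set.eq_empty_of_forall_notMem fun y _ => hne ?_))
  obtain ⟨z, -, hfz⟩ := (specializes_closedPoint (f (j ((pullback.fst (Xg ↘ Spec (CommRingCat.of (FractionRing R))) t) y)))).mem_closed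
    (f.isClosedMap _ isClosed_univ) ⟨_, trivial, rfl⟩
  obtain ⟨w, -⟩ := (range_special hsq).ge hfz
  exact ⟨w⟩

/-- `β` of a pattern on the special fibre. -/
abbrev bS (i : Xs ⟶ X) (E : X.Modules) (r : ℕ) (J : X.Modules) (P : Set (Gen Xs)) : ℤ :=
  bPat (IsLocalRing.ResidueField R) ((Scheme.Modules.pullback i).obj E) r
    ((Scheme.Modules.pullback i).obj J) P

/-- A lattice of total degree zero. -/
def Lat (f : X ⟶ Spec (CommRingCat.of R)) (i : Xs ⟶ X) (j : Xg ⟶ X) (I E : X.Modules) (r : ℕ)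
    (J : X.Modules) : Prop :=
  Good f i j I J ∧ bS (R := R) i E r J Set.univ = 0

/-- A semistable lattice. -/
def SemLat (f : X ⟶ Spec (CommRingCat.of R)) (i : Xs ⟶ X) (j : Xg ⟶ X) (I E : X.Modules) (r : ℕ)
    (J : X.Modules) : Prop :=
  Lat f i j I E r J ∧ ∀ P, 0 ≤ bS (R := R) i E r J P

variable {J : X.Modules} {G : Xs.Modules} {P : Set (Gen Xs)} {π : (Scheme.Modules.pullback i).obj J ⟶ G}

include hsq hpure hgi in
theorem lat_self (hI : TFOne.IsRelTF1 f I) (hE : FlatMod.IsFinLocFreeOfRank r E) {d : ℤ}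
    (hχ : Curv2.euler (IsLocalRing.ResidueField R) Xs ((Scheme.Modules.pullback i).obj I) = d)
    (hEd : Curv2.deg (IsLocalRing.ResidueField R) Xs ((Scheme.Modules.pullback i).obj E) r = -(r : ℤ) * d) :
    Lat f i j I E r I := by
  haveI := isProper_fibre hsq
  have hg := good_self (j := j) hsq hgi hI
  refine ⟨hg, ?_⟩
  rw [bS, bPat_univ (isCurve_special hsq hpure) hg.tf,
    phi_self _ hpure (LocFree.isFinLocFreeOfRank_pullback i hE) hg.tf, hχ, hEd]
  ring

include hsq hgen hpure in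
theorem lat_next (hE : FlatMod.IsFinLocFreeOfRank r E) (hJ : Lat f i j I E r J) (hY : IsQ _ P G π) :
    Lat f i j I E r (nxt i J π) := by
  haveI := isProper_fibre hsq
  haveI := hY.epi
  have hX := isCurve_special hsq hpure
  obtain ⟨hg, ⟨S⟩⟩ := exists_next hsq hgen hX hJ.1 π hY.coh hY.tf
  refine ⟨hg, ?_⟩
  rw [bS, S.bPat_univ_eq hX (LocFree.isFinLocFreeOfRank_pullback i hE) hJ.1.tf hY]
  exact hJ.2

include hsq hgen hpure in
theorem semLat_next (hE : FlatMod.IsFinLocFreeOfRank r E) (hJ : SemLat f i j I E r J) (hY : IsQ _ P G π)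
    (h0 : bS (R := R) i E r J P = 0) : SemLat f i j I E r (nxt i J π) := by
  haveI := isProper_fibre hsq
  haveI := hY.epi
  have hX := isCurve_special hsq hpure
  obtain ⟨-, ⟨S⟩⟩ := exists_next hsq hgen hX hJ.1.1 π hY.coh hY.tf
  refine ⟨lat_next hsq hgen hpure hE hJ.1 hY, fun T => ?_⟩
  have := S.bPat_le (k := IsLocalRing.ResidueField R) hX (LocFree.isFinLocFreeOfRank_pullback i hE)
    hJ.1.1.tf hY T
  have := hJ.2 (P ∪ T)
  have := hJ.2 (P ∩ T)
  simp only [bS] at *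
  linarith

include hsq hgen hpure hgi in
/-- A semistable lattice exists. -/
theorem exists_semLat (hE : FlatMod.IsFinLocFreeOfRank r E) (hr : 0 < r) (hI : Lat f i j I E r I)
    (hg : TFOne.FibSemistable (Xg ↘ Spec (CommRingCat.of (FractionRing R)))
      ((Scheme.Modules.pullback j).obj I) ((Scheme.Modules.pullback j).obj E) r) :
    ∃ J, SemLat f i j I E r J := by
  classical
  haveI := isProper_fibre hsq
  have hX := isCurve_special hsq hpure
  haveI := hX.noeth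
  haveI : Finite (Gen Xs) := finite_gen
  haveI : Fintype (Set (Gen Xs)) := Fintype.ofFinite _
  have hE' := LocFree.isFinLocFreeOfRank_pullback i hE
  let b : X.Modules → Set (Gen Xs) → ℤ := bS (R := R) i E r
  have hA : ∃ n : ℕ, ∃ J, Lat f i j I E r J ∧ ∀ Q, -(n : ℤ) ≤ b J Q := by
    refine ⟨Finset.univ.sup fun Q => (b I Q).natAbs, I, hI, fun Q => ?_⟩
    have : (b I Q).natAbs ≤ Finset.univ.sup fun Q => (b I Q).natAbs :=
      Finset.le_sup (f := fun Q => (b I Q).natAbs) (Finset.mem_univ Q)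
    omega
  obtain ⟨J, hJ, hJb⟩ := Nat.find_spec hA
  set n := Nat.find hA with hn
  by_cases hn0 : n = 0
  · exact ⟨J, hJ, fun Q => by have := hJb Q; simp only [hn0, Nat.cast_zero, neg_zero] at this; exact this⟩
  exfalso
  set m : ℤ := -(n : ℤ) with hm
  have hmin : ∀ J, Lat f i j I E r J → (∀ Q, m ≤ b J Q) → ∃ Q, b J Q = m := fun J hJ hJb => by
    by_contra hno
    have h : ∀ Q, -((n - 1 : ℕ) : ℤ) ≤ b J Q := fun Q => by
      have := hJb Q
      have : b J Q ≠ m := fun h => hno ⟨Q, h⟩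
      omega
    have := Nat.find_le (h := hA) ⟨J, hJ, h⟩
    omega
  have hB : ∃ c : ℕ, ∃ J, Lat f i j I E r J ∧ (∀ Q, m ≤ b J Q) ∧ ∀ Q, b J Q = m → Q.ncard ≤ c :=
    ⟨Nat.card (Gen Xs), J, hJ, hJb, fun Q _ => Set.ncard_le_card Q⟩
  obtain ⟨J₁, hJ₁, hJ₁b, hJ₁c⟩ := Nat.find_spec hB
  set c := Nat.find hB with hc
  have hbig : ∀ J, Lat f i j I E r J → (∀ Q, m ≤ b J Q) → ∃ Q, b J Q = m ∧ c ≤ Q.ncard := fun J hJ hJb => by
    by_cases hc0 : c = 0
    · obtain ⟨Q, hQ⟩ := hmin J hJ hJb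
      exact ⟨Q, hQ, by omega⟩
    · by_contra hno
      have h : ∀ Q, b J Q = m → Q.ncard ≤ c - 1 := fun Q hQ => by
        have : ¬ c ≤ Q.ncard := fun h => hno ⟨Q, hQ, h⟩
        omega
      have := Nat.find_le (h := hB) ⟨J, hJ, hJb, h⟩
      omega
  obtain ⟨P, hP, hPc⟩ := hbig J₁ hJ₁ hJ₁b
  have hPc' : P.ncard = c := le_antisymm (hJ₁c P hP) hPc
  obtain ⟨G, π, hY⟩ := exists_isQ hX hJ₁.1.tf P
  let T : ∀ J : X.Modules, ((Scheme.Modules.pullback i).obj J ⟶ G) → Prop := fun J π =>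
    Lat f i j I E r J ∧ (∀ Q, m ≤ b J Q) ∧ (∀ Q, b J Q = m → Q.ncard ≤ c) ∧ b J P = m ∧ IsQ _ P G π
  have hstep : ∀ J π, T J π →
      ∀ S : Modif ((Scheme.Modules.pullback i).obj J) π ((Scheme.Modules.pullback i).obj (nxt i J π)),
        ∃ σ, S.a ≫ σ = 𝟙 G ∧ T (nxt i J π) σ := by
    rintro J π ⟨hJ, hJb, hJc, hJP, hY⟩ S
    have hle := fun Q => S.bPat_le (k := IsLocalRing.ResidueField R) hX hE' hJ.1.tf hY Q
    have hb' : ∀ Q, m ≤ b (nxt i J π) Q := fun Q => by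
      have := hle Q
      have := hJb (P ∪ Q)
      have := hJb (P ∩ Q)
      simp only [b, bS] at *
      linarith
    have hsub : ∀ Q, b (nxt i J π) Q = m → Q ⊆ P := fun Q hQ => by
      have h1 : b J (P ∪ Q) = m := by
        have := hle Q
        have := hJb (P ∪ Q)
        have := hJb (P ∩ Q)
        simp only [b, bS] at *
        linarith
      have h2 : P = P ∪ Q := Set.eq_of_subset_of_ncard_le Set.subset_union_left
        ((hJc _ h1).trans hPc'.ge)
      exact h2 ▸ Set.subset_union_right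
    have hJ' := lat_next hsq hgen hpure hE hJ hY
    obtain ⟨Q, hQ, hQc⟩ := hbig _ hJ' hb'
    obtain rfl : Q = P := Set.eq_of_subset_of_ncard_le (hsub Q hQ) (hPc'.le.trans hQc)
    obtain ⟨σ, hσ, hσQ⟩ := S.exists_section (k := IsLocalRing.ResidueField R) hX hE' hr hJ.1.tf hY
      (le_of_eq (hQ.trans hJP.symm))
    exact ⟨σ, hσ, hJ', hb', fun Q' hQ' => (Set.ncard_le_ncard (hsub Q' hQ')).trans hPc'.le, hQ, hσQ⟩
  have hK := hasChain_of_step hsq hY.coh T (fun J π h => ⟨h.1.1.coh, h.1.1.flat, h.2.2.2.2.epi⟩) hstep π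
    ⟨hJ₁, hJ₁b, hJ₁c, hP, hY⟩
  refine false_of_chain_neg hsq hgen hpure hgi hJ₁.1 hE π hr hg
    ((bPat_univ hX hJ₁.1.tf).symm.trans hJ₁.2) hK ?_
  rw [← bPat_eq hX hJ₁.1.tf hY]
  exact hP.trans_lt (by omega)

include hsq hgen hpure hgi in
/-- A quasi-stable lattice exists. -/
theorem exists_quasistableLat (hE : FlatMod.IsFinLocFreeOfRank r E) (hr : 0 < r)
    (σ : Spec (CommRingCat.of R) ⟶ X) (hσ : σ ≫ f = 𝟙 _)
    (σg : Spec (CommRingCat.of (FractionRing R)) ⟶ Xg)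
    (hσg : σg ≫ (Xg ↘ Spec (CommRingCat.of (FractionRing R))) = 𝟙 _)
    (hσgj : σg ≫ j = Spec.map (CommRingCat.ofHom (algebraMap R (FractionRing R))) ≫ σ)
    (hg : TFOne.FibQuasistableAlong (Xg ↘ Spec (CommRingCat.of (FractionRing R)))
      ((Scheme.Modules.pullback j).obj I) ((Scheme.Modules.pullback j).obj E) σg hσg r)
    (s₀ : Xs) (hs₀ : i s₀ = σ (IsLocalRing.closedPoint R))
    (huniq : ∀ η η' : Gen Xs, η.1 ⤳ s₀ → η'.1 ⤳ s₀ → η = η')
    {J₀ : X.Modules} (hJ₀ : SemLat f i j I E r J₀) :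
    ∃ J, SemLat f i j I E r J ∧
      ∀ P : Set (Gen Xs), Through P s₀ → P ≠ Set.univ → 0 < bS (R := R) i E r J P := by
  classical
  haveI := isProper_fibre hsq
  have hX := isCurve_special hsq hpure
  haveI := hX.noeth
  haveI : Finite (Gen Xs) := finite_gen
  have hE' := LocFree.isFinLocFreeOfRank_pullback i hE
  obtain ⟨η₀, hη₀⟩ := exists_gen_specializes s₀
  have hthr : ∀ {P : Set (Gen Xs)}, Through P s₀ → η₀ ∈ P := fun ⟨η, hη, h⟩ => huniq η η₀ h hη₀ ▸ hη
  let b : X.Modules → Set (Gen Xs) → ℤ := bS (R := R) i E r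
  set N := Nat.card (Gen Xs) with hN
  have hB : ∃ k : ℕ, ∃ J, SemLat f i j I E r J ∧ ∀ Q, η₀ ∈ Q → b J Q = 0 → N ≤ Q.ncard + k :=
    ⟨N, J₀, hJ₀, fun Q _ _ => Nat.le_add_left _ _⟩
  obtain ⟨J₁, hJ₁, hJ₁c⟩ := Nat.find_spec hB
  set k := Nat.find hB with hk
  have hsmall : ∀ J, SemLat f i j I E r J → ∃ Q, η₀ ∈ Q ∧ b J Q = 0 ∧ Q.ncard + k ≤ N := fun J hJ => by
    by_cases hk0 : k = 0
    · exact ⟨Set.univ, trivial, hJ.1.2, by rw [Set.ncard_univ, hk0, add_zero]⟩
    · by_contra hno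
      have h : ∀ Q, η₀ ∈ Q → b J Q = 0 → N ≤ Q.ncard + (k - 1) := fun Q h1 h2 => by
        have : ¬ Q.ncard + k ≤ N := fun h => hno ⟨Q, h1, h2, h⟩
        omega
      have := Nat.find_le (h := hB) ⟨J, hJ, h⟩
      omega
  obtain ⟨P, hPη, hP, hPc⟩ := hsmall J₁ hJ₁
  have hPc' : P.ncard + k = N := le_antisymm hPc (hJ₁c P hPη hP)
  by_cases hu : P = Set.univ
  · refine ⟨J₁, hJ₁, fun Q hQ hQu => (hJ₁.2 Q).lt_of_ne fun h0 => hQu ?_⟩
    have h1 := hJ₁c Q (hthr hQ) h0.symm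
    refine Set.eq_of_subset_of_ncard_le (Set.subset_univ Q) ?_
    rw [hu, Set.ncard_univ] at hPc'
    rw [Set.ncard_univ]
    omega
  exfalso
  obtain ⟨G, π, hY⟩ := exists_isQ hX hJ₁.1.1.tf P
  let T : ∀ J : X.Modules, ((Scheme.Modules.pullback i).obj J ⟶ G) → Prop := fun J π =>
    SemLat f i j I E r J ∧ (∀ Q, η₀ ∈ Q → b J Q = 0 → N ≤ Q.ncard + k) ∧ b J P = 0 ∧ IsQ _ P G π
  have hstep : ∀ J π, T J π →
      ∀ S : Modif ((Scheme.Modules.pullback i).obj J) π ((Scheme.Modules.pullback i).obj (nxt i J π)),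
        ∃ σ, S.a ≫ σ = 𝟙 G ∧ T (nxt i J π) σ := by
    rintro J π ⟨hJ, hJc, hJP, hY⟩ S
    have hJ' := semLat_next hsq hgen hpure hE hJ hY hJP
    have hsub : ∀ Q, η₀ ∈ Q → b (nxt i J π) Q = 0 → P ⊆ Q := fun Q hQη hQ => by
      have h1 : b J (P ∩ Q) = 0 := by
        have := S.bPat_le (k := IsLocalRing.ResidueField R) hX hE' hJ.1.1.tf hY Q
        have := hJ.2 (P ∪ Q)
        have := hJ.2 (P ∩ Q)
        simp only [b, bS] at *
        linarith
      have h2 : P ∩ Q = P := Set.eq_of_subset_of_ncard_le Set.inter_subset_left (by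
        have := hJc (P ∩ Q) ⟨hPη, hQη⟩ h1
        omega)
      exact h2 ▸ Set.inter_subset_right
    obtain ⟨Q, hQη, hQ, hQc⟩ := hsmall _ hJ'
    obtain rfl : P = Q := Set.eq_of_subset_of_ncard_le (hsub Q hQη hQ) (by omega)
    obtain ⟨σ', hσ', hσQ⟩ := S.exists_section (k := IsLocalRing.ResidueField R) hX hE' hr hJ.1.1.tf hY
      (le_of_eq (hQ.trans hJP.symm))
    refine ⟨σ', hσ', hJ', fun Q' hQ'η hQ' => ?_, hQ, hσQ⟩
    have := Set.ncard_le_ncard (hsub Q' hQ'η hQ')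
    omega
  have hK := hasChain_of_step hsq hY.coh T (fun J π h => ⟨h.1.1.1.coh, h.1.1.1.flat, h.2.2.2.epi⟩) hstep π
    ⟨hJ₁, hJ₁c, hP, hY⟩
  haveI := hY.epi
  haveI := hY.coh.1
  refine false_of_chain_quasistable hsq hgen hpure hgi hJ₁.1.1 hE π hr σ hσ σg hσg hσgj hg hs₀
    ((bPat_univ hX hJ₁.1.1.tf).symm.trans hJ₁.1.2) hK ((bPat_eq hX hJ₁.1.1.tf hY).symm.trans hP) ?_ ?_
  · intro hm
    have htf := isTorsionFree_of_mono (kernel.ι π) hJ₁.1.1.tf.2.1
    rw [support_eq hX (QCohMod.isCoh_kernel π hJ₁.1.1.tf.1) htf] at hm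
    obtain ⟨η, ⟨hη, hηs⟩, hη'⟩ := Set.mem_iUnion₂.1 hm
    obtain rfl : η₀ = ⟨η, hη⟩ := huniq _ _ hη₀ (specializes_iff_mem_closure.2 hη')
    exact hηs (subsingleton_stalk_kernel π η
      (bijective_of_isRkOne hX hJ₁.1.1.tf.2.2 π hη ((hY.supp ⟨η, hη⟩).2 hPη)).1)
  · intro hiso
    obtain ⟨η, hη⟩ := (Set.ne_univ_iff_exists_notMem _).1 hu
    refine hη ((hY.supp η).1 ?_)
    haveI := hiso
    rw [← QCohMod.support_eq_of_iso (asIso π)]
    exact mem_support_of_generic hJ₁.1.1.tf.2.2 η.2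

include hsq hgen hpure in
/-- A lattice without decomposition exists. -/
theorem exists_indecLat (Q : X.Modules → Prop) (hQ : ∀ J, Q J → Good f i j I J)
    (hnext : ∀ J P (G : Xs.Modules) (π : (Scheme.Modules.pullback i).obj J ⟶ G), Q J → IsQ _ P G π →
      Dec ((Scheme.Modules.pullback i).obj J) P → Q (nxt i J π))
    (hg : TFOne.FibSimple (Xg ↘ Spec (CommRingCat.of (FractionRing R))) ((Scheme.Modules.pullback j).obj I))
    (hI : ∃ J, Q J) :
    ∃ J, Q J ∧ ∀ P : Set (Gen Xs), P.Nonempty → P ≠ Set.univ →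
      ¬ Dec ((Scheme.Modules.pullback i).obj J) P := by
  classical
  haveI := isProper_fibre hsq
  have hX := isCurve_special hsq hpure
  haveI := hX.noeth
  haveI : Finite (Gen Xs) := finite_gen
  let D : X.Modules → Set (Set (Gen Xs)) := fun J => {P | Dec ((Scheme.Modules.pullback i).obj J) P}
  have hA : ∃ n : ℕ, ∃ J, Q J ∧ (D J).ncard = n := hI.elim fun J hJ => ⟨_, J, hJ, rfl⟩
  obtain ⟨J₁, hJ₁, hn⟩ := Nat.find_spec hA
  have hmin : ∀ J, Q J → (D J₁).ncard ≤ (D J).ncard := fun J hJ => hn ▸ Nat.find_le ⟨J, hJ, rfl⟩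
  refine ⟨J₁, hJ₁, fun P hPn hPu hP => ?_⟩
  have hM := (hQ _ hJ₁).tf
  obtain ⟨G, π, s, hY, hs⟩ := hP
  haveI := hY.epi
  haveI := hY.coh.1
  let p : (Scheme.Modules.pullback i).obj J₁ ⟶ kernel π := kernel.lift π (𝟙 _ - π ≫ s) (by
    rw [Preadditive.sub_comp, Category.id_comp, Category.assoc, hs, Category.comp_id, sub_self])
  obtain ⟨hιp, hYc⟩ := isQ_retract hX hM hY s hs p (kernel.lift_ι _ _ _)
  have chain : ∀ (P' : Set (Gen Xs)) (G' : Xs.Modules) (π' : (Scheme.Modules.pullback i).obj J₁ ⟶ G')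
      (s' : G' ⟶ (Scheme.Modules.pullback i).obj J₁), IsQ _ P' G' π' → s' ≫ π' = 𝟙 G' → HasChain f π' := by
    intro P' G' π' s' hY' hs'
    let T : ∀ J : X.Modules, ((Scheme.Modules.pullback i).obj J ⟶ G') → Prop := fun J π =>
      Q J ∧ D J = D J₁ ∧ IsQ _ P' G' π ∧ ∃ s, s ≫ π = 𝟙 G'
    refine hasChain_of_step hsq hY'.coh T (fun J π h => ⟨(hQ _ h.1).coh, (hQ _ h.1).flat, h.2.2.1.epi⟩)
      ?_ π' ⟨hJ₁, rfl, hY', s', hs'⟩
    rintro J π ⟨hJ, hD, hY, s, hs⟩ S
    have hdec : Dec ((Scheme.Modules.pullback i).obj J) P' := ⟨G', π, s, hY, hs⟩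
    have hJ' := hnext J P' G' π hJ hY hdec
    have heq : D (nxt i J π) = D J₁ :=
      Set.eq_of_subset_of_ncard_le
        (fun T hT => hD.subset (S.dec_of_dec hX (hQ _ hJ).tf hY s hs hT)) (hmin _ hJ') (Set.toFinite _)
    obtain ⟨σ, hσ, hσQ, t, ht⟩ := S.section_of_dec hX (hQ _ hJ).tf hY (heq.ge (hD.le hdec))
    exact ⟨σ, hσ, hJ', heq, hσQ, t, ht⟩
  rcases isZero_or_isZero_of_chains hsq hgen (hQ _ hJ₁) π hg p (chain P G π s hY hs)
      (chain Pᶜ (kernel π) p (kernel.ι π) hYc hιp)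
      (isIso_lift_of_retract π s hs p (kernel.ι π) hιp (kernel.condition π) (kernel.lift_ι _ _ _))
    with h | h
  · obtain ⟨η, hη⟩ := hPn
    exact not_isZero_of_mem_support ((hY.supp η).2 hη) h
  · obtain ⟨η, hη⟩ := (Set.ne_univ_iff_exists_notMem _).1 hPu
    exact not_isZero_of_mem_support ((hYc.supp η).2 hη) h

end Groth.TFOneAux
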