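import Mathlib.RingTheory.Flat.Localization
import Mathlib.RingTheory.Flat.TorsionFree
import Mathlib.RingTheory.Flat.FaithfullyFlat.Basic
import Mathlib.RingTheory.Noetherian.Nilpotent
import Mathlib.RingTheory.Ideal.MinimalPrime.Noetherian
import Mathlib.Algebra.Module.Torsion.Free
import Mathlib.RingTheory.Flat.FaithfullyFlat.Algebra
import Mathlib.RingTheory.LocalProperties.Reduced

/-!
# Torsion-free modules under flat extensions of reduced Noetherian rings
-/

set_option autoImplicit false

universe u

open TensorProduct

namespace Groth.TFOneAux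

variable {R S : Type u} [CommRing R] [IsNoetherianRing R] [IsReduced R] [CommRing S] [Algebra R S]
  {M : Type u} [AddCommGroup M] [Module R M]

/-- Base change of a torsion-free module along a flat extension is torsion-free. -/
theorem isTorsionFree_tensor [Module.Flat R S] [Module.IsTorsionFree R M] :
    Module.IsTorsionFree S (S ⊗[R] M) := by
  classical
  let P := minimalPrimes R
  haveI : Finite P := (minimalPrimes.finite_of_isNoetherianRing R).to_subtype
  haveI : Fintype P := Fintype.ofFinite P
  haveI : ∀ p : P, p.1.IsPrime := fun p => Ideal.minimalPrimes_isPrime p.2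
  let N := fun p : P => LocalizedModule p.1.primeCompl M
  let ι : M →ₗ[R] (∀ p : P, N p) := LinearMap.pi fun p => LocalizedModule.mkLinearMap p.1.primeCompl M
  haveI : ∀ p : P, Module.Flat R (N p) := fun p => by
    haveI : Ring.KrullDimLE 0 (Localization.AtPrime p.1) := .of_isLocalization _ p.2 _
    haveI : IsReduced (Localization.AtPrime p.1) :=
      isReduced_localizationPreserves p.1.primeCompl _ inferInstance
    letI := (Ring.KrullDimLE.isField_of_isReduced (R := Localization.AtPrime p.1)).toField
    haveI : Module.Flat R (Localization.AtPrime p.1) := IsLocalization.flat _ p.1.primeCompl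
    exact Module.Flat.trans R (Localization.AtPrime p.1) (N p)
  haveI : Module.Flat R (∀ p : P, N p) :=
    Module.Flat.of_linearEquiv (DFinsupp.linearEquivFunOnFintype (R := R) (M := N)).symm
  have hι : Function.Injective ι := by
    rw [injective_iff_map_eq_zero]
    intro m hm
    let A : Ideal R := Submodule.colon (⊥ : Submodule R M) {m}
    have hA : ∀ p : P, ¬ A ≤ p.1 := fun p h => by
      obtain ⟨⟨s, hs⟩, hsm⟩ := (IsLocalizedModule.eq_zero_iff p.1.primeCompl
        (LocalizedModule.mkLinearMap p.1.primeCompl M)).1 (congrFun hm p)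
      exact hs (h (Submodule.mem_colon_singleton.2 (by simpa [Submonoid.smul_def] using hsm)))
    have hsub : ¬ (A : Set R) ⊆ ⋃ q ∈ minimalPrimes R, (q : Set R) := fun h => by
      obtain ⟨q, hq, hle⟩ := (Ideal.subset_union_prime_finite (minimalPrimes.finite_of_isNoetherianRing R)
        ⊥ ⊥ fun q hq _ _ => Ideal.minimalPrimes_isPrime hq).1 h
      exact hA ⟨q, hq⟩ hle
    obtain ⟨a, ha, hna⟩ := Set.not_subset.1 hsub
    have hreg : IsRegular a := isRegular_iff_mem_nonZeroDivisors.2 (mem_nonZeroDivisors_iff_right.2 fun b hb => by
      have : b ∈ sInf (minimalPrimes R) := Submodule.mem_sInf.2 fun q hq =>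
        ((Ideal.minimalPrimes_isPrime hq).mem_or_mem (show b * a ∈ q by rw [hb]; exact q.zero_mem)).resolve_right
          fun haq => hna (Set.mem_biUnion hq haq)
      rwa [show sInf (minimalPrimes R) = nilradical R from Ideal.sInf_minimalPrimes, nilradical_eq_zero] at this)
    exact Module.IsTorsionFree.isSMulRegular hreg
      (show a • m = a • 0 by rw [smul_zero]; simpa using Submodule.mem_colon_singleton.1 ha)
  refine ⟨fun r hr => ?_⟩
  have hinj : Function.Injective (ι.baseChange S) := Module.Flat.lTensor_preserves_injective_linearMap _ hι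
  haveI : Module.Flat S (S ⊗[R] (∀ p : P, N p)) := Module.Flat.baseChange R S (∀ p : P, N p)
  have hflat : IsSMulRegular (S ⊗[R] (∀ p : P, N p)) r :=
    Module.Flat.isSMulRegular_of_nonZeroDivisors (R := S) (M := S ⊗[R] (∀ p : P, N p))
      (isRegular_iff_mem_nonZeroDivisors.1 hr)
  intro a b hab
  apply hinj
  apply hflat
  simp only [← map_smul]
  exact congrArg _ hab

omit [IsNoetherianRing R] [IsReduced R] in
/-- Torsion-freeness descends along faithfully flat extensions. -/
theorem isTorsionFree_of_tensor [Module.FaithfullyFlat R S] [Module.IsTorsionFree S (S ⊗[R] M)] :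
    Module.IsTorsionFree R M := by
  refine ⟨fun r hr => ?_⟩
  intro a b hab
  have hr' : IsRegular (algebraMap R S r) := by
    refine isRegular_iff_mem_nonZeroDivisors.2 (mem_nonZeroDivisors_iff_right.2 fun c hc => ?_)
    have : IsSMulRegular S r := Module.Flat.isSMulRegular_of_nonZeroDivisors (isRegular_iff_mem_nonZeroDivisors.1 hr)
    exact this (show r • c = r • 0 by rw [smul_zero, Algebra.smul_def, mul_comm]; exact hc)
  apply Module.FaithfullyFlat.tensorProduct_mk_injective (A := R) (B := S) M
  refine Module.IsTorsionFree.isSMulRegular hr' ?_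
  show algebraMap R S r • ((1 : S) ⊗ₜ[R] a) = algebraMap R S r • ((1 : S) ⊗ₜ[R] b)
  rw [algebraMap_smul, algebraMap_smul, ← TensorProduct.tmul_smul, ← TensorProduct.tmul_smul]
  exact congrArg _ hab

end Groth.TFOneAux
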