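import Groth.Agent.TFOne.Stable
import Groth.Agent.TFOne.TensorTF
import Groth.Agent.Flatmor4.FpqcSubterminal
import Groth.Agent.SchemeMorphisms.PrinParts.FlatExact
import Groth.Agent.Curves1.RR.BaseChange
import Groth.Agent.PicAux.PullTensor
import Groth.Agent.CohTwo.HomTensorCorep
import Groth.Agent.CycInter.ExtPoint

/-!
# Rank-one sheaves under extension of the base field
-/

set_option autoImplicit false
set_option linter.style.haveILetI false
set_option backward.isDefEq.respectTransparency.types false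

universe u

open CategoryTheory CategoryTheory.Limits AlgebraicGeometry TopologicalSpace
open scoped TensorProduct

noncomputable section

namespace Groth.TFOneAux

open Groth.QCohMod (stalkAlg pullStalkEquiv)

section Flat

variable {X Y : Scheme.{u}} (p : Y ⟶ X) [Flat p]

theorem isTorsionFree_pullback [IsLocallyNoetherian X] [IsReduced X] {M : X.Modules}
    (hM : _root_.TorSh.IsTorsionFree M) :
    _root_.TorSh.IsTorsionFree ((Scheme.Modules.pullback p).obj M) := fun y => by
  letI := stalkAlg p y
  haveI : Module.Flat (X.presheaf.stalk (p y)) (Y.presheaf.stalk y) := Flat.stalkMap p y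
  haveI := hM (p y)
  haveI := isTorsionFree_tensor (R := X.presheaf.stalk (p y)) (S := Y.presheaf.stalk y)
    (M := M.presheaf.stalk (p y))
  exact Function.Injective.moduleIsTorsionFree (pullStalkEquiv p M y).symm
    (pullStalkEquiv p M y).symm.injective fun r v => (pullStalkEquiv p M y).symm.map_smul r v

theorem isTorsionFree_of_pullback [Surjective p] {M : X.Modules}
    (hM : _root_.TorSh.IsTorsionFree ((Scheme.Modules.pullback p).obj M)) :
    _root_.TorSh.IsTorsionFree M := fun x => by
  obtain ⟨y, rfl⟩ := p.surjective x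
  letI := stalkAlg p y
  haveI := Groth.Flatmor4.faithfullyFlat_stalk p y
  haveI := hM y
  haveI : Module.IsTorsionFree (Y.presheaf.stalk y)
      (Y.presheaf.stalk y ⊗[X.presheaf.stalk (p y)] M.presheaf.stalk (p y)) :=
    Function.Injective.moduleIsTorsionFree (pullStalkEquiv p M y) (pullStalkEquiv p M y).injective
      fun r v => (pullStalkEquiv p M y).map_smul r v
  exact isTorsionFree_of_tensor (S := Y.presheaf.stalk y)

theorem gen_map {η' : Y} (hη' : η' ∈ genericPoints (Y : Type u)) : p η' ∈ genericPoints (X : Type u) := by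
  obtain ⟨g, hg⟩ := exists_gen_specializes (p η')
  obtain ⟨w, hw, hwe⟩ := Flat.generalizingMap p hg
  obtain ⟨g', hg'⟩ := exists_gen_specializes w
  have h1 : g'.1 = η' := eq_of_specializes_genericPoints hη' g'.2 (hg'.trans hw)
  have h2 : w = η' := (hw.antisymm (h1 ▸ hg')).eq
  rw [← h2, hwe]
  exact g.2

/-- The component below a component. -/
def gmap (η : Gen Y) : Gen X := ⟨p η.1, gen_map p η.2⟩

theorem gmap_surjective [Surjective p] : Function.Surjective (gmap p) := fun η => by
  obtain ⟨y, hy⟩ := p.surjective η.1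
  obtain ⟨g, hg⟩ := exists_gen_specializes y
  exact ⟨g, Subtype.ext (eq_of_specializes_genericPoints η.2 (gen_map p g.2) (hy ▸ hg.map p.continuous))⟩

theorem isRkOne_pullback {M : X.Modules} (hM : TFOne.IsRkOne X M) :
    TFOne.IsRkOne Y ((Scheme.Modules.pullback p).obj M) := fun y hy => by
  letI := stalkAlg p y
  obtain ⟨e⟩ := hM (p y) (gen_map p hy)
  exact ⟨(pullStalkEquiv p M y).symm.trans ((TensorProduct.AlgebraTensorModule.congr
    (LinearEquiv.refl (Y.presheaf.stalk y) (Y.presheaf.stalk y)) e).trans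
      (TensorProduct.AlgebraTensorModule.rid _ _ _))⟩

theorem isRkOne_of_pullback [Surjective p] [IsReduced X] {M : X.Modules}
    (hM : TFOne.IsRkOne Y ((Scheme.Modules.pullback p).obj M)) : TFOne.IsRkOne X M := fun x hx => by
  obtain ⟨g, hg⟩ := gmap_surjective p ⟨x, hx⟩
  have hgx : p g.1 = x := congrArg Subtype.val hg
  subst hgx
  letI := stalkAlg p g.1
  obtain ⟨e⟩ := hM g.1 g.2
  let A := X.presheaf.stalk (p g.1)
  let B := Y.presheaf.stalk g.1
  letI : Field A := (Duality.TorsionFree.isField_stalk_generic hx).toField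
  have h1 : Module.finrank B (B ⊗[A] M.presheaf.stalk (p g.1)) = 1 := by
    rw [((pullStalkEquiv p M g.1).trans e).finrank_eq, Module.finrank_self]
  rw [Module.finrank_baseChange] at h1
  haveI : Module.Finite A (M.presheaf.stalk (p g.1)) := Module.finite_of_finrank_pos (h1 ▸ Nat.one_pos)
  exact ⟨LinearEquiv.ofFinrankEq _ _ (h1.trans (Module.finrank_self A).symm)⟩

theorem isCoh_pullback {M : X.Modules} (hM : Coh.IsCoh M) :
    Coh.IsCoh ((Scheme.Modules.pullback p).obj M) :=
  haveI := hM.1
  ⟨QCohMod.isQCoh_pullback_obj p M, QCohMod.isFT_pullback p M hM.2⟩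

theorem isTF1_pullback [IsLocallyNoetherian X] [IsReduced X] {M : X.Modules} (hM : TFOne.IsTF1 X M) :
    TFOne.IsTF1 Y ((Scheme.Modules.pullback p).obj M) :=
  ⟨isCoh_pullback p hM.1, isTorsionFree_pullback p hM.2.1, isRkOne_pullback p hM.2.2⟩

theorem isTF1_of_pullback [Surjective p] [IsReduced X] {M : X.Modules} (hM : Coh.IsCoh M)
    (h : TFOne.IsTF1 Y ((Scheme.Modules.pullback p).obj M)) : TFOne.IsTF1 X M :=
  ⟨hM, isTorsionFree_of_pullback p h.2.1, isRkOne_of_pullback p h.2.2⟩

theorem IsQ.pullback [IsLocallyNoetherian X] [IsReduced X] {M G : X.Modules} {P : Set (Gen X)}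
    {π : M ⟶ G} (h : IsQ M P G π) :
    IsQ ((Scheme.Modules.pullback p).obj M) (gmap p ⁻¹' P) ((Scheme.Modules.pullback p).obj G)
      ((Scheme.Modules.pullback p).map π) := by
  haveI := h.epi
  haveI := (Scheme.Modules.pullbackPushforwardAdjunction p).isLeftAdjoint
  haveI := h.coh.1
  refine ⟨inferInstance, isCoh_pullback p h.coh, isTorsionFree_pullback p h.tf, fun η => ?_⟩
  rw [QCohMod.support_pullback p G h.coh.2]
  exact h.supp (gmap p η)

end Flat

section Field

variable {k K : Type u} [Field k] [Field K] [Algebra k K] {X Y : Scheme.{u}}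
  [X.Over (Spec (CommRingCat.of k))] [Y.Over (Spec (CommRingCat.of K))] {p : Y ⟶ X}

theorem flat_of_field
    (h : IsPullback p (Y ↘ Spec (CommRingCat.of K)) (X ↘ Spec (CommRingCat.of k))
      (Spec.map (CommRingCat.ofHom (algebraMap k K)))) : Flat p :=
  haveI : Flat (Spec.map (CommRingCat.ofHom (algebraMap k K))) :=
    Flat.SpecMap_iff.2 (RingHom.flat_algebraMap_iff.2 Module.Flat.of_free)
  MorphismProperty.of_isPullback h.flip inferInstance

theorem surjective_of_field
    (h : IsPullback p (Y ↘ Spec (CommRingCat.of K)) (X ↘ Spec (CommRingCat.of k))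
      (Spec.map (CommRingCat.ofHom (algebraMap k K)))) : Surjective p :=
  haveI : Surjective (Spec.map (CommRingCat.ofHom (algebraMap k K))) :=
    ⟨fun _ => ⟨⟨⊥, Ideal.isPrime_bot⟩, Subsingleton.elim _ _⟩⟩
  MorphismProperty.of_isPullback h.flip inferInstance

variable [IsProper (X ↘ Spec (CommRingCat.of k))]
  (h : IsPullback p (Y ↘ Spec (CommRingCat.of K)) (X ↘ Spec (CommRingCat.of k))
      (Spec.map (CommRingCat.ofHom (algebraMap k K))))

include h in
omit [IsProper (X ↘ Spec (CommRingCat.of k))] in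
theorem gmap_injective [Flat p]
    (hgi : ∀ (C : Set X) (hC : C ∈ irreducibleComponents (X : Type u)),
      GeometricallyIntegral (VecSt.subschι X C (isClosed_of_mem_irreducibleComponents C hC) ≫
        (X ↘ Spec (CommRingCat.of k)))) :
    Function.Injective (gmap p) := by
  intro a b hab
  have hC : closure ({p a.1} : Set X) ∈ irreducibleComponents (X : Type u) := gen_map p a.2
  let ι := VecSt.subschι X _ (isClosed_of_mem_irreducibleComponents _ hC)
  haveI := hgi _ hC
  have sq := (IsPullback.of_hasPullback ι p).paste_vert h.flip.flip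
  have hsq : IsPullback (pullback.fst ι p) (pullback.snd ι p ≫ (Y ↘ Spec (CommRingCat.of K)))
      (ι ≫ (X ↘ Spec (CommRingCat.of k))) (Spec.map (CommRingCat.ofHom (algebraMap k K))) := sq
  haveI : IsIntegral (Limits.pullback ι p) :=
    (inferInstance : GeometricallyIntegral (ι ≫ (X ↘ Spec (CommRingCat.of k)))).geometrically_isIntegral
      _ _ _ hsq
  have hr : Set.range (pullback.snd ι p) = p ⁻¹' closure ({p a.1} : Set X) := by
    rw [Scheme.Pullback.range_snd]
    congr 1
    rw [Scheme.IdealSheafData.range_subschemeι, Scheme.IdealSheafData.coe_support_vanishingIdeal]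
    rfl
  have hirr : IsIrreducible (p ⁻¹' closure ({p a.1} : Set X)) := by
    rw [← hr, ← Set.image_univ]
    exact (IrreducibleSpace.isIrreducible_univ _).image _ (pullback.snd ι p).continuous.continuousOn
  obtain ⟨g, hg⟩ := QuasiSober.sober hirr (isClosed_closure.preimage p.continuous)
  have key : ∀ c : Gen Y, p c.1 = p a.1 → g = c.1 := fun c hc => by
    have h1 : g ⤳ c.1 := hg.specializes (show p c.1 ∈ closure _ from hc ▸ subset_closure rfl)
    obtain ⟨g', hg'⟩ := exists_gen_specializes g
    have h2 : g'.1 = c.1 := eq_of_specializes_genericPoints c.2 g'.2 (hg'.trans h1)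
    exact (h1.antisymm (h2 ▸ hg')).eq
  exact Subtype.ext ((key a rfl).symm.trans (key b (congrArg Subtype.val hab).symm))

variable {E : X.Modules} {r : ℕ}

include h in
theorem phi_pullback (hE : FlatMod.IsFinLocFreeOfRank r E) {G : X.Modules} (hG : Coh.IsCoh G) :
    phi K ((Scheme.Modules.pullback p).obj E) r ((Scheme.Modules.pullback p).obj G) = phi k E r G := by
  obtain ⟨e, -⟩ := PicAux.exists_pullback_tensorMod p E G
  have hEG := CohTwo.HomTensor.isCoh_tensorMod (LocFree.isFinLocFree_of_rank hE) hG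
  simp only [phi, EulerDeg.tensorDefect]
  rw [← EulerDeg.euler_congr K e, Curves1.RR.euler_pullback h _ hG.1, Curves1.RR.euler_pullback h _ hEG.1]

variable [IsReduced X] [IsReduced Y]

include h in
theorem bPat_pullback (hX : IsCurve X) (hY : IsCurve Y) [Flat p] (hE : FlatMod.IsFinLocFreeOfRank r E)
    {M : X.Modules} (hM : TFOne.IsTF1 X M) (P : Set (Gen X)) :
    bPat K ((Scheme.Modules.pullback p).obj E) r ((Scheme.Modules.pullback p).obj M) (gmap p ⁻¹' P) =
      bPat k E r M P := by
  haveI := hX.noeth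
  obtain ⟨G, π, hG⟩ := exists_isQ hX hM P
  rw [bPat_eq hY (isTF1_pullback p hM) (hG.pullback p), phi_pullback h hE hG.coh, bPat_eq hX hM hG]

variable [IsProper (Y ↘ Spec (CommRingCat.of K))]
  (hgi : ∀ (C : Set X) (hC : C ∈ irreducibleComponents (X : Type u)),
    GeometricallyIntegral (VecSt.subschι X C (isClosed_of_mem_irreducibleComponents C hC) ≫
      (X ↘ Spec (CommRingCat.of k))))
  (hYpure : ∀ C ∈ irreducibleComponents (Y : Type u), topologicalKrullDim C = 1)

include h hgi hYpure in
theorem bPat_pullback_image (hX : IsCurve X) [Flat p] (hE : FlatMod.IsFinLocFreeOfRank r E)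
    {M : X.Modules} (hM : TFOne.IsTF1 X M) (P : Set (Gen Y)) :
    bPat K ((Scheme.Modules.pullback p).obj E) r ((Scheme.Modules.pullback p).obj M) P =
      bPat k E r M (gmap p '' P) := by
  rw [← bPat_pullback h hX (isCurve K hYpure) hE hM, Set.preimage_image_eq P (gmap_injective h hgi)]

include h hgi hYpure in
theorem isSemistable_pullback (hX : IsCurve X) [Flat p] (hE : FlatMod.IsFinLocFreeOfRank r E)
    {M : X.Modules} (hM : TFOne.IsTF1 X M) (hb : ∀ P : Set (Gen X), 0 ≤ bPat k E r M P) :
    TFOne.IsSemistable Y K (Y ↘ Spec (CommRingCat.of K)) ((Scheme.Modules.pullback p).obj M)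
      ((Scheme.Modules.pullback p).obj E) r := by
  haveI := hX.noeth
  refine (isSemistable_iff hYpure (LocFree.isFinLocFreeOfRank_pullback p hE)).2
    ⟨isTF1_pullback p hM, fun P _ _ => ?_⟩
  rw [bPat_pullback_image h hgi hYpure hX hE hM]
  exact hb _

include h hgi hYpure in
theorem isQuasistableAtPt_pullback (hX : IsCurve X) [Flat p] (hE : FlatMod.IsFinLocFreeOfRank r E)
    {M : X.Modules} (hM : TFOne.IsTF1 X M) (hb : ∀ P : Set (Gen X), 0 ≤ bPat k E r M P) (y : Y)
    (hpos : ∀ P : Set (Gen X), Through P (p y) → P ≠ Set.univ → 0 < bPat k E r M P) :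
    TFOne.IsQuasistableAtPt Y K (Y ↘ Spec (CommRingCat.of K)) ((Scheme.Modules.pullback p).obj M)
      ((Scheme.Modules.pullback p).obj E) r y := by
  haveI := hX.noeth
  haveI := surjective_of_field h
  refine (isQuasistableAtPt_iff hYpure (LocFree.isFinLocFreeOfRank_pullback p hE) y).2
    ⟨isSemistable_pullback h hgi hYpure hX hE hM hb, ?_⟩
  rintro P ⟨η, hη, hy⟩ hPu
  rw [bPat_pullback_image h hgi hYpure hX hE hM]
  refine hpos _ ⟨gmap p η, Set.mem_image_of_mem _ hη, hy.map p.continuous⟩ fun hu => hPu ?_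
  rw [← Set.preimage_image_eq P (gmap_injective h hgi), hu, Set.preimage_univ]

include h hgi hYpure in
theorem isSimple_pullback [IsAlgClosed K] (hX : IsCurve X) [Flat p] [Nonempty Y]
    {M : X.Modules} (hM : TFOne.IsTF1 X M)
    (hdec : ∀ P : Set (Gen X), P.Nonempty → P ≠ Set.univ → ¬ Dec M P) :
    TFOne.IsSimple Y K (Y ↘ Spec (CommRingCat.of K)) ((Scheme.Modules.pullback p).obj M) := by
  haveI := hX.noeth
  haveI := surjective_of_field h
  have hY := isCurve K hYpure
  haveI := hY.noeth
  refine isSimple_of_no_dec hYpure (fun C hC => ?_) (isTF1_pullback p hM) fun P hne hPu G G' π π' hG hG' hiso => ?_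
  · haveI : IrreducibleSpace (VecSt.subsch Y C (isClosed_of_mem_irreducibleComponents C hC)) := by
      have hr : Set.range (VecSt.subschι Y C (isClosed_of_mem_irreducibleComponents C hC)) = C := by
        rw [Scheme.IdealSheafData.range_subschemeι, Scheme.IdealSheafData.coe_support_vanishingIdeal]
        rfl
      haveI := Subtype.irreducibleSpace hC.1
      exact ((((VecSt.subschι Y C _).isEmbedding.toHomeomorph).trans (Homeomorph.setCongr hr)).irreducibleSpace_iff).2 inferInstance
    haveI : IsReduced (VecSt.subsch Y C (isClosed_of_mem_irreducibleComponents C hC)) :=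
      Groth.PropsBasic2.isReduced_vanishingIdeal_subscheme ⟨C, isClosed_of_mem_irreducibleComponents C hC⟩
    haveI : IsIntegral (VecSt.subsch Y C (isClosed_of_mem_irreducibleComponents C hC)) :=
      isIntegral_of_irreducibleSpace_of_isReduced _
    exact Groth.CycInter.Ext.geometricallyIntegral_of_isAlgClosed _
  · have hPQ : P = gmap p ⁻¹' (gmap p '' P) := (Set.preimage_image_eq P (gmap_injective h hgi)).symm
    let Q := gmap p '' P
    obtain ⟨G₀, π₀, h₀⟩ := exists_isQ hX hM Q
    obtain ⟨G₁, π₁, h₁⟩ := exists_isQ hX hM Qᶜ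
    haveI := h₀.epi
    have hQu : Q ≠ Set.univ := fun hu => hPu (by rw [hPQ]; show gmap p ⁻¹' Q = _; rw [hu, Set.preimage_univ])
    refine hdec Q (hne.image _) hQu ?_
    have hMY := isTF1_pullback p hM
    obtain ⟨e₀, -⟩ := (h₀.pullback p).iso hY hMY (hPQ ▸ hG)
    obtain ⟨e₁, -⟩ := (h₁.pullback p).iso hY hMY (show IsQ _ (gmap p ⁻¹' Qᶜ) G' π' by
      rw [Set.preimage_compl]; exact hPQ ▸ hG')
    have hYeq := (isIso_lift_iff_euler (k := K) hY hMY hG.quotOn hG'.quotOn fun η hη =>
      (hG.supp ⟨η, hη⟩).trans (not_not.symm.trans (not_congr (hG'.supp ⟨η, hη⟩).symm))).1 hiso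
    rw [← EulerDeg.euler_congr K e₀, ← EulerDeg.euler_congr K e₁, Curves1.RR.euler_pullback h _ hM.1.1,
      Curves1.RR.euler_pullback h _ h₀.coh.1, Curves1.RR.euler_pullback h _ h₁.coh.1] at hYeq
    haveI := (isIso_lift_iff_euler (k := k) hX hM h₀.quotOn h₁.quotOn fun η hη =>
      (h₀.supp ⟨η, hη⟩).trans (not_not.symm.trans (not_congr (h₁.supp ⟨η, hη⟩).symm))).2 hYeq
    exact ⟨G₀, π₀, biprod.inl ≫ inv (biprod.lift π₀ π₁), h₀, by
      rw [Category.assoc, show inv (biprod.lift π₀ π₁) ≫ π₀ = biprod.fst from by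
        rw [IsIso.inv_comp_eq, biprod.lift_fst], biprod.inl_fst]⟩

end Field

end Groth.TFOneAux
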