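import Groth.Agent.TFOne.Quot
import Groth.Agent.VarietyBC.CurveComponents
import Groth.Agent.CohTwo.PushClosed
import Groth.Agent.CohBase.IdealOfClosed

/-!
# `β` as the Euler characteristic of a twist
-/

set_option autoImplicit false
set_option linter.style.haveILetI false
set_option backward.isDefEq.respectTransparency.types false

universe u

open CategoryTheory CategoryTheory.Limits AlgebraicGeometry TopologicalSpace

noncomputable section

namespace Groth.TFOneAux

variable (k : Type u) [Field k] {X : Scheme.{u}} [X.Over (Spec (CommRingCat.of k))]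

/-- `r χ(G) + (χ(E ⊗ G) - r χ(G))`. -/
def phi (E : X.Modules) (r : ℕ) (G : X.Modules) : ℤ :=
  (r : ℤ) * Curv2.euler k X G + EulerDeg.tensorDefect k E r G

variable [IsProper (X ↘ Spec (CommRingCat.of k))] {E : X.Modules} {r : ℕ}

theorem phi_add (hE : FlatMod.IsFinLocFreeOfRank r E) {S : ShortComplex X.Modules}
    (hS : S.ShortExact) (h₁ : Coh.IsCoh S.X₁) (h₂ : Coh.IsCoh S.X₂) (h₃ : Coh.IsCoh S.X₃) :
    phi k E r S.X₂ = phi k E r S.X₁ + phi k E r S.X₃ := by
  simp only [phi, EulerDeg.tensorDefect_add k hE hS h₁ h₂ h₃, DecShCurve.euler_ses k hS h₁ h₃]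
  ring

omit [IsProper (X ↘ Spec (CommRingCat.of k))] in
theorem phi_congr {A B : X.Modules} (e : A ≅ B) : phi k E r A = phi k E r B := by
  simp only [phi, EulerDeg.tensorDefect, EulerDeg.euler_congr k e,
    EulerDeg.euler_congr k (((DCoh.tensorBi (X := X)).obj E).mapIso e)]
  rw [show Curv2.euler k X (CohB1.tensorMod E A) = Curv2.euler k X (CohB1.tensorMod E B) from
    EulerDeg.euler_congr k (((DCoh.tensorBi (X := X)).obj E).mapIso e)]

theorem phi_of_supportedAtClosed (hE : FlatMod.IsFinLocFreeOfRank r E) {D : X.Modules}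
    (hD : Coh.IsCoh D) (h : EulerDeg.SupportedAtClosed D) :
    phi k E r D = r * Curv2.euler k X D := by
  rw [phi, EulerDeg.tensorDefect_of_supportedAtClosed k hE hD h, add_zero]

/-- The defect only depends on the lengths at the generic points. -/
theorem defect_congr (hE : FlatMod.IsFinLocFreeOfRank r E)
    (hpure : ∀ C ∈ irreducibleComponents (X : Type u), topologicalKrullDim C = 1)
    {F G : X.Modules} (hF : Coh.IsCoh F) (hG : Coh.IsCoh G)
    (h : ∀ η ∈ genericPoints (X : Type u), Module.length (X.presheaf.stalk η) (F.presheaf.stalk η) =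
      Module.length (X.presheaf.stalk η) (G.presheaf.stalk η)) :
    EulerDeg.tensorDefect k E r F = EulerDeg.tensorDefect k E r G := by
  haveI := EulerDeg.isNoetherian_of_proper k X
  have hzero : ∀ y : X, IsClosed ({y} : Set X) →
      EulerDeg.tensorDefect k E r (Cyc.closureStructureSheaf y) = 0 := fun y hy =>
    EulerDeg.tensorDefect_of_supportedAtClosed k hE (KTheory.Devissage.isCoh_closureStructureSheaf y)
      fun x hx => by
        have h := KTheory.Devissage.support_closureStructureSheaf_subset y hx
        rw [hy.closure_eq, Set.mem_singleton_iff] at h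
        exact h ▸ hy
  rw [VarietyBC.CurveComp.additive_eq_sum_components (dim_le_one hpure) _
      (fun S hS c₁ c₂ c₃ => EulerDeg.tensorDefect_add k hE hS c₁ c₂ c₃) hzero hF,
    VarietyBC.CurveComp.additive_eq_sum_components (dim_le_one hpure) _
      (fun S hS c₁ c₂ c₃ => EulerDeg.tensorDefect_add k hE hS c₁ c₂ c₃) hzero hG]
  refine finsum_congr fun Z => ?_
  rw [h _ (show closure ({Z.2.1.genericPoint} : Set X) ∈ irreducibleComponents (X : Type u) from
    (VarietyBC.CurveComp.closure_genericPoint Z).symm ▸ Z.2)]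

omit [X.Over (Spec (CommRingCat.of k))] [IsProper (X ↘ Spec (CommRingCat.of k))] in
theorem isRkOne_structure : TFOne.IsRkOne X (Coh.structureModule X) := fun x _ =>
  ⟨(RefRank.oneEquiv x).symm⟩

omit [X.Over (Spec (CommRingCat.of k))] [IsProper (X ↘ Spec (CommRingCat.of k))] in
theorem length_of_quot (hX : IsCurve X) {M G : X.Modules} (hM : TFOne.IsRkOne X M) (π : M ⟶ G)
    [Epi π] {η : X} (hη : η ∈ genericPoints (X : Type u)) (h : η ∈ CohB1.support G) :
    Module.length (X.presheaf.stalk η) (G.presheaf.stalk η) =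
      Module.length (X.presheaf.stalk η) (X.presheaf.stalk η) := by
  obtain ⟨e⟩ := hM η hη
  exact ((LinearEquiv.ofBijective _ (bijective_of_isRkOne hX hM π hη h)).symm.trans e).length_eq

omit [X.Over (Spec (CommRingCat.of k))] [IsProper (X ↘ Spec (CommRingCat.of k))] in
theorem length_of_not_mem {G : X.Modules} {η : X} (h : η ∉ CohB1.support G) :
    Module.length (X.presheaf.stalk η) (G.presheaf.stalk η) = 0 := by
  have := subsingleton_stalk_of_not_mem h
  exact Module.length_eq_zero_iff.2 this

/-- `β(T)` computed on the quotient. -/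
theorem rBeta_eq_phi [IsReduced X]
    (hpure : ∀ C ∈ irreducibleComponents (X : Type u), topologicalKrullDim C = 1)
    (hE : FlatMod.IsFinLocFreeOfRank r E) {M G : X.Modules} (hM : TFOne.IsTF1 X M) {π : M ⟶ G}
    {T : Set X} (hT : IsClosed T) (hG : TFOne.IsQuotOn X M T G π) :
    TFOne.rBeta X k (X ↘ Spec (CommRingCat.of k)) T hT E r G = phi k E r G := by
  have hX := isCurve k hpure
  haveI := hX.noeth
  haveI := hG.1
  let I := Scheme.IdealSheafData.vanishingIdeal (⟨T, hT⟩ : Closeds X)
  let P := (Coh.push I.subschemeι).obj (Coh.structureModule I.subscheme)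
  have hrange : Set.range I.subschemeι = T := by
    rw [Scheme.IdealSheafData.range_subschemeι, Scheme.IdealSheafData.coe_support_vanishingIdeal]
    rfl
  haveI : IsLocallyNoetherian I.subscheme := LocallyOfFiniteType.isLocallyNoetherian I.subschemeι
  have hP : Coh.IsCoh P := CohTwo.isCoh_push _ QCohMod.isCoh_unit
  haveI := hP.1
  obtain ⟨π', hπ'⟩ : ∃ π' : Coh.structureModule X ⟶ P, Epi π' := by
    exact ⟨_, CohBase.epi_unitPush_subschemeι I⟩
  have key : EulerDeg.tensorDefect k E r P = EulerDeg.tensorDefect k E r G := by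
    refine defect_congr k hE hpure hP hG.2.1 fun η hη => ?_
    by_cases hηT : η ∈ T
    · have hsP : η ∈ CohB1.support P := by
        obtain ⟨z, rfl⟩ : η ∈ Set.range I.subschemeι := hrange ▸ hηT
        intro hs
        haveI : Subsingleton (P.presheaf.stalk (I.subschemeι z)) := hs
        have := (CohTwo.bijective_pushStalk I.subschemeι (Coh.structureModule I.subscheme) z).2.subsingleton
        haveI : Subsingleton (I.subscheme.presheaf.stalk z) := (RefRank.oneEquiv z).toEquiv.subsingleton
        exact false_of_nontrivial_of_subsingleton (I.subscheme.presheaf.stalk z)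
      rw [length_of_quot hX isRkOne_structure π' hη hsP,
        length_of_quot hX hM.2.2 π hη (hG.2.2.2.symm ▸ hηT)]
    · rw [length_of_not_mem fun h => hηT (hrange.le (CohTwo.support_push_subset _ _ h)),
        length_of_not_mem (G := G) (hG.2.2.2.symm ▸ hηT)]
  rw [phi, ← key]
  have h := VarietyBC.CurveComp.tensorDefect_push k (n := r) (LocFree.isFinLocFree_of_rank hE) I
  rw [show EulerDeg.tensorDefect k E r P = _ from h]
  rfl

/-- `β(X) = r χ(M) + deg E`. -/
theorem phi_self [IsReduced X]
    (hpure : ∀ C ∈ irreducibleComponents (X : Type u), topologicalKrullDim C = 1)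
    (hE : FlatMod.IsFinLocFreeOfRank r E) {M : X.Modules} (hM : TFOne.IsTF1 X M) :
    phi k E r M = r * Curv2.euler k X M + Curv2.deg k X E r := by
  haveI := EulerDeg.isNoetherian_of_proper k X
  rw [phi, ← VarietyBC.CurveComp.tensorDefect_structure k E r]
  congr 1
  refine defect_congr k hE hpure hM.1 QCohMod.isCoh_unit fun η hη => ?_
  obtain ⟨e⟩ := hM.2.2 η hη
  exact (e.trans (RefRank.oneEquiv η)).length_eq

end Groth.TFOneAux
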