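import Mathlib.CategoryTheory.Abelian.Basic
import Mathlib.CategoryTheory.Abelian.Exact
import Mathlib.CategoryTheory.Preadditive.Biproducts

/-!
# Chains of elementary modifications in an abelian category with a natural endomorphism
-/

set_option autoImplicit false

universe v u v' u'

open CategoryTheory CategoryTheory.Limits

noncomputable section

namespace Groth.TFOneAux

variable {C : Type u} [Category.{v} C] [Abelian C]

/-- A sequence of elementary modifications along `s` all of which split. -/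
structure Chain (s : ∀ A : C, A ⟶ A) where
  M : ℕ → C
  Q : ℕ → C
  j : ∀ n, M (n + 1) ⟶ M n
  g : ∀ n, M n ⟶ Q n
  u : ∀ n, M n ⟶ M (n + 1)
  t : ∀ n, Q n ⟶ Q (n + 1)
  mono_j : ∀ n, Mono (j n)
  epi_g : ∀ n, Epi (g n)
  mono_t : ∀ n, Mono (t n)
  epi_t : ∀ n, Epi (t n)
  w : ∀ n, j n ≫ g n = 0
  ex : ∀ n, (ShortComplex.mk (j n) (g n) (w n)).Exact
  u_j : ∀ n, u n ≫ j n = s (M n)
  g_t : ∀ n, g n ≫ t n = u n ≫ g (n + 1)

namespace Chain

variable {s : ∀ A : C, A ⟶ A} (K : Chain s)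

/-- The inclusion in the first term. -/
def ι : ∀ n, K.M n ⟶ K.M 0
  | 0 => 𝟙 _
  | n + 1 => K.j n ≫ ι n

/-- The powers of `s` as maps into the terms. -/
def v : ∀ n, K.M 0 ⟶ K.M n
  | 0 => 𝟙 _
  | n + 1 => v n ≫ K.u n

/-- The powers of `s`. -/
def pw : ℕ → (K.M 0 ⟶ K.M 0)
  | 0 => 𝟙 _
  | n + 1 => pw n ≫ s (K.M 0)

theorem ι_succ (n : ℕ) : K.ι (n + 1) = K.j n ≫ K.ι n := rfl

theorem v_succ (n : ℕ) : K.v (n + 1) = K.v n ≫ K.u n := rfl

instance mono_ι : ∀ n, Mono (K.ι n)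
  | 0 => inferInstanceAs (Mono (𝟙 (K.M 0)))
  | n + 1 => by
    haveI := K.mono_j n
    haveI := mono_ι n
    exact mono_comp (K.j n) (K.ι n)

variable (hs : ∀ {A B : C} (φ : A ⟶ B), φ ≫ s B = s A ≫ φ)

include hs

theorem v_ι : ∀ n, K.v n ≫ K.ι n = K.pw n
  | 0 => Category.id_comp _
  | n + 1 => by
    show (K.v n ≫ K.u n) ≫ K.j n ≫ K.ι n = K.pw n ≫ s (K.M 0)
    rw [Category.assoc, ← Category.assoc (K.u n), K.u_j, ← hs, ← Category.assoc, v_ι n]

theorem j_u (n : ℕ) : K.j n ≫ K.u n = s (K.M (n + 1)) := by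
  haveI := K.mono_j n
  rw [← cancel_mono (K.j n), Category.assoc, K.u_j, hs]

/-- `M n = M (n + 1) + s ^ n M 0`. -/
theorem cover : ∀ (n : ℕ) {W : C} (ψ : K.M n ⟶ W), K.j n ≫ ψ = 0 → K.v n ≫ ψ = 0 → ψ = 0
  | 0, _, ψ, _, h => by
    have : 𝟙 (K.M 0) ≫ ψ = 0 := h
    rwa [Category.id_comp] at this
  | n + 1, W, ψ, hj, hv => by
    have hψ' : K.u n ≫ ψ = 0 := by
      refine cover n _ ?_ ?_
      · rw [← Category.assoc, K.j_u hs, ← K.u_j (n + 1), Category.assoc, hj, comp_zero]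
      · rw [← Category.assoc, ← K.v_succ, hv]
    haveI := K.epi_g (n + 1)
    haveI := K.epi_g n
    haveI := K.epi_t n
    obtain ⟨χ, rfl⟩ : ∃ χ, K.g (n + 1) ≫ χ = ψ := ⟨_, (K.ex (n + 1)).g_desc ψ hj⟩
    have h : χ = 0 := by
      rw [← cancel_epi (K.t n), ← cancel_epi (K.g n), ← Category.assoc, K.g_t, Category.assoc, hψ']
      simp
    rw [h, comp_zero]

theorem exists_trans {k : ℕ} : ∀ {m : ℕ}, k ≤ m → ∃ r : K.M m ⟶ K.M k, r ≫ K.ι k = K.ι m := by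
  intro m h
  induction m, h using Nat.le_induction with
  | base => exact ⟨𝟙 _, Category.id_comp _⟩
  | succ m _ ih =>
    obtain ⟨r, hr⟩ := ih
    exact ⟨K.j m ≫ r, by rw [Category.assoc, hr, ι_succ]⟩

/-- The first term modulo `M (n + 1)` has `s`-torsion `M n / M (n + 1)`. -/
theorem regular (n : ℕ) {W : C} (φ : W ⟶ K.M 0) (ψ : W ⟶ K.M (n + 1))
    (h : φ ≫ s (K.M 0) = ψ ≫ K.ι (n + 1)) : ∃ χ : W ⟶ K.M n, χ ≫ K.ι n = φ := by
  suffices ∀ k, k ≤ n → ∃ χ : W ⟶ K.M k, χ ≫ K.ι k = φ from this n le_rfl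
  intro k hk
  induction k with
  | zero => exact ⟨φ, Category.comp_id φ⟩
  | succ k ih =>
    obtain ⟨χ, hχ⟩ := ih (by omega)
    obtain ⟨r, hr⟩ := K.exists_trans hs (show k + 2 ≤ n + 1 by omega)
    have h1 : χ ≫ K.u k = (ψ ≫ r) ≫ K.j (k + 1) := by
      rw [← cancel_mono (K.ι (k + 1)), ι_succ, Category.assoc, ← Category.assoc (K.u k), K.u_j, ← hs,
        ← Category.assoc, hχ, h, Category.assoc, Category.assoc]
      rw [← hr]
      rfl
    have h2 : χ ≫ K.g k = 0 := by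
      haveI := K.mono_t k
      rw [← cancel_mono (K.t k), zero_comp, Category.assoc, K.g_t, ← Category.assoc, h1,
        Category.assoc, K.w, comp_zero]
    haveI := K.mono_j k
    refine ⟨(K.ex k).lift χ h2, ?_⟩
    rw [ι_succ, ← Category.assoc]
    exact (congrArg (· ≫ K.ι k) ((K.ex k).lift_f χ h2)).trans hχ

omit hs

/-- The quotient by `M n`. -/
def Quot (n : ℕ) : C := cokernel (K.ι n)

/-- The projection. -/
def π (n : ℕ) : K.M 0 ⟶ K.Quot n := cokernel.π (K.ι n)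

instance epi_π (n : ℕ) : Epi (K.π n) := inferInstanceAs (Epi (cokernel.π (K.ι n)))

theorem ι_π (n : ℕ) : K.ι n ≫ K.π n = 0 := cokernel.condition _

/-- The transition maps. -/
def tr (n : ℕ) : K.Quot (n + 1) ⟶ K.Quot n :=
  cokernel.desc _ (K.π n) (by rw [ι_succ, Category.assoc, ι_π, comp_zero])

theorem π_tr (n : ℕ) : K.π (n + 1) ≫ K.tr n = K.π n := cokernel.π_desc _ _ _

instance epi_tr (n : ℕ) : Epi (K.tr n) :=
  haveI : Epi (K.π (n + 1) ≫ K.tr n) := by rw [π_tr]; infer_instance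
  epi_of_epi (K.π (n + 1)) (K.tr n)

include hs

theorem pw_π (n : ℕ) : K.pw n ≫ K.π n = 0 := by
  rw [← K.v_ι hs, Category.assoc, ι_π, comp_zero]

theorem exists_desc (n : ℕ) {W : C} (φ : K.Quot (n + 1) ⟶ W) (h : K.pw n ≫ K.π (n + 1) ≫ φ = 0) :
    ∃ ψ, K.tr n ≫ ψ = φ := by
  have h1 : K.ι n ≫ K.π (n + 1) ≫ φ = 0 := by
    refine K.cover hs n _ ?_ ?_
    · rw [← Category.assoc, ← ι_succ, ← Category.assoc, ι_π, zero_comp]
    · rw [← Category.assoc, K.v_ι hs, h]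
  refine ⟨cokernel.desc _ (K.π (n + 1) ≫ φ) h1, ?_⟩
  rw [← cancel_epi (K.π (n + 1)), ← Category.assoc, π_tr]
  exact cokernel.π_desc _ _ _

theorem comp_tr_eq_zero (n : ℕ) {W : C} (φ : W ⟶ K.Quot (n + 1)) (h : φ ≫ s (K.Quot (n + 1)) = 0) :
    φ ≫ K.tr n = 0 := by
  let p := pullback.fst φ (K.π (n + 1))
  let q := pullback.snd φ (K.π (n + 1))
  have hpq : p ≫ φ = q ≫ K.π (n + 1) := pullback.condition
  have h1 : (q ≫ s (K.M 0)) ≫ K.π (n + 1) = 0 := by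
    rw [Category.assoc, ← hs, ← Category.assoc, ← hpq, Category.assoc, h, comp_zero]
  obtain ⟨ψ, hψ⟩ : ∃ ψ, ψ ≫ K.ι (n + 1) = q ≫ s (K.M 0) :=
    ⟨_, Abelian.monoLift_comp (K.ι (n + 1)) (q ≫ s (K.M 0)) h1⟩
  obtain ⟨χ, hχ⟩ := K.regular hs n q ψ hψ.symm
  haveI : Epi p := inferInstanceAs (Epi (pullback.fst φ (K.π (n + 1))))
  rw [← cancel_epi p, comp_zero, ← Category.assoc, hpq, Category.assoc, π_tr, ← hχ, Category.assoc, ι_π,
    comp_zero]

omit hs

/-- The first quotient is `Q 0`. -/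
theorem exists_iso_one : ∃ e : K.Quot 1 ≅ K.Q 0, K.π 1 ≫ e.hom = K.g 0 := by
  haveI := K.epi_g 0
  have h1 : K.ι 1 = K.j 0 := Category.comp_id _
  let d : K.Quot 1 ⟶ K.Q 0 := cokernel.desc _ (K.g 0) (by rw [h1]; exact K.w 0)
  have hd : K.π 1 ≫ d = K.g 0 := cokernel.π_desc _ _ _
  let e' : K.Q 0 ⟶ K.Quot 1 := (K.ex 0).desc (K.π 1) (by
    show K.j 0 ≫ K.π 1 = 0
    rw [← h1, ι_π])
  have he : K.g 0 ≫ e' = K.π 1 := (K.ex 0).g_desc _ _
  refine ⟨⟨d, e', ?_, ?_⟩, hd⟩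
  · rw [← cancel_epi (K.π 1), ← Category.assoc, hd, he, Category.comp_id]
  · rw [← cancel_epi (K.g 0), ← Category.assoc, he, hd, Category.comp_id]

variable {D : Type u'} [Category.{v'} D] [Abelian D] {s' : ∀ A : D, A ⟶ A} (F : C ⥤ D) [F.Additive]
  [PreservesFiniteLimits F] [PreservesFiniteColimits F]

/-- The image of a chain under an exact functor. -/
def map (hF : ∀ A : C, F.map (s A) = s' (F.obj A)) : Chain s' where
  M n := F.obj (K.M n)
  Q n := F.obj (K.Q n)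
  j n := F.map (K.j n)
  g n := F.map (K.g n)
  u n := F.map (K.u n)
  t n := F.map (K.t n)
  mono_j n := haveI := K.mono_j n; inferInstance
  epi_g n := haveI := K.epi_g n; inferInstance
  mono_t n := haveI := K.mono_t n; inferInstance
  epi_t n := haveI := K.epi_t n; inferInstance
  w n := by rw [← F.map_comp, K.w, F.map_zero]
  ex n := (K.ex n).map F
  u_j n := by rw [← F.map_comp, K.u_j, hF]
  g_t n := by rw [← F.map_comp, K.g_t, F.map_comp]

end Chain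

end Groth.TFOneAux
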