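import Groth.Agent.TFOne.Contra
import Groth.Agent.Calg1.CompletionLocal
import Groth.Agent.CohC3.QuotSections

/-!
# Passing to the completion
-/

set_option autoImplicit false
set_option linter.style.haveILetI false
set_option linter.unusedSectionVars false
set_option backward.isDefEq.respectTransparency.types false

universe u

open CategoryTheory CategoryTheory.Limits AlgebraicGeometry Opposite TopologicalSpace

noncomputable section

namespace Groth.TFOneAux

open CohC3

variable (R : Type u) [CommRing R] [IsDomain R] [IsDiscreteValuationRing R]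

/-- The completion of a discrete valuation ring. -/
abbrev Rh : Type u := AdicCompletion (IsLocalRing.maximalIdeal R) R

instance isDomain_Rh : IsDomain (Rh R) :=
  ((Calg1.isDVR_iff_adicCompletion R).1 ⟨inferInstance, inferInstance⟩).choose

instance isDVR_Rh : IsDiscreteValuationRing (Rh R) :=
  ((Calg1.isDVR_iff_adicCompletion R).1 ⟨inferInstance, inferInstance⟩).choose_spec

theorem injective_algebraMap_Rh : Function.Injective (algebraMap R (Rh R)) := by
  rw [RingHom.injective_iff_ker_eq_bot]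
  by_contra h
  have hm : IsLocalRing.maximalIdeal R = RingHom.ker (algebraMap R (Rh R)) :=
    (IsLocalRing.eq_maximalIdeal ((RingHom.ker_isPrime _).isMaximal h)).symm
  refine IsDiscreteValuationRing.not_isField (Rh R) (IsLocalRing.isField_iff_maximalIdeal_eq.2 ?_)
  exact AdicCompletion.maximalIdeal_eq_map.trans
    ((congrArg (Ideal.map (algebraMap R (Rh R))) hm).trans ((Ideal.map_eq_bot_iff_le_ker _).2 le_rfl))

theorem irreducible_algebraMap_Rh {ϖ : R} (hϖ : Irreducible ϖ) :
    Irreducible (algebraMap R (Rh R) ϖ) :=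
  (IsDiscreteValuationRing.irreducible_iff_uniformizer _).2 (AdicCompletion.maximalIdeal_eq_map.trans
    ((congrArg (Ideal.map (algebraMap R (Rh R))) hϖ.maximalIdeal_eq).trans
      ((Ideal.map_span _ _).trans (congrArg Ideal.span Set.image_singleton))))

/-- The residue field of the completion. -/
def resIso : CommRingCat.of (IsLocalRing.ResidueField R) ≅
    CommRingCat.of (IsLocalRing.ResidueField (Rh R)) :=
  (RingEquiv.ofBijective (IsLocalRing.ResidueField.map (algebraMap R (Rh R)))
    (AdicCompletion.residueField_map_bijective R)).toCommRingCatIso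

/-- The map of spectra. -/
abbrev cmap : Spec (CommRingCat.of (Rh R)) ⟶ Spec (CommRingCat.of R) :=
  Spec.map (CommRingCat.ofHom (algebraMap R (Rh R)))

instance flat_cmap : Flat (cmap R) :=
  Flat.SpecMap_iff.2 (show RingHom.Flat (algebraMap R (Rh R)) from
    RingHom.flat_algebraMap_iff.2 inferInstance)

theorem res_comm : Spec.map (CommRingCat.ofHom (IsLocalRing.residue (Rh R))) ≫ cmap R =
    Spec.map (resIso R).hom ≫ Spec.map (CommRingCat.ofHom (IsLocalRing.residue R)) := by
  rw [← Spec.map_comp, ← Spec.map_comp]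
  congr 1

/-- The geometric generic point of the completion. -/
abbrev Om : Type u := AlgebraicClosure (FractionRing (Rh R))

/-- Its map to the completion. -/
abbrev tm : Spec (CommRingCat.of (Om R)) ⟶ Spec (CommRingCat.of (Rh R)) :=
  Spec.map (CommRingCat.ofHom ((algebraMap (FractionRing (Rh R)) (Om R)).comp
    (algebraMap (Rh R) (FractionRing (Rh R)))))

theorem tm_closedPoint : tm R (IsLocalRing.closedPoint (Om R)) = genPoint (Rh R) := by
  refine PrimeSpectrum.ext ?_
  show Ideal.comap ((algebraMap (FractionRing (Rh R)) (Om R)).comp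
    (algebraMap (Rh R) (FractionRing (Rh R)))) (IsLocalRing.maximalIdeal (Om R)) = ⊥
  rw [(IsLocalRing.isField_iff_maximalIdeal_eq (R := Om R)).1 (Field.toIsField (Om R)),
    ← RingHom.ker_eq_comap_bot, ← RingHom.injective_iff_ker_eq_bot]
  exact (algebraMap (FractionRing (Rh R)) (Om R)).injective.comp (IsFractionRing.injective _ _)

variable {R} {X Xs Xg : Scheme.{u}}

/-- The family over the completion. -/
abbrev Xh (f : X ⟶ Spec (CommRingCat.of R)) : Scheme.{u} := pullback f (cmap R)

/-- Its structure map. -/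
abbrev fh (f : X ⟶ Spec (CommRingCat.of R)) : Xh f ⟶ Spec (CommRingCat.of (Rh R)) :=
  pullback.snd f (cmap R)

/-- The projection. -/
abbrev hh (f : X ⟶ Spec (CommRingCat.of R)) : Xh f ⟶ X := pullback.fst f (cmap R)

/-- The geometric generic fibre of the completion. -/
abbrev Yh (f : X ⟶ Spec (CommRingCat.of R)) : Scheme.{u} := pullback (fh f) (tm R)

instance over_Yh (f : X ⟶ Spec (CommRingCat.of R)) : (Yh f).Over (Spec (CommRingCat.of (Om R))) :=
  ⟨pullback.snd (fh f) (tm R)⟩

/-- The projection from the geometric generic fibre. -/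
abbrev gm (f : X ⟶ Spec (CommRingCat.of R)) : Yh f ⟶ Xh f := pullback.fst (fh f) (tm R)

theorem isPullback_gm (f : X ⟶ Spec (CommRingCat.of R)) :
    IsPullback (gm f) (Yh f ↘ Spec (CommRingCat.of (Om R))) (fh f) (tm R) :=
  IsPullback.of_hasPullback _ _

variable {f : X ⟶ Spec (CommRingCat.of R)} [Xs.Over (Spec (CommRingCat.of (IsLocalRing.ResidueField R)))]
  {i : Xs ⟶ X}
  (hsq : IsPullback i (Xs ↘ Spec (CommRingCat.of (IsLocalRing.ResidueField R))) f
    (Spec.map (CommRingCat.ofHom (IsLocalRing.residue R))))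

/-- The structure map of the special fibre over the residue field of the completion. -/
def qh : Xs ⟶ Spec (CommRingCat.of (IsLocalRing.ResidueField (Rh R))) :=
  (Xs ↘ Spec (CommRingCat.of (IsLocalRing.ResidueField R))) ≫ Spec.map (resIso R).inv

theorem qh_res : qh ≫ Spec.map (resIso R).hom = (Xs ↘ Spec (CommRingCat.of (IsLocalRing.ResidueField R))) := by
  rw [qh, Category.assoc, ← Spec.map_comp, Iso.hom_inv_id, Spec.map_id, Category.comp_id]

include hsq in
theorem ih_w : i ≫ f = (qh (R := R) (Xs := Xs) ≫ Spec.map (CommRingCat.ofHom (IsLocalRing.residue (Rh R)))) ≫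
    cmap R := by
  rw [Category.assoc, res_comm, ← Category.assoc, qh_res, hsq.w]

/-- The inclusion of the special fibre in the family over the completion. -/
def ih : Xs ⟶ Xh f := pullback.lift i _ (ih_w hsq)

theorem ih_hh : ih hsq ≫ hh f = i := pullback.lift_fst _ _ _

theorem sq_ih : IsPullback (ih hsq) qh (fh f)
    (Spec.map (CommRingCat.ofHom (IsLocalRing.residue (Rh R)))) := by
  refine IsPullback.of_right ?_ (pullback.lift_snd _ _ _) (IsPullback.of_hasPullback f (cmap R))
  rw [ih_hh, res_comm]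
  have h : IsPullback (𝟙 Xs) qh (Xs ↘ Spec (CommRingCat.of (IsLocalRing.ResidueField R)))
      (Spec.map (resIso R).hom) :=
    IsPullback.of_horiz_isIso ⟨by rw [Category.id_comp, qh_res]⟩
  simpa only [Category.id_comp] using h.paste_horiz hsq

theorem sq_ih_field : IsPullback (ih hsq) (Xs ↘ Spec (CommRingCat.of (IsLocalRing.ResidueField R))) (fh f)
    (Spec.map (resIso R).inv ≫ Spec.map (CommRingCat.ofHom (IsLocalRing.residue (Rh R)))) := by
  have h : IsPullback (𝟙 Xs) (Xs ↘ Spec (CommRingCat.of (IsLocalRing.ResidueField R))) qh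
      (Spec.map (resIso R).inv) :=
    IsPullback.of_horiz_isIso ⟨by rw [Category.id_comp]; rfl⟩
  simpa only [Category.id_comp] using h.paste_horiz (sq_ih hsq)

theorem phi_congr_left (k : Type u) [Field k] {Z : Scheme.{u}} [Z.Over (Spec (CommRingCat.of k))]
    {E E' : Z.Modules} (e : E ≅ E') (r : ℕ) (G : Z.Modules) : phi k E r G = phi k E' r G := by
  simp only [phi, EulerDeg.tensorDefect]
  rw [show Curv2.euler k Z (CohB1.tensorMod E G) = Curv2.euler k Z (CohB1.tensorMod E' G) from
    EulerDeg.euler_congr k (((DCoh.tensorBi (X := Z)).mapIso e).app G)]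

variable [IsProper f]

instance isProper_fh : IsProper (fh f) := inferInstance

instance flat_hh : Flat (hh f) := inferInstance

/-- The quotient `π` seen over the completion. -/
def πh {J : X.Modules} {G : Xs.Modules} (π : (Scheme.Modules.pullback i).obj J ⟶ G) :
    (Scheme.Modules.pullback (ih hsq)).obj ((Scheme.Modules.pullback (hh f)).obj J) ⟶ G :=
  (pullIso (ih_hh hsq) J).hom ≫ π

theorem isCoh_hh {J : X.Modules} (hJ : Coh.IsCoh J) : Coh.IsCoh ((Scheme.Modules.pullback (hh f)).obj J) :=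
  haveI := hJ.1
  ⟨QCohMod.isQCoh_pullback_obj _ J, QCohMod.isFT_pullback _ J hJ.2⟩

theorem map_smul_hh (a : R) (M : X.Modules) :
    letI : X.Over (Spec (CommRingCat.of R)) := ⟨f⟩
    letI : (Xh f).Over (Spec (CommRingCat.of (Rh R))) := ⟨fh f⟩
    (Scheme.Modules.pullback (hh f)).map (Formal.smulMod R M a) =
      Formal.smulMod (Rh R) ((Scheme.Modules.pullback (hh f)).obj M) (algebraMap R (Rh R) a) := by
  letI : X.Over (Spec (CommRingCat.of R)) := ⟨f⟩
  letI : (Xh f).Over (Spec (CommRingCat.of R)) := ⟨hh f ≫ f⟩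
  letI : (Xh f).Over (Spec (CommRingCat.of (Rh R))) := ⟨fh f⟩
  rw [CohC3.map_smulMod_of_adj (Scheme.Modules.pullbackPushforwardAdjunction (hh f)) rfl]
  have : Coh.toGlobal (hh f ≫ f) a = Coh.toGlobal (fh f) (algebraMap R (Rh R) a) := by
    rw [pullback.condition, Abvar.Seesaw.toGlobal_specMap]
    rfl
  show Formal.smulModΓ _ (Coh.toGlobal (hh f ≫ f) a) = Formal.smulModΓ _ (Coh.toGlobal (fh f) _)
  rw [this]

theorem flat_hh_obj {J : X.Modules} (hJf : FlatMod.IsFlatOver f J) :
    FlatMod.IsFlatOver (fh f) ((Scheme.Modules.pullback (hh f)).obj J) := by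
  obtain ⟨ϖ, hϖ⟩ := IsDiscreteValuationRing.exists_irreducible R
  refine isFlatOver_of_mono_smul (fh f) (irreducible_algebraMap_Rh R hϖ) ?_
  haveI := mono_smul_of_flat f hJf hϖ.ne_zero
  haveI := PrinPartsAux.preservesFiniteLimits_pullback (hh f)
  letI : X.Over (Spec (CommRingCat.of R)) := ⟨f⟩
  letI : (Xh f).Over (Spec (CommRingCat.of (Rh R))) := ⟨fh f⟩
  rw [← map_smul_hh]
  infer_instance

/-- The data of a chain of splitting modifications at `π`. -/
def HasChain (f : X ⟶ Spec (CommRingCat.of R)) {J : X.Modules} {G : Xs.Modules}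
    (π : (Scheme.Modules.pullback i).obj J ⟶ G) : Prop :=
  ∃ (ϖ : R) (_ : Irreducible ϖ),
    letI : X.Over (Spec (CommRingCat.of R)) := ⟨f⟩
    ∃ (K : Chain (smulNat (X := X) ϖ)) (e : K.M 0 ≅ J)
      (e' : K.Q 0 ≅ (Scheme.Modules.pushforward i).obj G), (∀ n, Coh.IsCoh (K.M n)) ∧
      e.hom ≫ (Scheme.Modules.pullbackPushforwardAdjunction i).unit.app J ≫
        (Scheme.Modules.pushforward i).map π = K.g 0 ≫ e'.hom

include hsq in
theorem hasChain_of_step {J : X.Modules} {G : Xs.Modules} (hG : Coh.IsCoh G)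
    (T : ∀ J : X.Modules, ((Scheme.Modules.pullback i).obj J ⟶ G) → Prop)
    (hT : ∀ J π, T J π → Coh.IsCoh J ∧ FlatMod.IsFlatOver f J ∧ Epi π)
    (hstep : ∀ J π, T J π →
      ∀ S : Modif ((Scheme.Modules.pullback i).obj J) π ((Scheme.Modules.pullback i).obj (nxt i J π)),
        ∃ σ, S.a ≫ σ = 𝟙 G ∧ T (nxt i J π) σ)
    (π : (Scheme.Modules.pullback i).obj J ⟶ G) (h0 : T J π) : HasChain f π := by
  obtain ⟨ϖ, hϖ⟩ := IsDiscreteValuationRing.exists_irreducible R
  exact ⟨ϖ, hϖ, exists_chain hsq hϖ hG T hT hstep π h0⟩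

include hsq in
/-- A chain gives a flat quotient over the completion. -/
theorem exists_quot_completion {J : X.Modules} {G : Xs.Modules}
    {π : (Scheme.Modules.pullback i).obj J ⟶ G} (hK : HasChain f π) :
    ∃ (N : (Xh f).Modules) (φ : (Scheme.Modules.pullback (hh f)).obj J ⟶ N)
      (e : (Scheme.Modules.pullback (ih hsq)).obj N ≅ G),
      Coh.IsCoh N ∧ FlatMod.IsFlatOver (fh f) N ∧ Epi φ ∧
        (Scheme.Modules.pullback (ih hsq)).map φ ≫ e.hom = πh hsq π := by
  obtain ⟨ϖ, hϖ, hK⟩ := hK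
  letI : X.Over (Spec (CommRingCat.of R)) := ⟨f⟩
  letI : (Xh f).Over (Spec (CommRingCat.of (Rh R))) := ⟨fh f⟩
  obtain ⟨K, e₀, e₀', hM, he⟩ := hK
  let F := Scheme.Modules.pullback (hh f)
  haveI : F.IsLeftAdjoint := (Scheme.Modules.pullbackPushforwardAdjunction (hh f)).isLeftAdjoint
  haveI := PrinPartsAux.preservesFiniteLimits_pullback (hh f)
  haveI : F.Additive := inferInstance
  let K' : Chain (smulNat (X := Xh f) (algebraMap R (Rh R) ϖ)) := K.map F fun M => map_smul_hh ϖ M
  have hϖ' := irreducible_algebraMap_Rh R hϖ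
  haveI : IsAdicComplete (Ideal.span {algebraMap R (Rh R) ϖ}) (Rh R) := hϖ'.maximalIdeal_eq ▸ inferInstance
  haveI : IsProper ((Xh f) ↘ Spec (CommRingCat.of (Rh R))) := inferInstanceAs (IsProper (fh f))
  obtain ⟨N, φ₀, eN₀, hN, hφ₀, hmono, hφe⟩ :=
    exists_algebraization (algebraMap R (Rh R) ϖ) K' fun n => isCoh_hh (hM n)
  let φ : F.obj (K.M 0) ⟶ N := φ₀
  haveI hφ : Epi φ := hφ₀
  let eN : Formal.modPow (Ideal.span {algebraMap R (Rh R) ϖ}) 1 N ≅ F.obj (K.Q 0) := eN₀
  haveI := hN.1
  let I := Ideal.span {algebraMap R (Rh R) ϖ}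
  let i' := ih hsq
  let Pl := Scheme.Modules.pullback i'
  let adj := Scheme.Modules.pullbackPushforwardAdjunction i'
  haveI : Pl.IsLeftAdjoint := adj.isLeftAdjoint
  letI : Xs.Over (Spec (CommRingCat.of (Rh R))) := ⟨i' ≫ fh f⟩
  haveI : IsClosedImmersion i' :=
    haveI : IsClosedImmersion (Spec.map (CommRingCat.ofHom (IsLocalRing.residue (Rh R)))) :=
      IsClosedImmersion.spec_of_surjective _ IsLocalRing.residue_surjective
    MorphismProperty.of_isPullback (sq_ih hsq).flip inferInstance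
  haveI : IsClosedImmersion i :=
    haveI : IsClosedImmersion (Spec.map (CommRingCat.ofHom (IsLocalRing.residue R))) :=
      IsClosedImmersion.spec_of_surjective _ IsLocalRing.residue_surjective
    MorphismProperty.of_isPullback hsq.flip inferInstance
  have hu := CohTwo.isQuot_unit (K := IsLocalRing.maximalIdeal (Rh R)) i' rfl
    (fun a ha => toGlobal_residue (sq_ih hsq).w ha) (ker_le (sq_ih hsq)) N
  haveI hiso : IsIso (Pl.map (Formal.modPowπ I 1 N)) := by
    have hle : I ^ 1 ≤ annHom (adj.unit.app N) := by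
      rw [pow_one, show I = IsLocalRing.maximalIdeal (Rh R) from hϖ'.maximalIdeal_eq.symm]
      exact hu.le_ann
    obtain ⟨χ, hχ⟩ := (isQuot_modPowπ I 1 N).desc _ hle
    haveI := (isQuot_modPowπ I 1 N).epi
    have h1 : Pl.map (Formal.modPowπ I 1 N) ≫ Pl.map χ ≫ adj.counit.app (Pl.obj N) = 𝟙 _ := by
      rw [← Category.assoc, ← Pl.map_comp, hχ]
      exact adj.left_triangle_components N
    haveI : Mono (Pl.map (Formal.modPowπ I 1 N)) := (SplitMono.mk _ h1).mono
    exact isIso_of_mono_of_epi _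
  haveI := Misc7.ClosedImm.isIso_counit i
  let adj₀ := Scheme.Modules.pullbackPushforwardAdjunction i
  haveI : IsIso (adj₀.counit.app G) := inferInstance
  let P₀ := Scheme.Modules.pullback i
  -- the chain starts with `J`
  let e : Pl.obj N ≅ G :=
    asIso (Pl.map (Formal.modPowπ I 1 N)) ≪≫ Pl.mapIso (eN ≪≫ F.mapIso e₀') ≪≫
      pullIso (ih_hh hsq) _ ≪≫ asIso (adj₀.counit.app G)
  refine ⟨N, F.map e₀.inv ≫ φ, e, hN, isFlatOver_of_mono_smul (fh f) hϖ' hmono,
    epi_comp _ _, ?_⟩
  have hnat : ∀ {A B : X.Modules} (g : A ⟶ B),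
      Pl.map (F.map g) ≫ (pullIso (ih_hh hsq) B).hom = (pullIso (ih_hh hsq) A).hom ≫ P₀.map g :=
    fun g => ((Scheme.Modules.pullbackComp (ih hsq) (hh f)).hom ≫
      (Scheme.Modules.pullbackCongr (ih_hh hsq)).hom).naturality g
  have h1 : (F.map e₀.inv ≫ φ) ≫ Formal.modPowπ I 1 N ≫ eN.hom ≫ F.map e₀'.hom =
      F.map (adj₀.unit.app J ≫ (Scheme.Modules.pushforward i).map π) := by
    have h2 : φ ≫ Formal.modPowπ I 1 N ≫ eN.hom = F.map (K.g 0) := hφe
    rw [Category.assoc, reassoc_of% h2, ← F.map_comp, ← F.map_comp, ← he, Iso.inv_hom_id_assoc]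
  show Pl.map (F.map e₀.inv ≫ φ) ≫ Pl.map (Formal.modPowπ I 1 N) ≫
    Pl.map (eN.hom ≫ F.map e₀'.hom) ≫ (pullIso (ih_hh hsq) _).hom ≫ adj₀.counit.app G =
    (pullIso (ih_hh hsq) J).hom ≫ π
  rw [← Pl.map_comp_assoc, ← Pl.map_comp_assoc, Category.assoc (F.map e₀.inv ≫ φ), h1,
    reassoc_of% (hnat (adj₀.unit.app J ≫ (Scheme.Modules.pushforward i).map π)),
    ← adj₀.homEquiv_unit]
  exact congrArg ((pullIso (ih_hh hsq) J).hom ≫ ·)
    ((adj₀.homEquiv_counit J G (adj₀.homEquiv J G π)).symm.trans (Equiv.symm_apply_apply _ π))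

end Groth.TFOneAux
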