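import Groth.Agent.TFOne.Beta
import Groth.Agent.Inter.EulerFibre
import Groth.Agent.Curves1.RR.BaseChange
import Groth.Agent.PicAux.PullTensor
import Groth.Agent.CohTwo.HomTensorCorep

/-!
# Invariance of `φ` along a flat family
-/

set_option autoImplicit false
set_option linter.style.haveILetI false
set_option backward.isDefEq.respectTransparency.types false

universe u

open CategoryTheory CategoryTheory.Limits AlgebraicGeometry TopologicalSpace

noncomputable section

namespace Groth.TFOneAux

variable {X S : Scheme.{u}} {f : X ⟶ S} [IsProper f]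

theorem euler_eq_fibreEuler {M : X.Modules} (hM : Coh.IsCoh M) {K : Type u} [Field K]
    {t : Spec (CommRingCat.of K) ⟶ S} {Y : Scheme.{u}} [Y.Over (Spec (CommRingCat.of K))] {i : Y ⟶ X}
    (hY : IsPullback i (Y ↘ Spec (CommRingCat.of K)) f t) :
    Curv2.euler K Y ((Scheme.Modules.pullback i).obj M) =
      Inter.fibreEuler f M ((Scheme.SpecToEquivOfField K S) t).1 := by
  haveI := hM.1
  obtain ⟨⟨y, φ⟩, rfl⟩ := (Scheme.SpecToEquivOfField K S).symm.surjective t
  rw [Equiv.apply_symm_apply]
  letI : Algebra (S.residueField y) K := φ.hom.toAlgebra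
  letI : (f.fiber y).Over (Spec (CommRingCat.of (S.residueField y))) := ⟨f.fiberToSpecResidueField y⟩
  haveI : IsProper ((f.fiber y) ↘ Spec (CommRingCat.of (S.residueField y))) :=
    MorphismProperty.pullback_snd (P := @IsProper) _ _ (inferInstanceAs (IsProper f))
  have hY' : IsPullback i (Y ↘ Spec (CommRingCat.of K)) f (Spec.map φ ≫ S.fromSpecResidueField y) := hY
  let l : Y ⟶ f.fiber y :=
    pullback.lift i ((Y ↘ Spec (CommRingCat.of K)) ≫ Spec.map φ) (hY'.w.trans (Category.assoc _ _ _).symm)
  have hl : l ≫ f.fiberι y = i := pullback.lift_fst _ _ _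
  have h' : IsPullback l (Y ↘ Spec (CommRingCat.of K)) ((f.fiber y) ↘ Spec (CommRingCat.of (S.residueField y)))
      (Spec.map (CommRingCat.ofHom (algebraMap (S.residueField y) K))) :=
    IsPullback.of_right (by rw [show l ≫ pullback.fst _ _ = i from hl]; exact hY')
      (pullback.lift_snd _ _ _) (IsPullback.of_hasPullback f _)
  haveI : ((Scheme.Modules.pullback (f.fiberι y)).obj M).IsQuasicoherent := QCohMod.isQCoh_pullback_obj _ M
  show Curv2.euler K Y _ = Curv2.euler (S.residueField y) (f.fiber y) (CohIII.fiberMod f M y)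
  rw [← EulerDeg.euler_congr K ((Scheme.Modules.pullbackComp l (f.fiberι y)).app M ≪≫
    (Scheme.Modules.pullbackCongr hl).app M)]
  exact Curves1.RR.euler_pullback h' ((Scheme.Modules.pullback (f.fiberι y)).obj M) inferInstance

variable [IsLocallyNoetherian S] [PreconnectedSpace S] {A B : Type u} [Field A] [Field B]
  {a : Spec (CommRingCat.of A) ⟶ S} {b : Spec (CommRingCat.of B) ⟶ S} {Ya Yb : Scheme.{u}}
  [Ya.Over (Spec (CommRingCat.of A))] [Yb.Over (Spec (CommRingCat.of B))] {ia : Ya ⟶ X} {ib : Yb ⟶ X}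
  (ha : IsPullback ia (Ya ↘ Spec (CommRingCat.of A)) f a)
  (hb : IsPullback ib (Yb ↘ Spec (CommRingCat.of B)) f b)

include ha hb in
theorem euler_field_points {M : X.Modules} (hM : Coh.IsCoh M) (hfl : FlatMod.IsFlatOver f M) :
    Curv2.euler A Ya ((Scheme.Modules.pullback ia).obj M) =
      Curv2.euler B Yb ((Scheme.Modules.pullback ib).obj M) := by
  rw [euler_eq_fibreEuler hM ha, euler_eq_fibreEuler hM hb]
  exact Inter.euler_fiber_eq f M hM hfl _ _

include ha hb in
theorem phi_field_points {E N : X.Modules} {r : ℕ} (hE : FlatMod.IsFinLocFreeOfRank r E)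
    (hN : Coh.IsCoh N) (hfl : FlatMod.IsFlatOver f N) :
    phi A ((Scheme.Modules.pullback ia).obj E) r ((Scheme.Modules.pullback ia).obj N) =
      phi B ((Scheme.Modules.pullback ib).obj E) r ((Scheme.Modules.pullback ib).obj N) := by
  obtain ⟨ea, -⟩ := PicAux.exists_pullback_tensorMod ia E N
  obtain ⟨eb, -⟩ := PicAux.exists_pullback_tensorMod ib E N
  have hf := LocFree.isFinLocFree_of_rank hE
  simp only [phi, EulerDeg.tensorDefect]
  rw [← EulerDeg.euler_congr A ea, ← EulerDeg.euler_congr B eb, euler_field_points ha hb hN hfl,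
    euler_field_points ha hb (CohTwo.HomTensor.isCoh_tensorMod hf hN)
      (CohTwo.HomTensor.isFlatOver_tensorMod f hf hfl)]

end Groth.TFOneAux
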