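import Groth.Agent.TFOne.Fibres
import Groth.Agent.TFOne.Euler
import Groth.Agent.Ega43FP2.SuppDim

/-!
# Flat quotients destabilise the generic fibre
-/

set_option autoImplicit false
set_option linter.style.haveILetI false
set_option backward.isDefEq.respectTransparency.types false

universe u

open CategoryTheory CategoryTheory.Limits AlgebraicGeometry Opposite TopologicalSpace

noncomputable section

namespace Groth.TFOneAux

section Curve

variable {k : Type u} [Field k] {X : Scheme.{u}} [X.Over (Spec (CommRingCat.of k))]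
  [IsProper (X ↘ Spec (CommRingCat.of k))] {E : X.Modules} {r : ℕ}

/-- A coherent quotient dominates the value at some pattern. -/
theorem exists_pattern_le (hX : IsCurve X) (hE : FlatMod.IsFinLocFreeOfRank r E) (hr : 0 < r)
    {M N : X.Modules} (hM : TFOne.IsTF1 X M) (hN : Coh.IsCoh N) (ψ : M ⟶ N) [Epi ψ] :
    ∃ (P : Set (Gen X)) (G : X.Modules) (π : M ⟶ G) (g : N ⟶ G), IsQ M P G π ∧ ψ ≫ g = π ∧
      bPat k E r M P ≤ phi k E r N ∧ (bPat k E r M P = phi k E r N → IsIso g) := by
  haveI := hX.noeth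
  haveI := hM.1.1
  haveI := hN.1
  let P : Set (Gen X) := {η | η.1 ∈ CohB1.support N}
  obtain ⟨G, π, h⟩ := exists_isQ hX hM P
  haveI := h.epi
  haveI := h.coh.1
  have hz : kernel.ι ψ ≫ π = 0 := eq_zero_of_generic hX (QCohMod.isCoh_kernel ψ hM.1) h.coh h.tf _
    fun η hη a => by
      by_cases hs : η ∈ CohB1.support G
      · haveI := subsingleton_stalk_kernel ψ η
          (bijective_of_isRkOne hX hM.2.2 ψ hη ((h.supp ⟨η, hη⟩).1 hs)).1
        rw [Subsingleton.elim a 0, map_zero]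
      · haveI := subsingleton_stalk_of_not_mem hs
        exact Subsingleton.elim _ _
  let g : N ⟶ G := Abelian.epiDesc ψ π hz
  have hg : ψ ≫ g = π := Abelian.comp_epiDesc _ _ _
  haveI : Epi g := by
    haveI : Epi (ψ ≫ g) := by rw [hg]; infer_instance
    exact epi_of_epi ψ g
  have hD : Coh.IsCoh (kernel g) := QCohMod.isCoh_kernel g hN
  have hDs : EulerDeg.SupportedAtClosed (kernel g) := supportedAtClosed_of_generic hX fun η hη => by
    by_cases hs : η ∈ CohB1.support N
    · refine subsingleton_stalk_kernel g η fun a b hab => ?_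
      obtain ⟨a, rfl⟩ := surjective_stalkMap ψ η a
      obtain ⟨b, rfl⟩ := surjective_stalkMap ψ η b
      rw [← Duality.StalkHom.stalkMapₗ_comp_apply, ← Duality.StalkHom.stalkMapₗ_comp_apply, hg] at hab
      rw [(bijective_of_isRkOne hX hM.2.2 π hη ((h.supp ⟨η, hη⟩).2 hs)).1 hab]
    · haveI := subsingleton_stalk_of_not_mem hs
      exact (injective_stalkMap (kernel.ι g) η).subsingleton
  have hsum := phi_add k hE (S := ShortComplex.mk (kernel.ι g) g (kernel.condition g))
    { exact := ShortComplex.exact_of_f_is_kernel _ (kernelIsKernel g) } hD hN h.coh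
  simp only [phi_of_supportedAtClosed k hE hD hDs] at hsum
  have hb : bPat k E r M P = phi k E r G := bPat_eq hX hM h
  have hpos : 0 ≤ Curv2.euler k X (kernel g) := EulerDeg.euler_nonneg k hDs
  refine ⟨P, G, π, g, h, hg, ?_, fun heq => ?_⟩
  · rw [hb, hsum]
    have : (0 : ℤ) ≤ r * Curv2.euler k X (kernel g) := mul_nonneg (Int.natCast_nonneg r) hpos
    linarith
  · rw [hb] at heq
    have hr' : (0 : ℤ) < r := by exact_mod_cast hr
    have he : Curv2.euler k X (kernel g) ≤ 0 := by nlinarith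
    haveI : Mono g := Preadditive.mono_of_isZero_kernel g (EulerDeg.isZero_of_euler_nonpos k hD hDs he)
    exact isIso_of_mono_of_epi g

end Curve

variable {R : Type u} [CommRing R] [IsDomain R] [IsDiscreteValuationRing R] {X Xs : Scheme.{u}}
  {f : X ⟶ Spec (CommRingCat.of R)} [IsProper f] {i : Xs ⟶ X}
  {qs : Xs ⟶ Spec (CommRingCat.of (IsLocalRing.ResidueField R))}
  {Ω : Type u} [Field Ω] {t : Spec (CommRingCat.of Ω) ⟶ Spec (CommRingCat.of R)} {Y : Scheme.{u}}
  [Y.Over (Spec (CommRingCat.of Ω))] {i₁ : Y ⟶ X}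

theorem flat_generic_point (ht : t (IsLocalRing.closedPoint Ω) = genPoint R) : Flat t := by
  obtain ⟨φ, rfl⟩ := Spec.map_surjective t
  refine Flat.SpecMap_iff.2 ?_
  have hker : RingHom.ker φ.hom = ⊥ := by
    have := congrArg PrimeSpectrum.asIdeal ht
    rw [show RingHom.ker φ.hom = Ideal.comap φ.hom (IsLocalRing.maximalIdeal Ω) by
      rw [(IsLocalRing.isField_iff_maximalIdeal_eq (R := Ω)).1 (Field.toIsField Ω), ← RingHom.ker_eq_comap_bot]]
    exact this
  have hinj : Function.Injective φ.hom := (RingHom.injective_iff_ker_eq_bot _).2 hker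
  letI : Algebra R Ω := φ.hom.toAlgebra
  haveI : FaithfulSMul R Ω := (faithfulSMul_iff_algebraMap_injective R Ω).2 hinj
  show RingHom.Flat (algebraMap R Ω)
  refine RingHom.flat_algebraMap_iff.2 (Module.Flat.flat_iff_torsion_eq_bot_of_isBezout.2 ?_)
  rw [Submodule.eq_bot_iff]
  rintro x ⟨⟨a, ha⟩, hax⟩
  have hax' : a • x = 0 := hax
  rw [Algebra.smul_def] at hax'
  exact (mul_eq_zero.1 hax').resolve_left ((map_ne_zero_iff _ hinj).2 (nonZeroDivisors.ne_zero ha))

/-- A flat coherent module is determined by the generic geometric fibre. -/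
theorem isZero_of_isZero_generic (hY : IsPullback i₁ (Y ↘ Spec (CommRingCat.of Ω)) f t)
    (ht : t (IsLocalRing.closedPoint Ω) = genPoint R) {C : X.Modules} (hC : Coh.IsCoh C)
    (hfl : FlatMod.IsFlatOver f C) (h : IsZero ((Scheme.Modules.pullback i₁).obj C)) : IsZero C := by
  haveI := isNoetherian_of_isProper f
  haveI := hC.1
  refine (QCohMod.isZero_iff_support_eq_empty C).2 ?_
  by_contra hne
  obtain ⟨x, hx⟩ := Set.nonempty_iff_ne_empty.2 hne
  have ho : IsOpen (f.base '' (((⊤ : X.Opens) : Set X) ∩ CohB1.support C)) :=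
    Groth.Ega43FP2.isOpen_image_inter_support f C (KTheory.OpenLoc.isFP_of_isCoh' hC) hfl ⊤
  have hsp : genPoint R ⤳ f x := (PrimeSpectrum.le_iff_specializes _ _).1 bot_le
  obtain ⟨z, ⟨-, hz⟩, hfz⟩ := hsp.mem_open ho ⟨x, ⟨trivial, hx⟩, rfl⟩
  obtain ⟨y, rfl⟩ : z ∈ Set.range i₁ :=
    (range_fst_of_isPullback hY).ge ⟨IsLocalRing.closedPoint Ω, ht.trans hfz.symm⟩
  have h0 := (QCohMod.isZero_iff_support_eq_empty _).1 (h : IsZero ((Scheme.Modules.pullback i₁).obj C))
  rw [QCohMod.support_pullback i₁ C hC.2] at h0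
  exact h0.le hz

variable (hsq : IsPullback i qs f (Spec.map (CommRingCat.ofHom (IsLocalRing.residue R))))
  {J N : X.Modules} (hJ : Coh.IsCoh J) (hJf : FlatMod.IsFlatOver f J) (hN : Coh.IsCoh N)
  (hNf : FlatMod.IsFlatOver f N) (φ : J ⟶ N) [Epi φ] {G : Xs.Modules}
  (π : (Scheme.Modules.pullback i).obj J ⟶ G) (e : (Scheme.Modules.pullback i).obj N ≅ G)
  (he : (Scheme.Modules.pullback i).map φ ≫ e.hom = π)

include hJ hJf hN in
theorem kernel_coh_flat : Coh.IsCoh (kernel φ) ∧ FlatMod.IsFlatOver f (kernel φ) := by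
  letI : X.Over (Spec (CommRingCat.of R)) := ⟨f⟩
  haveI := isNoetherian_of_isProper f
  haveI := hN.1
  haveI := hJ.1
  obtain ⟨ϖ, hϖ⟩ := IsDiscreteValuationRing.exists_irreducible R
  refine ⟨QCohMod.isCoh_kernel φ hJ, isFlatOver_of_mono_smul f hϖ ?_⟩
  haveI := mono_smul_of_flat f hJf hϖ.ne_zero
  have h' : Mono (Formal.smulMod R (kernel φ) ϖ ≫ kernel.ι φ) :=
    CohC3.smulMod_naturality (kernel.ι φ) ϖ ▸
      (mono_comp (kernel.ι φ) (Formal.smulMod R J ϖ) : Mono (kernel.ι φ ≫ Formal.smulMod R J ϖ))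
  exact @mono_of_mono _ _ _ _ _ (Formal.smulMod R (kernel φ) ϖ) (kernel.ι φ) h'

include hsq hJ hJf hN hNf in
theorem mono_kernel_special : Mono ((Scheme.Modules.pullback i).map (kernel.ι φ)) := by
  obtain ⟨ϖ, hϖ⟩ := IsDiscreteValuationRing.exists_irreducible R
  haveI := (kernel_coh_flat hJ hJf hN φ).1.1
  haveI := hJ.1
  exact mono_special hsq hϖ (kernel.ι φ) φ (kernel.condition φ)
    (ShortComplex.exact_of_f_is_kernel _ (kernelIsKernel φ)) (mono_smul_of_flat f hNf hϖ.ne_zero)

include hJ hJf hN he in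
theorem isIso_of_generic (hY : IsPullback i₁ (Y ↘ Spec (CommRingCat.of Ω)) f t)
    (ht : t (IsLocalRing.closedPoint Ω) = genPoint R)
    (h : IsIso ((Scheme.Modules.pullback i₁).map φ)) : IsIso π := by
  haveI := flat_generic_point ht
  haveI : Flat i₁ := MorphismProperty.of_isPullback hY.flip inferInstance
  haveI := PrinPartsAux.preservesFiniteLimits_pullback i₁
  obtain ⟨hK, hKf⟩ := kernel_coh_flat hJ hJf hN φ
  have hz : IsZero ((Scheme.Modules.pullback i₁).obj (kernel φ)) := by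
    haveI : Mono ((Scheme.Modules.pullback i₁).map (kernel.ι φ)) := inferInstance
    rw [IsZero.iff_id_eq_zero, ← cancel_mono ((Scheme.Modules.pullback i₁).map (kernel.ι φ)), zero_comp,
      Category.id_comp]
    haveI := h
    rw [← cancel_mono ((Scheme.Modules.pullback i₁).map φ), ← Functor.map_comp, kernel.condition,
      Functor.map_zero, zero_comp]
  haveI : Mono φ := Preadditive.mono_of_isZero_kernel φ (isZero_of_isZero_generic hY ht hK hKf hz)
  haveI : IsIso φ := isIso_of_mono_of_epi φ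
  rw [← he]
  infer_instance

include hsq hJ hJf hN hNf he in
theorem mem_support_generic (hY : IsPullback i₁ (Y ↘ Spec (CommRingCat.of Ω)) f t) {s₀ : Xs}
    (hs₀ : s₀ ∉ CohB1.support (kernel π)) {y : Y} (hy : i₁ y ⤳ i s₀)
    (hyJ : y ∈ CohB1.support ((Scheme.Modules.pullback i₁).obj J)) :
    y ∈ CohB1.support ((Scheme.Modules.pullback i₁).obj N) := by
  haveI := isNoetherian_of_isProper f
  obtain ⟨hK, -⟩ := kernel_coh_flat hJ hJf hN φ
  haveI := hK.1
  haveI := mono_kernel_special hsq hJ hJf hN hNf φ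
  let c : (Scheme.Modules.pullback i).obj (kernel φ) ⟶ kernel π :=
    kernel.lift π ((Scheme.Modules.pullback i).map (kernel.ι φ)) (by
      rw [← he, ← Category.assoc, ← Functor.map_comp, kernel.condition, Functor.map_zero, zero_comp])
  haveI : Mono c := by
    haveI : Mono (c ≫ kernel.ι π) := by rw [kernel.lift_ι]; infer_instance
    exact mono_of_mono c (kernel.ι π)
  have hK0 : i s₀ ∉ CohB1.support (kernel φ) := fun hm => by
    haveI := subsingleton_stalk_of_not_mem hs₀
    have h1 : s₀ ∈ CohB1.support ((Scheme.Modules.pullback i).obj (kernel φ)) := by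
      rw [QCohMod.support_pullback i _ hK.2]; exact hm
    exact h1 (injective_stalkMap c s₀).subsingleton
  have hK1 : i₁ y ∉ CohB1.support (kernel φ) :=
    fun hm => hK0 (hy.mem_closed (CohTwo.isClosed_support _ hK) hm)
  haveI := hJ.1
  haveI := hN.1
  rw [QCohMod.support_pullback i₁ J hJ.2] at hyJ
  rw [QCohMod.support_pullback i₁ N hN.2]
  intro hsub
  haveI : Subsingleton (N.presheaf.stalk (i₁ y)) := hsub
  haveI := subsingleton_stalk_of_not_mem hK1
  refine hyJ ⟨fun a b => ?_⟩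
  suffices key : ∀ a : J.presheaf.stalk (i₁ y), a = 0 from (key a).trans (key b).symm
  intro a
  obtain ⟨b, rfl⟩ := exact_kernel φ (i₁ y) a (Subsingleton.elim _ _)
  rw [Subsingleton.elim b 0, map_zero]

variable {κ : Type u} [Field κ] [Xs.Over (Spec (CommRingCat.of κ))]
  {t₀ : Spec (CommRingCat.of κ) ⟶ Spec (CommRingCat.of R)}
  (h₀ : IsPullback i (Xs ↘ Spec (CommRingCat.of κ)) f t₀)
  {E : X.Modules} {r : ℕ} (hE : FlatMod.IsFinLocFreeOfRank r E) [IsReduced Y]
  (hYpure : ∀ C ∈ irreducibleComponents (Y : Type u), topologicalKrullDim C = 1)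

include h₀ hE hJ hJf hN hNf e hYpure in
theorem exists_bound (hY : IsPullback i₁ (Y ↘ Spec (CommRingCat.of Ω)) f t) (hr : 0 < r)
    (h : TFOne.IsSemistable Y Ω (Y ↘ Spec (CommRingCat.of Ω)) ((Scheme.Modules.pullback i₁).obj J)
      ((Scheme.Modules.pullback i₁).obj E) r)
    (hJ0 : phi κ ((Scheme.Modules.pullback i).obj E) r ((Scheme.Modules.pullback i).obj J) = 0) :
    0 ≤ phi κ ((Scheme.Modules.pullback i).obj E) r G ∧
    (phi κ ((Scheme.Modules.pullback i).obj E) r G = 0 →
      ∃ (P : Set (Gen Y)) (π₁ : (Scheme.Modules.pullback i₁).obj J ⟶ (Scheme.Modules.pullback i₁).obj N),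
        π₁ = (Scheme.Modules.pullback i₁).map φ ∧ IsQ _ P _ π₁ ∧
          bPat Ω ((Scheme.Modules.pullback i₁).obj E) r ((Scheme.Modules.pullback i₁).obj J) P = 0) := by
  haveI : IsProper (Y ↘ Spec (CommRingCat.of Ω)) := MorphismProperty.of_isPullback hY inferInstance
  have hXY := isCurve Ω hYpure
  haveI := hXY.noeth
  have hE' := LocFree.isFinLocFreeOfRank_pullback i₁ hE
  obtain ⟨hM, hb⟩ := (isSemistable_iff hYpure hE').1 h
  haveI : ((Scheme.Modules.pullback i₁)).IsLeftAdjoint :=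
    (Scheme.Modules.pullbackPushforwardAdjunction i₁).isLeftAdjoint
  haveI := hN.1
  have hNY : Coh.IsCoh ((Scheme.Modules.pullback i₁).obj N) :=
    ⟨QCohMod.isQCoh_pullback_obj i₁ N, QCohMod.isFT_pullback i₁ N hN.2⟩
  obtain ⟨P, G₁, π₁, g, hQ, hg, hle, heq⟩ :=
    exists_pattern_le (k := Ω) hXY hE' hr hM hNY ((Scheme.Modules.pullback i₁).map φ)
  have hN' : phi Ω ((Scheme.Modules.pullback i₁).obj E) r ((Scheme.Modules.pullback i₁).obj N) =
      phi κ ((Scheme.Modules.pullback i).obj E) r G := by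
    rw [phi_field_points hY h₀ hE hN hNf, phi_congr κ e]
  have hpos : 0 ≤ bPat Ω ((Scheme.Modules.pullback i₁).obj E) r ((Scheme.Modules.pullback i₁).obj J) P := by
    by_cases hP : P.Nonempty
    · by_cases hu : P = Set.univ
      · rw [hu, bPat_univ hXY hM, phi_field_points hY h₀ hE hJ hJf, hJ0]
      · exact hb P hP hu
    · rw [Set.not_nonempty_iff_eq_empty.1 hP, bPat_empty hXY hE' hM]
  refine ⟨(hpos.trans hle).trans hN'.le, fun hG0 => ?_⟩
  have h0 := le_antisymm (hle.trans (hN'.trans hG0).le) hpos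
  haveI := heq (h0.trans (hN'.trans hG0).symm)
  refine ⟨P, _, rfl, ⟨inferInstance, hNY, isTorsionFree_of_iso (asIso g).symm hQ.tf, fun η => ?_⟩, h0⟩
  rw [← hQ.supp η, QCohMod.support_eq_of_iso (asIso g)]

include hsq h₀ hE hJ hJf hN hNf he hYpure in
theorem not_quasistable (hY : IsPullback i₁ (Y ↘ Spec (CommRingCat.of Ω)) f t)
    (ht : t (IsLocalRing.closedPoint Ω) = genPoint R) (hr : 0 < r) {s₀ : Xs}
    (hs₀ : s₀ ∉ CohB1.support (kernel π)) (hπ : ¬ IsIso π) {y : Y} (hy : i₁ y ⤳ i s₀)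
    (hG0 : phi κ ((Scheme.Modules.pullback i).obj E) r G = 0)
    (hJ0 : phi κ ((Scheme.Modules.pullback i).obj E) r ((Scheme.Modules.pullback i).obj J) = 0) :
    ¬ TFOne.IsQuasistableAtPt Y Ω (Y ↘ Spec (CommRingCat.of Ω)) ((Scheme.Modules.pullback i₁).obj J)
      ((Scheme.Modules.pullback i₁).obj E) r y := by
  intro h
  haveI : IsProper (Y ↘ Spec (CommRingCat.of Ω)) := MorphismProperty.of_isPullback hY inferInstance
  have hXY := isCurve Ω hYpure
  haveI := hXY.noeth
  obtain ⟨hss, hpos⟩ := (isQuasistableAtPt_iff hYpure (LocFree.isFinLocFreeOfRank_pullback i₁ hE) y).1 h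
  obtain ⟨P, π₁, rfl, hQ, h0⟩ := (exists_bound hJ hJf hN hNf φ e h₀ hE hYpure hY hr hss hJ0).2 hG0
  have hyJ : y ∈ CohB1.support ((Scheme.Modules.pullback i₁).obj J) :=
    ((isQ_univ hXY hss.1).mem_supp_iff hXY y).2
      ((exists_gen_specializes y).elim fun η hη => ⟨η, trivial, hη⟩)
  have hyN := (hQ.mem_supp_iff hXY y).1
    (mem_support_generic hsq hJ hJf hN hNf φ π e he hY hs₀ hy hyJ)
  by_cases hu : P = Set.univ
  · refine hπ (isIso_of_generic hJ hJf hN φ π e he hY ht ?_)
    subst hu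
    obtain ⟨a, ha⟩ := (isQ_univ hXY hss.1).iso hXY hss.1 hQ
    rw [← ha, Category.id_comp]
    infer_instance
  · exact (hpos P hyN hu).ne' h0

omit [IsReduced Y] in
include hsq hJ hJf hN hNf he in
theorem isZero_or_isZero_of_simple (hY : IsPullback i₁ (Y ↘ Spec (CommRingCat.of Ω)) f t)
    (ht : t (IsLocalRing.closedPoint Ω) = genPoint R) {N' : X.Modules} (hN' : Coh.IsCoh N')
    (hNf' : FlatMod.IsFlatOver f N') (φ' : J ⟶ N') [Epi φ'] {G' : Xs.Modules}
    (π' : (Scheme.Modules.pullback i).obj J ⟶ G') (e' : (Scheme.Modules.pullback i).obj N' ≅ G')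
    (he' : (Scheme.Modules.pullback i).map φ' ≫ e'.hom = π') (hiso : IsIso (biprod.lift π π'))
    (hs : TFOne.IsSimple Y Ω (Y ↘ Spec (CommRingCat.of Ω)) ((Scheme.Modules.pullback i₁).obj J)) :
    IsZero G ∨ IsZero G' := by
  letI : X.Over (Spec (CommRingCat.of R)) := ⟨f⟩
  haveI := isNoetherian_of_isProper f
  obtain ⟨ϖ, hϖ⟩ := IsDiscreteValuationRing.exists_irreducible R
  haveI := hN.1
  haveI := hN'.1
  haveI := hJ.1
  let Pl := Scheme.Modules.pullback i
  haveI : Pl.IsLeftAdjoint := (Scheme.Modules.pullbackPushforwardAdjunction i).isLeftAdjoint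
  haveI : Pl.Additive := inferInstance
  let l : J ⟶ N ⊞ N' := biprod.lift φ φ'
  have hbp : Coh.IsCoh (N ⊞ N') := QCohMod.isCoh_biprod hN hN'
  haveI := hbp.1
  haveI : IsIso (Pl.map l) := by
    let a : Pl.obj (N ⊞ N') ⟶ G ⊞ G' :=
      biprod.lift (Pl.map biprod.fst ≫ e.hom) (Pl.map biprod.snd ≫ e'.hom)
    haveI : IsIso a := by
      refine ⟨biprod.desc (e.inv ≫ Pl.map biprod.inl) (e'.inv ≫ Pl.map biprod.inr), ?_, ?_⟩
      · simp only [a, biprod.lift_desc, Category.assoc, Iso.hom_inv_id_assoc, ← Functor.map_comp,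
          ← Functor.map_add, biprod.total, CategoryTheory.Functor.map_id]
      · apply biprod.hom_ext' <;> apply biprod.hom_ext <;>
          simp [a, ← Functor.map_comp_assoc]
    have hla : Pl.map l ≫ a = biprod.lift π π' := by
      apply biprod.hom_ext <;> simp [a, l, ← Functor.map_comp_assoc, ← he, ← he', Pl]
    haveI : IsIso (Pl.map l ≫ a) := hla.symm ▸ hiso
    exact IsIso.of_isIso_comp_right (Pl.map l) a
  haveI : Epi l := by
    refine Preadditive.epi_of_isZero_cokernel l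
      (isZero_of_isZero_special hsq (QCohMod.isCoh_cokernel l hbp) ?_)
    rw [IsZero.iff_id_eq_zero, ← cancel_epi (Pl.map (cokernel.π l)), ← cancel_epi (Pl.map l),
      ← Category.assoc, ← Pl.map_comp, cokernel.condition]
    simp [Pl]
  haveI : Mono l := by
    refine Preadditive.mono_of_isZero_kernel l
      (isZero_of_isZero_special hsq (QCohMod.isCoh_kernel l hJ) ?_)
    haveI : Mono (Formal.smulMod R (N ⊞ N') ϖ) := by
      haveI := mono_smul_of_flat f hNf hϖ.ne_zero
      haveI := mono_smul_of_flat f hNf' hϖ.ne_zero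
      refine Preadditive.mono_of_cancel_zero _ fun {W} g hg => ?_
      apply biprod.hom_ext
      · rw [zero_comp, ← cancel_mono (Formal.smulMod R N ϖ), Category.assoc, CohC3.smulMod_naturality,
          ← Category.assoc, hg, zero_comp, zero_comp]
      · rw [zero_comp, ← cancel_mono (Formal.smulMod R N' ϖ), Category.assoc, CohC3.smulMod_naturality,
          ← Category.assoc, hg, zero_comp, zero_comp]
    haveI := (QCohMod.isCoh_kernel l hJ).1
    haveI := mono_special hsq hϖ (kernel.ι l) l (kernel.condition l)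
      (ShortComplex.exact_of_f_is_kernel _ (kernelIsKernel l)) inferInstance
    rw [IsZero.iff_id_eq_zero, ← cancel_mono (Pl.map (kernel.ι l)), zero_comp, Category.id_comp,
      ← cancel_mono (Pl.map l), ← Pl.map_comp, kernel.condition, Pl.map_zero, zero_comp]
  haveI : IsIso l := isIso_of_mono_of_epi l
  let ε : J ⟶ J := l ≫ biprod.fst ≫ biprod.inl ≫ inv l
  have hε : ε ≫ φ = φ := by
    have : inv l ≫ φ = biprod.fst := by rw [IsIso.inv_comp_eq]; simp [l]
    show (l ≫ biprod.fst ≫ biprod.inl ≫ inv l) ≫ φ = φ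
    simp only [Category.assoc, this, biprod.inl_fst, Category.comp_id]
    exact biprod.lift_fst φ φ'
  have hε' : ε ≫ φ' = 0 := by
    have : inv l ≫ φ' = biprod.snd := by rw [IsIso.inv_comp_eq]; simp [l]
    show (l ≫ biprod.fst ≫ biprod.inl ≫ inv l) ≫ φ' = 0
    simp only [Category.assoc, this, biprod.inl_snd, comp_zero]
  let Pl₁ := Scheme.Modules.pullback i₁
  haveI : Pl₁.IsLeftAdjoint := (Scheme.Modules.pullbackPushforwardAdjunction i₁).isLeftAdjoint
  obtain ⟨c, hc⟩ := hs.2 (Pl₁.map ε)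
  rw [← KLin.smul_id] at hc
  have h1 : c • Pl₁.map φ = Pl₁.map φ := by
    have := congrArg (· ≫ Pl₁.map φ) hc
    simp only [← Pl₁.map_comp, hε] at this
    exact (this.trans ((smul_comp' c _ _).trans (congrArg (c • ·) (Category.id_comp _)))).symm
  have h2 : c • Pl₁.map φ' = 0 := by
    have := congrArg (· ≫ Pl₁.map φ') hc
    simp only [← Pl₁.map_comp, hε', Pl₁.map_zero] at this
    exact (this.trans ((smul_comp' c _ _).trans (congrArg (c • ·) (Category.id_comp _)))).symm
  have zero_of : ∀ {N₀ : X.Modules} (ψ : J ⟶ N₀) [Epi ψ], Coh.IsCoh N₀ → FlatMod.IsFlatOver f N₀ →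
      Pl₁.map ψ = 0 → IsZero N₀ := fun ψ _ hc₀ hf₀ h0 =>
    isZero_of_isZero_generic hY ht hc₀ hf₀ (by
      rw [IsZero.iff_id_eq_zero, ← cancel_epi (Pl₁.map ψ), h0, zero_comp, zero_comp])
  by_cases hc0 : c = 0
  · left
    rw [hc0] at h1
    exact (Pl.map_isZero (zero_of φ hN hNf (h1.symm.trans (zero_smul Ω _)))).of_iso e.symm
  · right
    have : Pl₁.map φ' = 0 := by
      rw [← one_smul Ω (Pl₁.map φ'), ← inv_mul_cancel₀ hc0, mul_smul, h2, smul_zero]
    exact (Pl.map_isZero (zero_of φ' hN' hNf' this)).of_iso e'.symm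

end Groth.TFOneAux
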