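import Groth.Agent.TFOne.Modif
import Groth.Agent.CohTwo.AdicUnit
import Groth.Agent.QCohMod.Pullback
import Groth.Prelude.Def_FlatMod2
import Mathlib.RingTheory.Flat.TorsionFree
import Mathlib.RingTheory.DiscreteValuationRing.Basic

/-!
# The elementary modification in a flat family over a discrete valuation ring
-/

set_option autoImplicit false
set_option linter.style.haveILetI false
set_option backward.isDefEq.respectTransparency.types false

universe u

open CategoryTheory CategoryTheory.Limits AlgebraicGeometry Opposite TopologicalSpace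

noncomputable section

namespace Groth.TFOneAux

open Duality.StalkHom (stalkMapₗ_comp_apply stalkMapₗ_zero)

variable {R : Type u} [CommRing R] [IsDomain R] [IsDiscreteValuationRing R] {X : Scheme.{u}}
  (f : X ⟶ Spec (CommRingCat.of R)) {Xs : Scheme.{u}}
  (qs : Xs ⟶ Spec (CommRingCat.of (IsLocalRing.ResidueField R))) (i : Xs ⟶ X)

theorem stalk_smulMod {A : Type u} [CommRing A] [X.Over (Spec (CommRingCat.of A))] (M : X.Modules)
    (a : A) (x : X) (v : M.presheaf.stalk x) :
    RefHull.stalkMapₗ (Formal.smulMod A M a) x v =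
      X.presheaf.germ ⊤ x trivial (Coh.toGlobal (X ↘ Spec (CommRingCat.of A)) a) • v := by
  obtain ⟨U, hU, m, rfl⟩ := QCohMod.exists_germ M _ v
  rw [RefHull.stalkMapₗ_germ]
  refine (QCohMod.germ_smul M x hU _ m).trans ?_
  refine congrArg (· • QCohMod.germ M x hU m) ?_
  exact TopCat.Presheaf.germ_res_apply X.presheaf (homOfLE le_top) _ hU _

/-- On a flat module a nonzero element of the base is regular. -/
theorem mono_smul_of_flat {I : X.Modules} (hI : FlatMod.IsFlatOver f I) {a : R} (ha : a ≠ 0) :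
    letI : X.Over (Spec (CommRingCat.of R)) := ⟨f⟩
    Mono (Formal.smulMod R I a) := by
  letI : X.Over (Spec (CommRingCat.of R)) := ⟨f⟩
  refine (QCohMod.mono_iff_stalk _).2 fun x => ?_
  show Function.Injective (RefHull.stalkMapₗ (Formal.smulMod R I a) x)
  intro v w hvw
  letI := FlatMod.moduleStalkOver f I x
  haveI : Module.Flat ((Spec (CommRingCat.of R)).presheaf.stalk (f.base x)) (I.presheaf.stalk x) := hI x
  let c := (Spec (CommRingCat.of R)).presheaf.germ ⊤ (f.base x) trivial
    ((Scheme.ΓSpecIso (CommRingCat.of R)).inv a)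
  have hc : c ∈ nonZeroDivisors ((Spec (CommRingCat.of R)).presheaf.stalk (f.base x)) := by
    haveI : IsDomain ((Spec (CommRingCat.of R)).presheaf.stalk (f.base x)) :=
      inferInstance
    refine mem_nonZeroDivisors_of_ne_zero fun h0 => ha ?_
    have h1 := germ_injective_of_isIntegral (Spec (CommRingCat.of R)) (f.base x)
      (U := ⊤) trivial (h0.trans (map_zero _).symm)
    have h2 := congrArg (Scheme.ΓSpecIso (CommRingCat.of R)).hom h1
    rwa [map_zero, Iso.inv_hom_id_apply] at h2
  refine Module.Flat.isSMulRegular_of_nonZeroDivisors (M := I.presheaf.stalk x) hc ?_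
  have key : (f.stalkMap x).hom c =
      X.presheaf.germ ⊤ x trivial (Coh.toGlobal (X ↘ Spec (CommRingCat.of R)) a) :=
    Scheme.Hom.germ_stalkMap_apply f ⊤ x trivial _
  show (f.stalkMap x).hom c • v = (f.stalkMap x).hom c • w
  rw [key, ← stalk_smulMod, ← stalk_smulMod]
  exact hvw

variable {f qs i}

theorem toGlobal_residue {a : R} (hsq : i ≫ f = qs ≫ Spec.map (CommRingCat.ofHom (IsLocalRing.residue R)))
    (ha : a ∈ IsLocalRing.maximalIdeal R) : Coh.toGlobal (i ≫ f) a = 0 :=
  CohTwo.toGlobal_eq_zero_of_factor (K := IsLocalRing.maximalIdeal R) (f := qs) hsq.symm ha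

theorem ker_le (h : IsPullback i qs f (Spec.map (CommRingCat.ofHom (IsLocalRing.residue R))))
    (V : X.affineOpens) :
    letI : X.Over (Spec (CommRingCat.of R)) := ⟨f⟩
    i.ker.ideal V ≤ (IsLocalRing.maximalIdeal R).map (CohC3.baseApp X V.1) := by
  letI : X.Over (Spec (CommRingCat.of R)) := ⟨f⟩
  let φ := CommRingCat.ofHom (IsLocalRing.residue R)
  haveI : IsClosedImmersion (Spec.map φ) :=
    IsClosedImmersion.spec_of_surjective φ IsLocalRing.residue_surjective
  rw [AdicLinTop.Thickenings.ker_eq_comap_of_isPullback h,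
    Divisors.ideal_comap_affine _ f ⟨⊤, isAffineOpen_top _⟩ V le_top]
  refine Ideal.map_le_iff_le_comap.2 fun x hx => ?_
  rw [Scheme.Hom.ker_apply, RingHom.mem_ker] at hx
  obtain ⟨a, rfl⟩ : ∃ a, (Scheme.ΓSpecIso (CommRingCat.of R)).inv a = x :=
    ⟨_, Iso.hom_inv_id_apply _ x⟩
  have ha : a ∈ IsLocalRing.maximalIdeal R := by
    have h1 : (Spec.map φ).appTop ((Scheme.ΓSpecIso (CommRingCat.of R)).inv a) =
        (Scheme.ΓSpecIso (CommRingCat.of (IsLocalRing.ResidueField R))).inv (φ a) :=
      (congr(($(Scheme.ΓSpecIso_inv_naturality φ)) a)).symm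
    have h2 := congrArg (Scheme.ΓSpecIso (CommRingCat.of (IsLocalRing.ResidueField R))).hom
      (h1.symm.trans hx)
    exact (IsLocalRing.residue_eq_zero_iff a).1
      ((Iso.inv_hom_id_apply (Scheme.ΓSpecIso (CommRingCat.of (IsLocalRing.ResidueField R))) _).symm.trans
        (h2.trans (map_zero _)))
  rw [Ideal.mem_comap]
  exact Ideal.mem_map_of_mem (CohC3.baseApp X V.1) ha

/-- Reduction modulo the uniformizer. -/
theorem unit_exact (h : IsPullback i qs f (Spec.map (CommRingCat.ofHom (IsLocalRing.residue R))))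
    (N : X.Modules) [N.IsQuasicoherent] {ϖ : R} (hϖ : IsLocalRing.maximalIdeal R = Ideal.span {ϖ}) :
    letI : X.Over (Spec (CommRingCat.of R)) := ⟨f⟩
    Epi ((Scheme.Modules.pullbackPushforwardAdjunction i).unit.app N) ∧
      ∃ w : Formal.smulMod R N ϖ ≫ (Scheme.Modules.pullbackPushforwardAdjunction i).unit.app N = 0,
        (ShortComplex.mk _ _ w).Exact := by
  letI : X.Over (Spec (CommRingCat.of R)) := ⟨f⟩
  letI : Xs.Over (Spec (CommRingCat.of R)) := ⟨i ≫ f⟩
  haveI : IsClosedImmersion i :=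
    haveI : IsClosedImmersion (Spec.map (CommRingCat.ofHom (IsLocalRing.residue R))) :=
      IsClosedImmersion.spec_of_surjective _ IsLocalRing.residue_surjective
    MorphismProperty.of_isPullback h.flip inferInstance
  have hq := CohTwo.isQuot_unit (K := IsLocalRing.maximalIdeal R) i rfl
    (fun a ha => toGlobal_residue h.w ha) (ker_le h) N
  haveI := hq.epi
  have w := (CohC3.mem_annHom _ ϖ).1 (hq.le_ann (hϖ ▸ Ideal.mem_span_singleton_self ϖ))
  have hann : IsLocalRing.maximalIdeal R ≤ CohC3.annHom (cokernel.π (Formal.smulMod R N ϖ)) := by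
    rw [hϖ, Ideal.span_le, Set.singleton_subset_iff]
    exact cokernel.condition _
  obtain ⟨ψ, hψ⟩ := hq.desc _ hann
  refine ⟨inferInstance, w, ShortComplex.exact_of_g_is_cokernel _
    (CokernelCofork.IsColimit.ofπ _ _ (fun g hg => ψ ≫ cokernel.desc _ g hg)
      (fun g hg => by rw [← Category.assoc, hψ, cokernel.π_desc])
      (fun g hg m hm => ?_))⟩
  rw [← cancel_epi ((Scheme.Modules.pullbackPushforwardAdjunction i).unit.app N), hm,
    ← Category.assoc, hψ, cokernel.π_desc]

/-- The restriction of the kernel of `I ⟶ i_* GY` is a modification of `i^* I`, compatibly with the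
division by the uniformizer. -/
theorem exists_modif_eq [IsNoetherian X]
    (h : IsPullback i qs f (Spec.map (CommRingCat.ofHom (IsLocalRing.residue R))))
    {I : X.Modules} (hIc : Coh.IsCoh I) (hIf : FlatMod.IsFlatOver f I) {GY : Xs.Modules}
    (πY : (Scheme.Modules.pullback i).obj I ⟶ GY) [Epi πY] (hGY : Coh.IsCoh GY) {ϖ : R}
    (hϖirr : Irreducible ϖ) :
    letI : X.Over (Spec (CommRingCat.of R)) := ⟨f⟩
    ∃ (S : Modif ((Scheme.Modules.pullback i).obj I) πY ((Scheme.Modules.pullback i).obj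
      (kernel ((Scheme.Modules.pullbackPushforwardAdjunction i).unit.app I ≫
        (Scheme.Modules.pushforward i).map πY))))
      (u : I ⟶ kernel ((Scheme.Modules.pullbackPushforwardAdjunction i).unit.app I ≫
        (Scheme.Modules.pushforward i).map πY)),
      u ≫ kernel.ι _ = Formal.smulMod R I ϖ ∧
      ((Scheme.Modules.pullbackPushforwardAdjunction i).unit.app I ≫
        (Scheme.Modules.pushforward i).map πY) ≫ (Scheme.Modules.pushforward i).map S.a =
        u ≫ (Scheme.Modules.pullbackPushforwardAdjunction i).unit.app _ := by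
  letI : X.Over (Spec (CommRingCat.of R)) := ⟨f⟩
  letI : Xs.Over (Spec (CommRingCat.of R)) := ⟨i ≫ f⟩
  haveI : IsClosedImmersion i :=
    haveI : IsClosedImmersion (Spec.map (CommRingCat.ofHom (IsLocalRing.residue R))) :=
      IsClosedImmersion.spec_of_surjective _ IsLocalRing.residue_surjective
    MorphismProperty.of_isPullback h.flip inferInstance
  haveI := (Misc7.ClosedImm.fullyFaithfulPush i).faithful
  haveI := (Misc7.ClosedImm.fullyFaithfulPush i).full
  have hϖ := hϖirr.maximalIdeal_eq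
  let P := Scheme.Modules.pushforward i
  let Pl := Scheme.Modules.pullback i
  let η := (Scheme.Modules.pullbackPushforwardAdjunction i).unit
  haveI := hIc.1
  haveI := hGY.1
  haveI : (P.obj GY).IsQuasicoherent := (CohTwo.isCoh_push i hGY).1
  let g : I ⟶ P.obj GY := η.app I ≫ P.map πY
  let j := kernel.ι g
  have hIY : Coh.IsCoh (kernel g) := QCohMod.isCoh_kernel g hIc
  haveI := hIY.1
  have hM' : Coh.IsCoh (Pl.obj (kernel g)) :=
    ⟨QCohMod.isQCoh_pullback_obj i (kernel g), QCohMod.isFT_pullback i (kernel g) hIY.2⟩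
  obtain ⟨hqe, wq, hqex⟩ := unit_exact h (kernel g) hϖ
  obtain ⟨hpe, wp, hpex⟩ := unit_exact h I hϖ
  haveI := hqe
  haveI := hpe
  haveI := mono_smul_of_flat f hIf hϖirr.ne_zero
  -- division by the uniformizer
  let u : I ⟶ kernel g := kernel.lift g (Formal.smulMod R I ϖ)
    (by rw [← Category.assoc, wp, zero_comp])
  have hu : u ≫ j = Formal.smulMod R I ϖ := kernel.lift_ι _ _ _
  have hju : j ≫ u = Formal.smulMod R (kernel g) ϖ := by
    rw [← cancel_mono j, Category.assoc, hu, CohC3.smulMod_naturality]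
  have hπ : ∀ x, Function.Surjective (RefHull.stalkMapₗ (P.map πY) x) := by
    intro x v
    by_cases hx : x ∈ Set.range i
    · obtain ⟨z, rfl⟩ := hx
      obtain ⟨m, hm⟩ := surjective_stalkMap πY z (CohTwo.pushStalk i GY z v)
      obtain ⟨m', rfl⟩ := (CohTwo.bijective_pushStalk i (Pl.obj I) z).2 m
      refine ⟨m', (CohTwo.bijective_pushStalk i GY z).1 ?_⟩
      rw [← hm]
      obtain ⟨U, hU, s, rfl⟩ := QCohMod.exists_germ (P.obj (Pl.obj I)) (i z) m'
      rw [RefHull.stalkMapₗ_germ]
      refine (CohTwo.pushStalk_germ i _ z hU _).trans ?_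
      refine Eq.trans ?_ (congrArg (RefHull.stalkMapₗ πY z) (CohTwo.pushStalk_germ i _ z hU s)).symm
      exact (RefHull.stalkMapₗ_germ πY z _ _).symm
    · exact ⟨0, by rw [(Misc7.ClosedImm.killed_push i GY).outside x hx v, map_zero]⟩
  haveI : Epi (P.map πY) := (QCohMod.epi_iff_stalk _).2 hπ
  haveI : Epi g := epi_comp _ _
  have hkill : j ≫ u ≫ η.app (kernel g) = 0 := by rw [← Category.assoc, hju, wq]
  let a' : P.obj GY ⟶ P.obj (Pl.obj (kernel g)) :=
    (Abelian.epiIsCokernelOfKernel _ (kernelIsKernel g)).desc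
      (CokernelCofork.ofπ (u ≫ η.app (kernel g)) hkill)
  have ha' : g ≫ a' = u ≫ η.app (kernel g) :=
    (Abelian.epiIsCokernelOfKernel _ (kernelIsKernel g)).fac
      (CokernelCofork.ofπ (u ≫ η.app (kernel g)) hkill) WalkingParallelPair.one
  let a : GY ⟶ Pl.obj (kernel g) := P.preimage a'
  have ha : P.map a = a' := P.map_preimage a'
  have hb0 : Pl.map j ≫ πY = 0 := by
    apply P.map_injective
    rw [Functor.map_zero, Functor.map_comp, ← cancel_epi (η.app (kernel g)), comp_zero,
      ← Category.assoc]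
    show (η.app (kernel g) ≫ (Pl ⋙ P).map j) ≫ P.map πY = 0
    rw [← η.naturality j, Category.assoc]
    exact kernel.condition g
  let b : Pl.obj (kernel g) ⟶ kernel πY := kernel.lift πY (Pl.map j) hb0
  have hb : b ≫ kernel.ι πY = Pl.map j := kernel.lift_ι _ _ _
  have hqj : η.app (kernel g) ≫ P.map (Pl.map j) = j ≫ η.app I := (η.naturality j).symm
  have w : a ≫ b = 0 := by
    rw [← cancel_mono (kernel.ι πY), Category.assoc, hb, zero_comp]
    apply P.map_injective
    rw [Functor.map_comp, ha, Functor.map_zero, ← cancel_epi g, ← Category.assoc, ha', Category.assoc,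
      hqj, ← Category.assoc, hu, wp, comp_zero]
  -- transport between the stalks at `i z` and `z`
  have push_nat : ∀ {A B : Xs.Modules} (φ : A ⟶ B) (z : Xs) (t : (P.obj A).presheaf.stalk (i z)),
      CohTwo.pushStalk i B z (RefHull.stalkMapₗ (P.map φ) (i z) t) =
        RefHull.stalkMapₗ φ z (CohTwo.pushStalk i A z t) := by
    intro A B φ z t
    obtain ⟨U, hU, s, rfl⟩ := QCohMod.exists_germ (P.obj A) (i z) t
    rw [RefHull.stalkMapₗ_germ]
    refine (CohTwo.pushStalk_germ i _ z hU _).trans ?_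
    refine Eq.trans ?_ (congrArg (RefHull.stalkMapₗ φ z) (CohTwo.pushStalk_germ i _ z hU s)).symm
    exact (RefHull.stalkMapₗ_germ φ z _ _).symm
  have hmono : Mono a := by
    refine (QCohMod.mono_iff_stalk a).2 fun z => ?_
    show Function.Injective (RefHull.stalkMapₗ a z)
    intro v v' hvv
    suffices key : ∀ v, RefHull.stalkMapₗ a z v = 0 → v = 0 from
      sub_eq_zero.1 (key _ (by rw [map_sub]; exact sub_eq_zero.2 hvv))
    intro v hv
    obtain ⟨v, rfl⟩ := (CohTwo.bijective_pushStalk i GY z).2 v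
    obtain ⟨m, rfl⟩ := surjective_stalkMap g (i z) v
    rw [← push_nat, ha] at hv
    have h0 : RefHull.stalkMapₗ a' (i z) (RefHull.stalkMapₗ g (i z) m) = 0 :=
      (CohTwo.bijective_pushStalk i _ z).1 (hv.trans (map_zero _).symm)
    rw [← stalkMapₗ_comp_apply, ha', stalkMapₗ_comp_apply] at h0
    obtain ⟨n, hn⟩ := exact_stalk _ _ wq hqex (i z) _ h0
    have : RefHull.stalkMapₗ (Formal.smulMod R I ϖ) (i z) (RefHull.stalkMapₗ j (i z) n) =
        RefHull.stalkMapₗ (Formal.smulMod R I ϖ) (i z) m := by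
      rw [← stalkMapₗ_comp_apply, CohC3.smulMod_naturality, stalkMapₗ_comp_apply, hn,
        ← stalkMapₗ_comp_apply, hu]
    rw [← injective_stalkMap _ (i z) this, ← stalkMapₗ_comp_apply, kernel.condition, stalkMapₗ_zero]
    exact map_zero _
  have hexact : (ShortComplex.mk a b w).Exact := by
    rw [QCohMod.exact_iff_stalk]
    intro z
    rw [ShortComplex.ab_exact_iff_function_exact]
    intro v
    refine ⟨fun hv => ?_, ?_⟩
    · change RefHull.stalkMapₗ b z v = 0 at hv
      obtain ⟨v, rfl⟩ := (CohTwo.bijective_pushStalk i _ z).2 v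
      obtain ⟨n, rfl⟩ := surjective_stalkMap (η.app (kernel g)) (i z) v
      have h0 : RefHull.stalkMapₗ (P.map (Pl.map j)) (i z) (RefHull.stalkMapₗ (η.app (kernel g)) (i z) n)
          = 0 := (CohTwo.bijective_pushStalk i _ z).1 (by
        rw [push_nat, map_zero, ← hb, stalkMapₗ_comp_apply, hv, map_zero])
      rw [← stalkMapₗ_comp_apply, hqj, stalkMapₗ_comp_apply] at h0
      obtain ⟨m, hm⟩ := exact_stalk _ _ wp hpex (i z) _ h0
      rw [← hu, stalkMapₗ_comp_apply] at hm
      refine ⟨CohTwo.pushStalk i GY z (RefHull.stalkMapₗ g (i z) m), ?_⟩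
      show RefHull.stalkMapₗ a z _ = _
      rw [← push_nat, ha, ← stalkMapₗ_comp_apply, ha', stalkMapₗ_comp_apply,
        injective_stalkMap j (i z) hm]
    · rintro ⟨v, rfl⟩
      show RefHull.stalkMapₗ b z (RefHull.stalkMapₗ a z v) = 0
      rw [← stalkMapₗ_comp_apply, w, stalkMapₗ_zero]
  have hepi : Epi b := by
    refine (QCohMod.epi_iff_stalk b).2 fun z v => ?_
    obtain ⟨w', hw'⟩ := (CohTwo.bijective_pushStalk i _ z).2 (RefHull.stalkMapₗ (kernel.ι πY) z v)
    obtain ⟨m, rfl⟩ := surjective_stalkMap (η.app I) (i z) w'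
    have h0 : RefHull.stalkMapₗ g (i z) m = 0 := (CohTwo.bijective_pushStalk i _ z).1 (by
      rw [stalkMapₗ_comp_apply, push_nat, hw', ← stalkMapₗ_comp_apply, kernel.condition, stalkMapₗ_zero,
        map_zero])
    obtain ⟨n, rfl⟩ := exact_kernel g (i z) m h0
    refine ⟨CohTwo.pushStalk i _ z (RefHull.stalkMapₗ (η.app (kernel g)) (i z) n),
      injective_stalkMap (kernel.ι πY) z ?_⟩
    show RefHull.stalkMapₗ (kernel.ι πY) z (RefHull.stalkMapₗ b z _) = _
    rw [← stalkMapₗ_comp_apply, hb, ← push_nat, ← stalkMapₗ_comp_apply, hqj, stalkMapₗ_comp_apply]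
    exact hw'
  refine ⟨⟨a, b, w, { exact := hexact, mono_f := hmono, epi_g := hepi }, hM'⟩, u, hu, ?_⟩
  show g ≫ P.map a = u ≫ η.app (kernel g)
  rw [ha]
  exact ha'

/-- The restriction of the kernel of `I ⟶ i_* GY` is a modification of `i^* I`. -/
theorem exists_modif [IsNoetherian X]
    (h : IsPullback i qs f (Spec.map (CommRingCat.ofHom (IsLocalRing.residue R))))
    {I : X.Modules} (hIc : Coh.IsCoh I) (hIf : FlatMod.IsFlatOver f I) {GY : Xs.Modules}
    (πY : (Scheme.Modules.pullback i).obj I ⟶ GY) [Epi πY] (hGY : Coh.IsCoh GY) :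
    Nonempty (Modif ((Scheme.Modules.pullback i).obj I) πY ((Scheme.Modules.pullback i).obj
      (kernel ((Scheme.Modules.pullbackPushforwardAdjunction i).unit.app I ≫
        (Scheme.Modules.pushforward i).map πY)))) := by
  obtain ⟨ϖ, hϖ⟩ := IsDiscreteValuationRing.exists_irreducible R
  obtain ⟨S, -⟩ := exists_modif_eq h hIc hIf πY hGY hϖ
  exact ⟨S⟩

end Groth.TFOneAux
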