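import Groth.Agent.TFOne.SpecialMono
import Groth.Agent.S9777
import Groth.Agent.S0403
import Groth.Agent.S4969
import Groth.Agent.FBaseGeom.AssTensor
import Groth.Agent.QCohMod.QCQS
import Groth.Agent.KTheory.OpenLocalization

/-!
# The geometric fibres of a family of curves with reduced special fibre are reduced curves
-/

set_option autoImplicit false
set_option linter.style.haveILetI false
set_option backward.isDefEq.respectTransparency.types false

universe u

open CategoryTheory CategoryTheory.Limits AlgebraicGeometry Opposite TopologicalSpace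

noncomputable section

namespace Groth.TFOneAux

variable {R : Type u} [CommRing R] [IsDomain R] [IsDiscreteValuationRing R] {X Xs : Scheme.{u}}
  {f : X ⟶ Spec (CommRingCat.of R)} {i : Xs ⟶ X}
  {qs : Xs ⟶ Spec (CommRingCat.of (IsLocalRing.ResidueField R))}

/-- The point of the generic fibre. -/
def genPoint (R : Type u) [CommRing R] [IsDomain R] : PrimeSpectrum R := ⟨⊥, Ideal.isPrime_bot⟩

theorem eq_genPoint_or_closedPoint (y : PrimeSpectrum R) :
    y = genPoint R ∨ y = IsLocalRing.closedPoint R := by
  rcases eq_or_ne y.asIdeal ⊥ with h | h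
  · exact .inl (PrimeSpectrum.ext h)
  · exact .inr (PrimeSpectrum.ext (IsLocalRing.eq_maximalIdeal (y.isPrime.isMaximal h)))

theorem genPoint_ne_closedPoint : genPoint R ≠ IsLocalRing.closedPoint R := fun h =>
  IsDiscreteValuationRing.not_a_field R (congrArg PrimeSpectrum.asIdeal h).symm

theorem isOpen_genPoint : IsOpen ({genPoint R} : Set (PrimeSpectrum R)) := by
  have : ({genPoint R} : Set (PrimeSpectrum R)) = {IsLocalRing.closedPoint R}ᶜ := by
    ext y
    refine ⟨fun h => h ▸ genPoint_ne_closedPoint, fun h => (eq_genPoint_or_closedPoint y).resolve_right h⟩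
  rw [this]
  exact ((PrimeSpectrum.isClosed_singleton_iff_isMaximal _).2
    (IsLocalRing.maximalIdeal.isMaximal R)).isOpen_compl

theorem dim_eq_of_range_eq {S T Z : Type u} [TopologicalSpace S] [TopologicalSpace T] [TopologicalSpace Z]
    (a : S → Z) (b : T → Z) (ha : Topology.IsEmbedding a) (hb : Topology.IsEmbedding b)
    (h : Set.range a = Set.range b) : topologicalKrullDim S = topologicalKrullDim T :=
  ((ha.toHomeomorph.trans (Homeomorph.setCongr h)).trans hb.toHomeomorph.symm).isHomeomorph.topologicalKrullDim_eq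

/-- All fibres have dimension at most one. -/
theorem dim_fibre_le_one [IsProper f]
    (hsq : IsPullback i qs f (Spec.map (CommRingCat.ofHom (IsLocalRing.residue R))))
    (hdim : topologicalKrullDim Xs ≤ 1) (y : PrimeSpectrum R) :
    topologicalKrullDim (f.fiber y) ≤ 1 := by
  haveI : IsClosedImmersion i :=
    haveI : IsClosedImmersion (Spec.map (CommRingCat.ofHom (IsLocalRing.residue R))) :=
      IsClosedImmersion.spec_of_surjective _ IsLocalRing.residue_surjective
    MorphismProperty.of_isPullback hsq.flip inferInstance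
  have hc : topologicalKrullDim (f.fiber (IsLocalRing.closedPoint R)) ≤ 1 := by
    refine le_of_eq_of_le (dim_eq_of_range_eq _ _ (f.fiberι _).isEmbedding i.isEmbedding ?_) hdim
    rw [range_special hsq]
    exact Scheme.Hom.range_fiberι f (IsLocalRing.closedPoint R)
  exact (specializes_closedPoint y).mem_open (Groth.Agent.S0403.result f 1) hc

/-- The generic fibre has no isolated points. -/
theorem not_isOpen_generic [IsProper f] [Flat f]
    (hsq : IsPullback i qs f (Spec.map (CommRingCat.ofHom (IsLocalRing.residue R))))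
    (hX : IsCurve Xs) (hpure : ∀ C ∈ irreducibleComponents (Xs : Type u), topologicalKrullDim C = 1)
    (x : X) (hx : f x = genPoint R) : ¬ IsOpen ({x} : Set X) := by
  intro hxo
  haveI := isNoetherian_of_isProper f
  haveI := hX.noeth
  haveI := hX.red
  letI : X.Over (Spec (CommRingCat.of R)) := ⟨f⟩
  haveI hi : IsClosedImmersion i :=
    haveI : IsClosedImmersion (Spec.map (CommRingCat.ofHom (IsLocalRing.residue R))) :=
      IsClosedImmersion.spec_of_surjective _ IsLocalRing.residue_surjective
    MorphismProperty.of_isPullback hsq.flip inferInstance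
  let κ := CommRingCat.ofHom (algebraMap R (FractionRing R))
  let Xg := pullback f (Spec.map κ)
  let j : Xg ⟶ X := pullback.fst _ _
  let qg : Xg ⟶ Spec (CommRingCat.of (FractionRing R)) := pullback.snd _ _
  haveI : Flat (Spec.map κ) :=
    Flat.SpecMap_iff.2 (RingHom.flat_algebraMap_iff.2 (IsLocalization.flat _ (nonZeroDivisors R)))
  haveI : Flat j := MorphismProperty.pullback_fst _ _ inferInstance
  haveI : IsProper qg := MorphismProperty.pullback_snd _ _ inferInstance
  have hK : Set.range (Spec.map κ) = {genPoint R} := by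
    refine Set.eq_singleton_iff_unique_mem.2 ⟨⟨⟨⊥, Ideal.isPrime_bot⟩, ?_⟩, ?_⟩
    · refine PrimeSpectrum.ext ?_
      show Ideal.comap (algebraMap R (FractionRing R)) ⊥ = ⊥
      exact (RingHom.injective_iff_ker_eq_bot _).1 (IsFractionRing.injective R (FractionRing R))
    · rintro _ ⟨p, rfl⟩
      obtain rfl : p = ⟨⊥, Ideal.isPrime_bot⟩ := Subsingleton.elim _ _
      refine PrimeSpectrum.ext ?_
      show Ideal.comap (algebraMap R (FractionRing R)) ⊥ = ⊥
      exact (RingHom.injective_iff_ker_eq_bot _).1 (IsFractionRing.injective R (FractionRing R))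
  have hj : Set.range j = f ⁻¹' {genPoint R} :=
    (range_fst_of_isPullback (IsPullback.of_hasPullback f (Spec.map κ))).trans (congrArg (f ⁻¹' ·) hK)
  obtain ⟨x', hx'⟩ : x ∈ Set.range j := hj.ge hx
  haveI : IsLocallyNoetherian Xg := LocallyOfFiniteType.isLocallyNoetherian qg
  haveI : CompactSpace Xg := QuasiCompact.compactSpace_of_compactSpace qg
  haveI : IsNoetherian Xg := {}
  haveI : JacobsonSpace Xg := LocallyOfFiniteType.jacobsonSpace qg
  haveI : IsPreimmersion (Spec.map κ) := IsPreimmersion.of_isLocalization (nonZeroDivisors R)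
  haveI : IsPreimmersion j := MorphismProperty.pullback_fst _ _ inferInstance
  have hx'o : IsOpen ({x'} : Set Xg) := by
    have : ({x'} : Set Xg) = j ⁻¹' {x} := by
      ext z
      exact ⟨fun h => h ▸ hx', fun h => j.isEmbedding.injective (h.trans hx'.symm)⟩
    rw [this]
    exact hxo.preimage j.continuous
  have hx'c : IsClosed ({x'} : Set Xg) := isClosed_singleton_of_isLocallyClosed_singleton hx'o.isLocallyClosed
  let W : Xg.Opens := ⟨{x'}ᶜ, hx'c.isOpen_compl⟩
  let ι : (W : Scheme.{u}) ⟶ X := W.ι ≫ j
  haveI : QuasiCompact W.ι := inferInstance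
  let Pl := Scheme.Modules.pullback ι
  let P := Scheme.Modules.pushforward ι
  let adj := Scheme.Modules.pullbackPushforwardAdjunction ι
  let O := Coh.structureModule X
  let η : O ⟶ P.obj (Pl.obj O) := adj.unit.app O
  have hO : Coh.IsCoh O := QCohMod.isCoh_unit
  haveI := hO.1
  haveI : (Pl.obj O).IsQuasicoherent := QCohMod.isQCoh_pullback_obj ι O
  haveI : (P.obj (Pl.obj O)).IsQuasicoherent := QCohMod.isQCoh_pushforward (M := Pl.obj O) ι
  let F := kernel η
  let κF : F ⟶ O := kernel.ι η
  have hF : Coh.IsCoh F := QCohMod.isCoh_kernel η hO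
  haveI := hF.1
  obtain ⟨ϖ, hϖ⟩ := IsDiscreteValuationRing.exists_irreducible R
  -- the uniformizer is invertible on the target
  have hQ : IsIso (Formal.smulMod R (P.obj (Pl.obj O)) ϖ) := by
    letI : (W : Scheme.{u}).Over (Spec (CommRingCat.of R)) := ⟨ι ≫ f⟩
    letI : (W : Scheme.{u}).Over (Spec (CommRingCat.of (FractionRing R))) := ⟨W.ι ≫ qg⟩
    rw [← CohC3.pushforward_map_smulMod (f := ι) rfl]
    have hb : algebraMap R (FractionRing R) ϖ ≠ 0 := by simpa using hϖ.ne_zero
    have e : Formal.smulMod R (Pl.obj O) ϖ =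
        Formal.smulMod (FractionRing R) (Pl.obj O) (algebraMap R (FractionRing R) ϖ) := by
      have : Coh.toGlobal (ι ≫ f) ϖ = Coh.toGlobal (W.ι ≫ qg) (algebraMap R (FractionRing R) ϖ) := by
        rw [show ι ≫ f = (W.ι ≫ qg) ≫ Spec.map κ by simp [ι, j, qg, κ, pullback.condition],
          Abvar.Seesaw.toGlobal_specMap]
        rfl
      show Formal.smulModΓ (Pl.obj O) (Coh.toGlobal (ι ≫ f) ϖ) =
        Formal.smulModΓ (Pl.obj O) (Coh.toGlobal (W.ι ≫ qg) (algebraMap R (FractionRing R) ϖ))
      rw [this]
    haveI : IsIso (Formal.smulMod R (Pl.obj O) ϖ) := by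
      rw [e]
      refine ⟨Formal.smulMod (FractionRing R) (Pl.obj O) (algebraMap R (FractionRing R) ϖ)⁻¹, ?_, ?_⟩
      · rw [← CohC3.smulMod_mul, inv_mul_cancel₀ hb, CohC3.smulMod_one]
      · rw [← CohC3.smulMod_mul, mul_inv_cancel₀ hb, CohC3.smulMod_one]
    infer_instance
  have hFflat : FlatMod.IsFlatOver f F := by
    refine isFlatOver_of_mono_smul f hϖ ?_
    haveI := mono_smul_of_flat f (FBaseGeom.isFlatOver_structureModule (f := f)) hϖ.ne_zero
    have h' : Mono (Formal.smulMod R F ϖ ≫ κF) :=
      CohC3.smulMod_naturality κF ϖ ▸ (mono_comp κF (Formal.smulMod R O ϖ) : Mono (κF ≫ Formal.smulMod R O ϖ))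
    exact @mono_of_mono _ _ _ _ _ (Formal.smulMod R F ϖ) κF h'
  -- the support of `F` over the generic point is `x`
  have hsupp : ∀ u : X, f u = genPoint R → u ∈ CohB1.support F → u = x := by
    intro u hu huF
    by_contra hne
    obtain ⟨u', rfl⟩ : u ∈ Set.range j := hj.ge hu
    have hw : u' ∈ W := fun h => hne (by rw [Set.mem_singleton_iff.1 h, hx'])
    haveI : Flat ι := inferInstanceAs (Flat (W.ι ≫ j))
    haveI := PrinPartsAux.preservesFiniteLimits_pullback ι
    haveI : Mono (Pl.map η) := by
      haveI : Mono (Pl.map η ≫ adj.counit.app (Pl.obj O)) := by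
        rw [show Pl.map η ≫ adj.counit.app (Pl.obj O) = 𝟙 _ from adj.left_triangle_components O]
        infer_instance
      exact mono_of_mono _ (adj.counit.app (Pl.obj O))
    have hz : IsZero (Pl.obj F) := by
      haveI : Mono (Pl.map κF) := inferInstance
      have h0 : Pl.map κF ≫ Pl.map η = 0 := by rw [← Pl.map_comp, kernel.condition, Pl.map_zero]
      rw [IsZero.iff_id_eq_zero, ← cancel_mono (Pl.map κF), zero_comp, Category.id_comp]
      exact zero_of_comp_mono _ h0
    have := (QCohMod.isZero_iff_support_eq_empty _).1 hz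
    rw [QCohMod.support_pullback ι F hF.2] at this
    exact this.le (show (⟨u', hw⟩ : W.1) ∈ ι ⁻¹' CohB1.support F from huF)
  -- `x` lies in the support
  have hxF : x ∈ CohB1.support F := by
    intro hsub
    haveI : Subsingleton (F.presheaf.stalk x) := hsub
    have h0 : ∀ a : O.presheaf.stalk x, RefHull.stalkMapₗ η x a = 0 := by
      intro a
      obtain ⟨V, hxV, s, hs⟩ := QCohMod.exists_germ _ _ (RefHull.stalkMapₗ η x a)
      rw [← hs]
      let V' : X.Opens := V ⊓ ⟨{x}, hxo⟩
      haveI : Subsingleton Γ(P.obj (Pl.obj O), V') := by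
        have he : ι ⁻¹ᵁ V' = ⊥ := by
          refine Opens.ext (Set.eq_empty_of_forall_notMem fun w hw => ?_)
          have h1 : j w.1 = x := hw.2
          exact w.2 (j.isEmbedding.injective (h1.trans hx'.symm))
        show Subsingleton Γ(Pl.obj O, ι ⁻¹ᵁ V')
        rw [he]
        exact QCohMod.subsingleton_bot (Pl.obj O) rfl
      refine ((P.obj (Pl.obj O)).presheaf.germ_res_apply (homOfLE (inf_le_left : V' ≤ V)) x
        ⟨hxV, rfl⟩ s).symm.trans ?_
      rw [Subsingleton.elim ((P.obj (Pl.obj O)).presheaf.map (homOfLE (inf_le_left : V' ≤ V)).op s) 0,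
        map_zero]
    have hbot : ∀ a : O.presheaf.stalk x, a = 0 := fun a => by
      obtain ⟨b, rfl⟩ := exact_kernel η x a (h0 a)
      rw [Subsingleton.elim b 0, map_zero]
    haveI : Subsingleton (O.presheaf.stalk x) := ⟨fun a b => (hbot a).trans (hbot b).symm⟩
    haveI : Subsingleton (X.presheaf.stalk x) := (RefRank.oneEquiv x).toEquiv.subsingleton
    exact false_of_nontrivial_of_subsingleton (X.presheaf.stalk x)
  -- it meets the special fibre only in closed points
  have hspec : ∀ z ∈ genericPoints (Xs : Type u), i z ∉ CohB1.support F := by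
    intro z hz hzF
    have hconst := (Groth.Agent.S4969.result f F (KTheory.OpenLoc.isFP_of_isCoh' hF) hFflat).apply_eq_of_preconnectedSpace
      (IsLocalRing.closedPoint R) (genPoint R)
    let S := fun y : PrimeSpectrum R =>
      {w : ↥(f.fiber y) | Nontrivial (((Scheme.Modules.pullback (f.fiberι y)).obj F).presheaf.stalk w)}
    have hS : ∀ y w, w ∈ S y ↔ f.fiberι y w ∈ CohB1.support F := fun y w => by
      have h1 : w ∈ CohB1.support ((Scheme.Modules.pullback (f.fiberι y)).obj F) ↔
          f.fiberι y w ∈ CohB1.support F := by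
        rw [QCohMod.support_pullback (f.fiberι y) F hF.2]
        rfl
      exact not_subsingleton_iff_nontrivial.symm.trans h1
    have hgen : topologicalKrullDim ↥(S (genPoint R)) ≤ 0 := by
      haveI : Subsingleton ↥(S (genPoint R)) := ⟨fun a b => Subtype.ext
        ((f.fiberι _).isEmbedding.injective (((hsupp _ ?_ ((hS _ _).1 a.2))).trans
          (hsupp _ ?_ ((hS _ _).1 b.2)).symm))⟩
      · haveI : DiscreteTopology ↥(S (genPoint R)) := inferInstance
        exact topologicalKrullDim_zero_of_discreteTopology _
      all_goals exact (Scheme.Hom.range_fiberι f (genPoint R)).le (Set.mem_range_self _)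
    have hC : topologicalKrullDim ↥(closure ({z} : Set Xs)) ≤
        topologicalKrullDim ↥(S (IsLocalRing.closedPoint R)) := by
      let e : Xs → ↥(f.fiber (IsLocalRing.closedPoint R)) := fun w =>
        (f.fiberι _).isEmbedding.toHomeomorph.symm ⟨i w,
          (Scheme.Hom.range_fiberι f _).ge ((range_special hsq).le (Set.mem_range_self w))⟩
      have he : ∀ w, f.fiberι _ (e w) = i w := fun w =>
        congrArg Subtype.val ((f.fiberι _).isEmbedding.toHomeomorph.apply_symm_apply _)
      have hee : Topology.IsEmbedding e :=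
        (f.fiberι _).isEmbedding.toHomeomorph.symm.isEmbedding.comp (i.isEmbedding.codRestrict _ _)
      have hmem : ∀ w ∈ closure ({z} : Set Xs), e w ∈ S (IsLocalRing.closedPoint R) := fun w hw => by
        rw [hS, he]
        have h1 : closure ({z} : Set Xs) ⊆ i ⁻¹' CohB1.support F :=
          closure_minimal (Set.singleton_subset_iff.2 hzF)
            ((CohTwo.isClosed_support F hF).preimage i.continuous)
        exact h1 hw
      exact ((hee.comp Topology.IsEmbedding.subtypeVal).codRestrict (S _) fun w => hmem _ w.2).isInducing.topologicalKrullDim_le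
    rw [hpure (closure ({z} : Set Xs)) hz] at hC
    exact absurd (hC.trans (hconst.le.trans hgen)) (by decide)
  haveI : (P.obj (Pl.obj O)).IsQuasicoherent := inferInstance
  haveI := mono_special hsq hϖ κF η (kernel.condition η)
    (ShortComplex.exact_of_f_is_kernel _ (kernelIsKernel η)) (by haveI := hQ; infer_instance)
  have hFs : IsZero ((Scheme.Modules.pullback i).obj F) := by
    obtain ⟨e⟩ := PicAux.pullback_structure_iso i
    haveI : Mono ((Scheme.Modules.pullback i).map κF ≫ e.hom) := mono_comp _ _
    have hFc : Coh.IsCoh ((Scheme.Modules.pullback i).obj F) :=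
      ⟨QCohMod.isQCoh_pullback_obj i F, QCohMod.isFT_pullback i F hF.2⟩
    haveI := hFc.1
    have hOt : _root_.TorSh.IsTorsionFree (Coh.structureModule Xs) := fun z =>
      Function.Injective.moduleIsTorsionFree (RefRank.oneEquiv z).symm
        (RefRank.oneEquiv z).symm.injective fun r v => (RefRank.oneEquiv z).symm.map_smul r v
    refine (QCohMod.isZero_iff_support_eq_empty _).2 ?_
    rw [support_eq hX hFc (isTorsionFree_of_mono ((Scheme.Modules.pullback i).map κF ≫ e.hom) hOt)]
    simp only [Set.iUnion_eq_empty]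
    intro z hz
    refine absurd ?_ (hspec z hz.1)
    have := hz.2
    rw [QCohMod.support_pullback i F hF.2] at this
    exact this
  exact (QCohMod.isZero_iff_support_eq_empty F).1 (isZero_of_isZero_special hsq hF hFs) |>.le hxF

/-- Geometric fibres have pure dimension one. -/
theorem pure_geometric [IsProper f] [Flat f]
    (hsq : IsPullback i qs f (Spec.map (CommRingCat.ofHom (IsLocalRing.residue R))))
    (hX : IsCurve Xs) (hpure : ∀ C ∈ irreducibleComponents (Xs : Type u), topologicalKrullDim C = 1)
    {Ω : Type u} [Field Ω] {t : Spec (CommRingCat.of Ω) ⟶ Spec (CommRingCat.of R)}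
    {Y : Scheme.{u}} {i₁ : Y ⟶ X} {qY : Y ⟶ Spec (CommRingCat.of Ω)} (hY : IsPullback i₁ qY f t) :
    ∀ C ∈ irreducibleComponents (Y : Type u), topologicalKrullDim C = 1 := by
  haveI : IsClosedImmersion i :=
    haveI : IsClosedImmersion (Spec.map (CommRingCat.ofHom (IsLocalRing.residue R))) :=
      IsClosedImmersion.spec_of_surjective _ IsLocalRing.residue_surjective
    MorphismProperty.of_isPullback hsq.flip inferInstance
  haveI : IsProper qY := MorphismProperty.of_isPullback hY inferInstance
  haveI : IsLocallyNoetherian Y := LocallyOfFiniteType.isLocallyNoetherian qY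
  haveI : CompactSpace Y := QuasiCompact.compactSpace_of_compactSpace qY
  haveI : IsNoetherian Y := {}
  haveI : JacobsonSpace Y := LocallyOfFiniteType.jacobsonSpace qY
  let p₀ : Spec (CommRingCat.of Ω) := IsLocalRing.closedPoint Ω
  have hle : topologicalKrullDim Y ≤ 1 := by
    refine le_of_eq_of_le (dim_eq_of_range_eq _ _ (Topology.IsEmbedding.id (X := Y)) (qY.fiberι p₀).isEmbedding ?_) ?_
    · rw [Set.range_id, Scheme.Hom.range_fiberι]
      exact (Set.eq_univ_of_forall fun z => Subsingleton.elim _ _).symm
    · rw [Groth.Agent.S9777.result f t qY i₁ hY p₀]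
      exact dim_fibre_le_one hsq (dim_le_one hpure) _
  intro C hC
  refine le_antisymm (le_trans (Topology.IsInducing.subtypeVal (t := C)).topologicalKrullDim_le hle) ?_
  obtain ⟨g, hg⟩ := QuasiSober.sober hC.1 (isClosed_of_mem_irreducibleComponents C hC)
  by_cases hsing : C = {g}
  · exfalso
    have hopen : IsOpen ({g} : Set Y) := by
      have : ({g} : Set Y) = (⋃₀ {D | D ∈ irreducibleComponents (Y : Type u) ∧ D ≠ C})ᶜ := by
        ext w
        refine ⟨?_, fun hw => ?_⟩
        · rintro rfl ⟨D, ⟨hD, hne⟩, hgD⟩
          refine hne (hC.eq_of_ge hD.1 ?_)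
          rw [hsing]
          exact Set.singleton_subset_iff.2 hgD
        · obtain ⟨D, hD, hwD⟩ := exists_mem_irreducibleComponents_subset_of_isIrreducible ({w} : Set Y)
            isIrreducible_singleton
          by_contra hne
          refine hw ⟨D, ⟨hD, fun h => hne ?_⟩, hwD rfl⟩
          have := hwD rfl
          rw [h, hsing] at this
          exact this
      rw [this]
      have hfin : {D | D ∈ irreducibleComponents (Y : Type u) ∧ D ≠ C}.Finite :=
        (TopologicalSpace.NoetherianSpace.finite_irreducibleComponents (α := (Y : Type u))).subset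
          fun D hD => hD.1
      rw [Set.sUnion_eq_biUnion]
      exact (hfin.isClosed_biUnion fun D hD => isClosed_of_mem_irreducibleComponents D hD.1).isOpen_compl
    obtain ⟨⟨y, φ⟩, rfl⟩ := (Scheme.SpecToEquivOfField Ω _).symm.surjective t
    have hY' : IsPullback i₁ qY f (Spec.map φ ≫ (Spec (CommRingCat.of R)).fromSpecResidueField y) := hY
    let l : Y ⟶ f.fiber y := pullback.lift i₁ (qY ≫ Spec.map φ) (hY'.w.trans (Category.assoc _ _ _).symm)
    have hl : l ≫ f.fiberι y = i₁ := pullback.lift_fst _ _ _
    have h' : IsPullback l qY (f.fiberToSpecResidueField y) (Spec.map φ) :=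
      IsPullback.of_right (by rw [show l ≫ pullback.fst _ _ = i₁ from hl]; exact hY')
        (pullback.lift_snd _ _ _) (IsPullback.of_hasPullback f _)
    haveI : UniversallyOpen (Spec.map φ) := inferInstance
    haveI : UniversallyOpen l := MorphismProperty.of_isPullback h'.flip inferInstance
    have ho : IsOpen ({l g} : Set (f.fiber y)) := by
      rw [← Set.image_singleton]
      exact l.isOpenMap _ hopen
    have hyf : f (f.fiberι y (l g)) = y :=
      (Scheme.Hom.range_fiberι f y).le (Set.mem_range_self (l g))
    obtain ⟨V, hV, hVe⟩ := (f.fiberι y).isEmbedding.isInducing.isOpen_iff.1 ho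
    rcases eq_genPoint_or_closedPoint y with rfl | rfl
    · refine not_isOpen_generic hsq hX hpure (f.fiberι _ (l g)) hyf ?_
      have he : ({f.fiberι _ (l g)} : Set X) = V ∩ f ⁻¹' {genPoint R} := by
        have hr : f ⁻¹' {genPoint R} = Set.range (f.fiberι (genPoint R)) :=
          (Scheme.Hom.range_fiberι f (genPoint R)).symm
        rw [hr]
        exact (Set.image_singleton.symm.trans (congrArg _ hVe.symm)).trans Set.image_preimage_eq_inter_range
      rw [he]
      exact hV.inter (isOpen_genPoint.preimage f.continuous)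
    · obtain ⟨z, hz⟩ := (range_special hsq).ge hyf
      refine hX.not_open z ?_
      have he : ({z} : Set Xs) = i ⁻¹' V := by
        ext w
        have hwf : f (i w) = IsLocalRing.closedPoint R := (range_special hsq).le (Set.mem_range_self w)
        obtain ⟨v, hv⟩ := (Scheme.Hom.range_fiberι f _).ge hwf
        rw [Set.mem_preimage, ← hv, ← Set.mem_preimage, hVe, Set.mem_singleton_iff, Set.mem_singleton_iff]
        exact ⟨fun h => (f.fiberι _).isEmbedding.injective (hv.trans ((congrArg i h).trans hz)),
          fun h => i.isEmbedding.injective (hv.symm.trans ((congrArg (f.fiberι _) h).trans hz.symm))⟩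
      rw [he]
      exact hV.preimage i.continuous
  · obtain ⟨w, hwC, hwne⟩ : ∃ w ∈ C, w ≠ g := by
      by_contra! h
      exact hsing (Set.eq_singleton_iff_unique_mem.2 ⟨hg.mem, h⟩)
    obtain ⟨c, hcw, hcc⟩ : ∃ c, w ⤳ c ∧ IsClosed ({c} : Set Y) := by
      obtain ⟨c, hc1, hc2⟩ := (nonempty_inter_closedPoints (Set.singleton_nonempty w).closure
        isClosed_closure.isLocallyClosed)
      exact ⟨c, specializes_iff_mem_closure.2 hc1, hc2⟩
    refine Order.one_le_krullDim_iff.2
      ⟨⟨closure {⟨c, (isClosed_of_mem_irreducibleComponents C hC).stableUnderSpecialization hcw hwC⟩},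
          isIrreducible_singleton.closure, isClosed_closure⟩,
        ⟨Set.univ, ?_, isClosed_univ⟩, ?_⟩
    · haveI : IrreducibleSpace C := Subtype.irreducibleSpace hC.1
      exact IrreducibleSpace.isIrreducible_univ _
    · refine lt_of_le_of_ne (fun _ _ => trivial) fun h => hwne ?_
      have h1 : (⟨g, hg.mem⟩ : C) ∈ closure ({⟨c, _⟩} : Set C) :=
        (congrArg (fun s : IrreducibleCloseds C => (s : Set C)) h).ge trivial
      have h2 := (Topology.IsEmbedding.subtypeVal.closure_eq_preimage_closure_image _).le h1
      rw [Set.mem_preimage, Set.image_singleton, hcc.closure_eq] at h2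
      have hgc : g = c := h2
      exact ((hgc ▸ hcw : w ⤳ g).antisymm (hg.specializes hwC)).eq

end Groth.TFOneAux
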