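import Groth.Agent.TFOne.Modif
import Groth.Agent.CohC3.Smul
import Groth.Agent.TFOne.Beta

/-!
# Invariance of the conditions under isomorphism
-/

set_option autoImplicit false
set_option linter.style.haveILetI false
set_option backward.isDefEq.respectTransparency.types false

universe u

open CategoryTheory CategoryTheory.Limits AlgebraicGeometry TopologicalSpace

noncomputable section

namespace Groth.TFOneAux

variable {X : Scheme.{u}} {M M' E : X.Modules} {k : Type u} [Field k] {q : X ⟶ Spec (CommRingCat.of k)}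
  {r : ℕ}

theorem isTorsionFree_of_iso (e : M ≅ M') (h : _root_.TorSh.IsTorsionFree M) :
    _root_.TorSh.IsTorsionFree M' := fun x => by
  have hinj : Function.Injective (RefHull.stalkMapₗ e.inv x) := injective_stalkMap e.inv x
  haveI := h x
  exact Function.Injective.moduleIsTorsionFree _ hinj fun r v => map_smul (RefHull.stalkMapₗ e.inv x) r v

theorem isTF1_of_iso (e : M ≅ M') (h : TFOne.IsTF1 X M) : TFOne.IsTF1 X M' := by
  refine ⟨QCohMod.isCoh_of_iso e h.1, isTorsionFree_of_iso e h.2.1, fun x hx => ?_⟩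
  obtain ⟨l⟩ := h.2.2 x hx
  exact ⟨(LinearEquiv.ofBijective (RefHull.stalkMapₗ e.inv x)
    ⟨injective_stalkMap e.inv x, surjective_stalkMap e.inv x⟩).trans l⟩

theorem isSimple_of_iso (e : M ≅ M') (h : TFOne.IsSimple X k q M) : TFOne.IsSimple X k q M' := by
  letI : X.Over (Spec (CommRingCat.of k)) := ⟨q⟩
  refine ⟨fun hz => h.1 (hz.of_iso e), fun φ => ?_⟩
  obtain ⟨c, hc⟩ := h.2 (e.hom ≫ φ ≫ e.inv)
  refine ⟨c, ?_⟩
  have h' : e.inv ≫ (e.hom ≫ φ ≫ e.inv) ≫ e.hom = φ := by simp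
  rw [← h', hc, ← Category.assoc, CohC3.smulMod_naturality, Category.assoc, Iso.inv_hom_id, Category.comp_id]

theorem isQuotOn_of_iso (e : M ≅ M') {Z : Set X} {G : X.Modules} {π : M' ⟶ G}
    (h : TFOne.IsQuotOn X M' Z G π) : TFOne.IsQuotOn X M Z G (e.hom ≫ π) :=
  ⟨(haveI := h.1; epi_comp _ _), h.2⟩

theorem isSemistable_of_iso (e : M ≅ M') (h : TFOne.IsSemistable X k q M E r) :
    TFOne.IsSemistable X k q M' E r :=
  ⟨isTF1_of_iso e h.1, fun Z hZ hZs hZu G π hG => h.2 Z hZ hZs hZu G _ (isQuotOn_of_iso e hG)⟩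

theorem isQuasistableAtPt_of_iso {p : X} (e : M ≅ M') (h : TFOne.IsQuasistableAtPt X k q M E r p) :
    TFOne.IsQuasistableAtPt X k q M' E r p :=
  ⟨isSemistable_of_iso e h.1, fun Z hZ hZs hZu hp G π hG => h.2 Z hZ hZs hZu hp G _ (isQuotOn_of_iso e hG)⟩

variable {E' : X.Modules}

theorem rBeta_congr (e : E ≅ E') (Z : Set X) (hZ : IsClosed Z) (G : X.Modules) :
    TFOne.rBeta X k q Z hZ E r G = TFOne.rBeta X k q Z hZ E' r G := by
  letI : (VecSt.subsch X Z hZ).Over (Spec (CommRingCat.of k)) := ⟨VecSt.subschι X Z hZ ≫ q⟩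
  unfold TFOne.rBeta Curv2.deg
  rw [EulerDeg.euler_congr k ((Scheme.Modules.pullback (VecSt.subschι X Z hZ)).mapIso e)]

theorem semistable_congr (e : M ≅ M') (e' : E ≅ E') (h : TFOne.IsSemistable X k q M E r) :
    TFOne.IsSemistable X k q M' E' r :=
  ⟨isTF1_of_iso e h.1, fun Z hZ hZs hZu G π hG =>
    (h.2 Z hZ hZs hZu G _ (isQuotOn_of_iso e hG)).trans_eq (rBeta_congr (k := k) (q := q) e' Z hZ G)⟩

theorem quasistable_congr {p : X} (e : M ≅ M') (e' : E ≅ E')
    (h : TFOne.IsQuasistableAtPt X k q M E r p) : TFOne.IsQuasistableAtPt X k q M' E' r p :=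
  ⟨semistable_congr e e' h.1, fun Z hZ hZs hZu hp G π hG =>
    (h.2 Z hZ hZs hZu hp G _ (isQuotOn_of_iso e hG)).trans_eq (rBeta_congr (k := k) (q := q) e' Z hZ G)⟩

end Groth.TFOneAux
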