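import Groth.Agent.TFOne.BaseChange
import Groth.Agent.TFOne.GenericFibre
import Groth.Agent.TFOne.Iso

/-!
# Conditions on the geometric fibres of a family over a discrete valuation ring
-/

set_option autoImplicit false
set_option linter.style.haveILetI false
set_option backward.isDefEq.respectTransparency.types false

universe u

open CategoryTheory CategoryTheory.Limits AlgebraicGeometry Opposite TopologicalSpace

noncomputable section

namespace Groth.TFOneAux

variable {R : Type u} [CommRing R] [IsDomain R] [IsDiscreteValuationRing R] {X Xs Xg : Scheme.{u}}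
  {f : X ⟶ Spec (CommRingCat.of R)} [Xs.Over (Spec (CommRingCat.of (IsLocalRing.ResidueField R)))]
  {i : Xs ⟶ X} [Xg.Over (Spec (CommRingCat.of (FractionRing R)))] {j : Xg ⟶ X}
  (hsq : IsPullback i (Xs ↘ Spec (CommRingCat.of (IsLocalRing.ResidueField R))) f
    (Spec.map (CommRingCat.ofHom (IsLocalRing.residue R))))
  (hgen : IsPullback j (Xg ↘ Spec (CommRingCat.of (FractionRing R))) f
    (Spec.map (CommRingCat.ofHom (algebraMap R (FractionRing R)))))

/-- The data of a geometric point over the special point. -/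
structure ClosedPt (Ω : Type u) [Field Ω] {Y : Scheme.{u}} [Y.Over (Spec (CommRingCat.of Ω))]
    (i₁ : Y ⟶ X) (i : Xs ⟶ X) (t : Spec (CommRingCat.of Ω) ⟶ Spec (CommRingCat.of R)) where
  alg : Algebra (IsLocalRing.ResidueField R) Ω
  l : Y ⟶ Xs
  hl : l ≫ i = i₁
  sq : IsPullback l (Y ↘ Spec (CommRingCat.of Ω)) (Xs ↘ Spec (CommRingCat.of (IsLocalRing.ResidueField R)))
    (Spec.map (CommRingCat.ofHom (algebraMap (IsLocalRing.ResidueField R) Ω)))
  ht : Spec.map (CommRingCat.ofHom (algebraMap (IsLocalRing.ResidueField R) Ω)) ≫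
    Spec.map (CommRingCat.ofHom (IsLocalRing.residue R)) = t

/-- The data of a geometric point over the generic point. -/
structure GenericPt (Ω : Type u) [Field Ω] {Y : Scheme.{u}} [Y.Over (Spec (CommRingCat.of Ω))]
    (i₁ : Y ⟶ X) (j : Xg ⟶ X) (t : Spec (CommRingCat.of Ω) ⟶ Spec (CommRingCat.of R)) where
  t' : Spec (CommRingCat.of Ω) ⟶ Spec (CommRingCat.of (FractionRing R))
  ht : t' ≫ Spec.map (CommRingCat.ofHom (algebraMap R (FractionRing R))) = t
  l : Y ⟶ Xg
  hl : l ≫ j = i₁
  sq : IsPullback l (Y ↘ Spec (CommRingCat.of Ω)) (Xg ↘ Spec (CommRingCat.of (FractionRing R))) t'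

include hsq hgen in
theorem closed_or_generic {Ω : Type u} [Field Ω] {Y : Scheme.{u}} [Y.Over (Spec (CommRingCat.of Ω))]
    {i₁ : Y ⟶ X} {t : Spec (CommRingCat.of Ω) ⟶ Spec (CommRingCat.of R)}
    (hY : IsPullback i₁ (Y ↘ Spec (CommRingCat.of Ω)) f t) :
    Nonempty (ClosedPt Ω i₁ i t) ∨ Nonempty (GenericPt Ω i₁ j t) := by
  obtain ⟨φ, rfl⟩ := Spec.map_surjective t
  by_cases hφ : Function.Injective φ.hom
  · right
    let φ' : CommRingCat.of (FractionRing R) ⟶ CommRingCat.of Ω := CommRingCat.ofHom (IsFractionRing.lift hφ)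
    have hφ' : CommRingCat.ofHom (algebraMap R (FractionRing R)) ≫ φ' = φ := by
      ext a
      exact IsFractionRing.lift_algebraMap hφ a
    have ht : Spec.map φ' ≫ Spec.map (CommRingCat.ofHom (algebraMap R (FractionRing R))) = Spec.map φ := by
      rw [← Spec.map_comp, hφ']
    have hw : i₁ ≫ f = ((Y ↘ Spec (CommRingCat.of Ω)) ≫ Spec.map φ') ≫
        Spec.map (CommRingCat.ofHom (algebraMap R (FractionRing R))) := by
      rw [Category.assoc, ht]; exact hY.w
    exact ⟨⟨Spec.map φ', ht, hgen.lift i₁ _ hw, hgen.lift_fst _ _ _, IsPullback.of_right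
      (by rw [hgen.lift_fst, ht]; exact hY) (hgen.lift_snd _ _ _) hgen⟩⟩
  · left
    have hker : ∀ a ∈ IsLocalRing.maximalIdeal R, φ.hom a = 0 := by
      have hne : RingHom.ker φ.hom ≠ ⊥ := fun h => hφ ((RingHom.injective_iff_ker_eq_bot _).2 h)
      intro a ha
      rw [← RingHom.mem_ker, IsLocalRing.eq_maximalIdeal ((RingHom.ker_isPrime φ.hom).isMaximal hne)]
      exact ha
    let φ' : IsLocalRing.ResidueField R →+* Ω := Ideal.Quotient.lift _ φ.hom hker
    letI : Algebra (IsLocalRing.ResidueField R) Ω := φ'.toAlgebra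
    have hφ' : CommRingCat.ofHom (IsLocalRing.residue R) ≫ CommRingCat.ofHom φ' = φ := by
      ext a
      exact Ideal.Quotient.lift_mk _ φ.hom hker
    have ht : Spec.map (CommRingCat.ofHom φ') ≫ Spec.map (CommRingCat.ofHom (IsLocalRing.residue R)) =
        Spec.map φ := by
      rw [← Spec.map_comp, hφ']
    have hw : i₁ ≫ f = ((Y ↘ Spec (CommRingCat.of Ω)) ≫ Spec.map (CommRingCat.ofHom φ')) ≫
        Spec.map (CommRingCat.ofHom (IsLocalRing.residue R)) := by
      rw [Category.assoc, ht]; exact hY.w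
    exact ⟨⟨φ'.toAlgebra, hsq.lift i₁ _ hw, hsq.lift_fst _ _ _, IsPullback.of_right
      (by rw [hsq.lift_fst]; show IsPullback _ _ _ (Spec.map (CommRingCat.ofHom φ') ≫ _); rw [ht]; exact hY)
      (hsq.lift_snd _ _ _) hsq, ht⟩⟩

/-- The inverse image along a composition. -/
def pullIso {A B C : Scheme.{u}} {l : A ⟶ B} {g : B ⟶ C} {h : A ⟶ C} (e : l ≫ g = h) (M : C.Modules) :
    (Scheme.Modules.pullback l).obj ((Scheme.Modules.pullback g).obj M) ≅
      (Scheme.Modules.pullback h).obj M :=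
  (Scheme.Modules.pullbackComp l g).app M ≪≫ (Scheme.Modules.pullbackCongr e).app M

variable [IsProper f] [Flat f] [IsReduced Xs]
  (hpure : ∀ C ∈ irreducibleComponents (Xs : Type u), topologicalKrullDim C = 1)
  (hgi : ∀ (C : Set Xs) (hC : C ∈ irreducibleComponents (Xs : Type u)),
    GeometricallyIntegral (VecSt.subschι Xs C (isClosed_of_mem_irreducibleComponents C hC) ≫
      (Xs ↘ Spec (CommRingCat.of (IsLocalRing.ResidueField R)))))

include hsq hpure in
theorem isCurve_special : IsCurve Xs :=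
  haveI := isProper_fibre hsq
  isCurve (IsLocalRing.ResidueField R) hpure

include hsq hgi in
theorem isReduced_fibre {Ω : Type u} [Field Ω] {t : Spec (CommRingCat.of Ω) ⟶ Spec (CommRingCat.of R)}
    {Y : Scheme.{u}} {i₁ : Y ⟶ X} {qY : Y ⟶ Spec (CommRingCat.of Ω)} (hY : IsPullback i₁ qY f t) :
    IsReduced Y :=
  haveI := geometricallyReduced_of_components hgi
  isReduced_geometric hsq hY

include hsq hgi in
theorem isTF1_special {I : X.Modules} (hIc : Coh.IsCoh I)
    (hI : VecSt.Fibrewise f I fun _ _ _ Y _ G => TFOne.IsTF1 Y G) :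
    TFOne.IsTF1 Xs ((Scheme.Modules.pullback i).obj I) := by
  let κ := IsLocalRing.ResidueField R
  let Ω := AlgebraicClosure κ
  let s := Spec.map (CommRingCat.ofHom (algebraMap κ Ω))
  let Y := pullback (Xs ↘ Spec (CommRingCat.of κ)) s
  letI : Y.Over (Spec (CommRingCat.of Ω)) := ⟨pullback.snd _ _⟩
  have hY : IsPullback (pullback.fst (Xs ↘ Spec (CommRingCat.of κ)) s) (Y ↘ Spec (CommRingCat.of Ω))
      (Xs ↘ Spec (CommRingCat.of κ)) s := IsPullback.of_hasPullback _ _
  haveI := isProper_fibre hsq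
  haveI := flat_of_field hY
  haveI := surjective_of_field hY
  refine isTF1_of_pullback (pullback.fst (Xs ↘ Spec (CommRingCat.of κ)) s) (haveI := hIc.1; ⟨QCohMod.isQCoh_pullback_obj i I, QCohMod.isFT_pullback i I hIc.2⟩) ?_
  exact isTF1_of_iso (pullIso rfl I).symm (hI Ω _ Y _ _ (hY.paste_horiz hsq))

variable {I J : X.Modules}

include hsq hgen hgi in
theorem isRelTF1_of_good (hI : TFOne.IsRelTF1 f I) (hJ : Good f i j I J) : TFOne.IsRelTF1 f J := by
  haveI := isNoetherian_of_isProper f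
  refine ⟨hJ.flat, KTheory.OpenLoc.isFP_of_isCoh' hJ.coh, fun Ω _ _ t Y i₁ qY hY => ?_⟩
  letI : Y.Over (Spec (CommRingCat.of Ω)) := ⟨qY⟩
  rcases closed_or_generic (Ω := Ω) (Y := Y) (i₁ := i₁) (t := t) hsq hgen hY with ⟨⟨c⟩⟩ | ⟨⟨c⟩⟩
  · letI := c.alg
    haveI := isProper_fibre hsq
    haveI := flat_of_field c.sq
    haveI : IsLocallyNoetherian Xs := LocallyOfFiniteType.isLocallyNoetherian
      (Xs ↘ Spec (CommRingCat.of (IsLocalRing.ResidueField R)))
    exact isTF1_of_iso (pullIso c.hl J) (isTF1_pullback c.l hJ.tf)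
  · exact isTF1_of_iso ((pullIso c.hl I).symm ≪≫ (Scheme.Modules.pullback c.l).mapIso hJ.gen.some.symm ≪≫
      pullIso c.hl J) (hI.2.2 Ω t Y i₁ qY hY)

include hsq hgen hpure hgi in
theorem fibSemistable_of_good {E : X.Modules} {r : ℕ} (hE : FlatMod.IsFinLocFreeOfRank r E)
    (hJ : Good f i j I J)
    (hg : TFOne.FibSemistable (Xg ↘ Spec (CommRingCat.of (FractionRing R))) ((Scheme.Modules.pullback j).obj I)
      ((Scheme.Modules.pullback j).obj E) r)
    (hb : ∀ P : Set (Gen Xs), 0 ≤ bPat (IsLocalRing.ResidueField R) ((Scheme.Modules.pullback i).obj E) r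
      ((Scheme.Modules.pullback i).obj J) P) :
    TFOne.FibSemistable f J E r := by
  intro Ω _ _ t Y i₁ qY hY
  letI : Y.Over (Spec (CommRingCat.of Ω)) := ⟨qY⟩
  rcases closed_or_generic (Ω := Ω) (Y := Y) (i₁ := i₁) (t := t) hsq hgen hY with ⟨⟨c⟩⟩ | ⟨⟨c⟩⟩
  · letI := c.alg
    haveI := isProper_fibre hsq
    haveI : IsProper (Y ↘ Spec (CommRingCat.of Ω)) := MorphismProperty.of_isPullback hY inferInstance
    haveI := flat_of_field c.sq
    haveI := isReduced_fibre hsq hgi hY
    have hE' := LocFree.isFinLocFreeOfRank_pullback i hE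
    refine semistable_congr (pullIso c.hl J) (pullIso c.hl E) ?_
    exact isSemistable_pullback c.sq hgi (pure_geometric hsq (isCurve_special hsq hpure) hpure hY)
      (isCurve_special hsq hpure) hE' hJ.tf hb
  · refine semistable_congr ?_ (pullIso c.hl E) (hg Ω c.t' Y c.l qY c.sq)
    exact (Scheme.Modules.pullback c.l).mapIso hJ.gen.some.symm ≪≫ pullIso c.hl J

include hsq hgen hpure hgi in
theorem fibQuasistableAlong_of_good {E : X.Modules} {r : ℕ} (hE : FlatMod.IsFinLocFreeOfRank r E)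
    (hJ : Good f i j I J) (σ : Spec (CommRingCat.of R) ⟶ X) (hσ : σ ≫ f = 𝟙 _)
    (σg : Spec (CommRingCat.of (FractionRing R)) ⟶ Xg)
    (hσg : σg ≫ (Xg ↘ Spec (CommRingCat.of (FractionRing R))) = 𝟙 _)
    (hσgj : σg ≫ j = Spec.map (CommRingCat.ofHom (algebraMap R (FractionRing R))) ≫ σ)
    (hg : TFOne.FibQuasistableAlong (Xg ↘ Spec (CommRingCat.of (FractionRing R)))
      ((Scheme.Modules.pullback j).obj I) ((Scheme.Modules.pullback j).obj E) σg hσg r)
    (s₀ : Xs) (hs₀ : i s₀ = σ (IsLocalRing.closedPoint R))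
    (hb : ∀ P : Set (Gen Xs), 0 ≤ bPat (IsLocalRing.ResidueField R) ((Scheme.Modules.pullback i).obj E) r
      ((Scheme.Modules.pullback i).obj J) P)
    (hpos : ∀ P : Set (Gen Xs), Through P s₀ → P ≠ Set.univ →
      0 < bPat (IsLocalRing.ResidueField R) ((Scheme.Modules.pullback i).obj E) r
        ((Scheme.Modules.pullback i).obj J) P) :
    TFOne.FibQuasistableAlong f J E σ hσ r := by
  intro Ω _ _ t Y i₁ qY hY y hy hyq
  letI : Y.Over (Spec (CommRingCat.of Ω)) := ⟨qY⟩
  rcases closed_or_generic (Ω := Ω) (Y := Y) (i₁ := i₁) (t := t) hsq hgen hY with ⟨⟨c⟩⟩ | ⟨⟨c⟩⟩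
  · letI := c.alg
    haveI := isProper_fibre hsq
    haveI : IsClosedImmersion i :=
      haveI : IsClosedImmersion (Spec.map (CommRingCat.ofHom (IsLocalRing.residue R))) :=
        IsClosedImmersion.spec_of_surjective _ IsLocalRing.residue_surjective
      MorphismProperty.of_isPullback hsq.flip inferInstance
    haveI : IsProper (Y ↘ Spec (CommRingCat.of Ω)) := MorphismProperty.of_isPullback hY inferInstance
    haveI := flat_of_field c.sq
    haveI := isReduced_fibre hsq hgi hY
    have hE' := LocFree.isFinLocFreeOfRank_pullback i hE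
    have hpt : c.l (y (IsLocalRing.closedPoint Ω)) = s₀ := by
      refine i.isEmbedding.injective ?_
      rw [hs₀, ← Scheme.Hom.comp_apply, ← Scheme.Hom.comp_apply, c.hl, hy,
        Scheme.Hom.comp_apply]
      congr 1
      rw [← c.ht, Scheme.Hom.comp_apply]
      exact range_residue.le ⟨_, rfl⟩
    refine quasistable_congr (pullIso c.hl J) (pullIso c.hl E) ?_
    exact isQuasistableAtPt_pullback c.sq hgi (pure_geometric hsq (isCurve_special hsq hpure) hpure hY)
      (isCurve_special hsq hpure) hE' hJ.tf hb _ fun P hP hu => hpos P (hpt ▸ hP) hu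
  · refine quasistable_congr ?_ (pullIso c.hl E) (hg Ω c.t' Y c.l qY c.sq y ?_ hyq)
    · exact (Scheme.Modules.pullback c.l).mapIso hJ.gen.some.symm ≪≫ pullIso c.hl J
    · refine hgen.hom_ext ?_ ?_
      · rw [Category.assoc, c.hl, hy, Category.assoc, hσgj, ← Category.assoc, c.ht]
      · rw [Category.assoc, c.sq.w, ← Category.assoc,
          show y ≫ (Y ↘ Spec (CommRingCat.of Ω)) = 𝟙 _ from hyq, Category.id_comp, Category.assoc, hσg,
          Category.comp_id]

include hsq hgen hpure hgi in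
theorem fibSimple_of_good [Nonempty Xs] (hJ : Good f i j I J)
    (hg : TFOne.FibSimple (Xg ↘ Spec (CommRingCat.of (FractionRing R))) ((Scheme.Modules.pullback j).obj I))
    (hdec : ∀ P : Set (Gen Xs), P.Nonempty → P ≠ Set.univ → ¬ Dec ((Scheme.Modules.pullback i).obj J) P) :
    TFOne.FibSimple f J := by
  intro Ω _ _ t Y i₁ qY hY
  letI : Y.Over (Spec (CommRingCat.of Ω)) := ⟨qY⟩
  rcases closed_or_generic (Ω := Ω) (Y := Y) (i₁ := i₁) (t := t) hsq hgen hY with ⟨⟨c⟩⟩ | ⟨⟨c⟩⟩
  · letI := c.alg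
    haveI := isProper_fibre hsq
    haveI : IsProper (Y ↘ Spec (CommRingCat.of Ω)) := MorphismProperty.of_isPullback hY inferInstance
    haveI := flat_of_field c.sq
    haveI := surjective_of_field c.sq
    haveI : Nonempty Y := ⟨(c.l.surjective (Classical.arbitrary Xs)).choose⟩
    haveI := isReduced_fibre hsq hgi hY
    refine isSimple_of_iso (pullIso c.hl J) ?_
    exact isSimple_pullback c.sq hgi (pure_geometric hsq (isCurve_special hsq hpure) hpure hY)
      (isCurve_special hsq hpure) hJ.tf hdec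
  · refine isSimple_of_iso ?_ (hg Ω c.t' Y c.l qY c.sq)
    exact (Scheme.Modules.pullback c.l).mapIso hJ.gen.some.symm ≪≫ pullIso c.hl J

end Groth.TFOneAux
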