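import Groth.Agent.TFOne.Decompose
import Groth.Agent.VarietyBC.Reduced
import Groth.Agent.S1543
import Groth.Agent.S2549

/-!
# Geometric reducedness of the fibres of a family with reduced special fibre
-/

set_option autoImplicit false
set_option linter.style.haveILetI false
set_option backward.isDefEq.respectTransparency.types false

universe u

open CategoryTheory CategoryTheory.Limits AlgebraicGeometry TopologicalSpace

noncomputable section

namespace Groth.TFOneAux

variable {k : Type u} [Field k] {X : Scheme.{u}} [X.Over (Spec (CommRingCat.of k))]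

theorem isGeomReducedAt_of_component [IsReduced X] {Z : Scheme.{u}} (i : Z ⟶ X)
    [GeometricallyIntegral (i ≫ (X ↘ Spec (CommRingCat.of k)))] (z : Z)
    (hη : i z ∈ genericPoints (X : Type u)) : Curv2.IsGeomReducedAt k X (i z) := by
  letI : Z.Over (Spec (CommRingCat.of k)) := ⟨i ≫ (X ↘ Spec (CommRingCat.of k))⟩
  haveI : GeometricallyIntegral (Z ↘ Spec (CommRingCat.of k)) :=
    inferInstanceAs (GeometricallyIntegral (i ≫ (X ↘ Spec (CommRingCat.of k))))
  haveI : IsIntegral Z := GeometricallyIntegral.isIntegral_of_subsingleton (Z ↘ Spec (CommRingCat.of k))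
  letI := Curv2.stalkAlgebra k X (i z)
  letI := Curv2.stalkAlgebra k Z z
  have hred : GeometricallyReduced (Z ↘ Spec (CommRingCat.of k)) := inferInstance
  haveI : Algebra.IsGeometricallyReduced k (Z.presheaf.stalk z) :=
    (Groth.VarietyBC.isGeomReducedAt_iff z).1 (Groth.VarietyBC.geometricallyReduced_iff_forall.1 hred z)
  let φ : X.presheaf.stalk (i z) →ₐ[k] Z.presheaf.stalk z :=
    { (i.stalkMap z).hom with
      commutes' := fun c => Scheme.Hom.germ_stalkMap_apply i ⊤ z trivial _ }
  have hinj : Function.Injective φ := by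
    letI : Field (X.presheaf.stalk (i z)) := (Duality.TorsionFree.isField_stalk_generic hη).toField
    exact (i.stalkMap z).hom.injective
  exact (Groth.VarietyBC.isGeomReducedAt_iff (i z)).2 (Algebra.IsGeometricallyReduced.of_injective φ hinj)

/-- A reduced scheme with geometrically integral components is geometrically reduced. -/
theorem geometricallyReduced_of_components [IsReduced X]
    (hgi : ∀ (C : Set X) (hC : C ∈ irreducibleComponents (X : Type u)),
      GeometricallyIntegral (VecSt.subschι X C (isClosed_of_mem_irreducibleComponents C hC) ≫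
        (X ↘ Spec (CommRingCat.of k)))) :
    GeometricallyReduced (X ↘ Spec (CommRingCat.of k)) := by
  refine Groth.Agent.S1543.result k X fun C hC η hη => ?_
  haveI := hgi C hC
  obtain ⟨z, rfl⟩ : η ∈ Set.range (VecSt.subschι X C (isClosed_of_mem_irreducibleComponents C hC)) := by
    rw [Scheme.IdealSheafData.range_subschemeι, Scheme.IdealSheafData.coe_support_vanishingIdeal]
    exact hη.mem
  exact isGeomReducedAt_of_component _ z (show closure ({_} : Set X) ∈ _ from hη.def.symm ▸ hC)

end Groth.TFOneAux

namespace Groth.TFOneAux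

variable {R : Type u} [CommRing R] [IsDomain R] [IsDiscreteValuationRing R] {X Xs : Scheme.{u}}
  {f : X ⟶ Spec (CommRingCat.of R)} {i : Xs ⟶ X}
  {qs : Xs ⟶ Spec (CommRingCat.of (IsLocalRing.ResidueField R))}

theorem specializes_closedPoint (y : PrimeSpectrum R) :
    y ⤳ IsLocalRing.closedPoint R :=
  (PrimeSpectrum.le_iff_specializes _ _).1 (IsLocalRing.le_maximalIdeal y.isPrime.ne_top)

/-- An open subset of a proper scheme over a local ring containing the special fibre is everything. -/
theorem eq_univ_of_special [IsProper f] {S : Set X} (hS : IsOpen S)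
    (h : ∀ x : X, f x = IsLocalRing.closedPoint R → x ∈ S) : S = Set.univ := by
  by_contra hne
  obtain ⟨x, hx⟩ := (Set.ne_univ_iff_exists_notMem _).1 hne
  obtain ⟨y, hy, hfy⟩ :=
    (specializes_closedPoint (f x)).mem_closed (f.isClosedMap _ hS.isClosed_compl) ⟨x, hx, rfl⟩
  exact hy (h y hfy)

theorem range_residue :
    Set.range (Spec.map (CommRingCat.ofHom (IsLocalRing.residue R))) = {IsLocalRing.closedPoint R} := by
  refine Set.eq_singleton_iff_unique_mem.2 ⟨⟨⟨⊥, Ideal.isPrime_bot⟩, ?_⟩, ?_⟩
  · refine PrimeSpectrum.ext ?_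
    show Ideal.comap (IsLocalRing.residue R) ⊥ = IsLocalRing.maximalIdeal R
    rw [← RingHom.ker_eq_comap_bot, IsLocalRing.ker_residue]
  · rintro _ ⟨p, rfl⟩
    refine PrimeSpectrum.ext ?_
    obtain rfl : p = ⟨⊥, Ideal.isPrime_bot⟩ := Subsingleton.elim _ _
    show Ideal.comap (IsLocalRing.residue R) ⊥ = IsLocalRing.maximalIdeal R
    rw [← RingHom.ker_eq_comap_bot, IsLocalRing.ker_residue]

/-- The fibres are geometrically reduced. -/
theorem isGeomReducedAt_all [IsProper f] [Flat f]
    (hsq : IsPullback i qs f (Spec.map (CommRingCat.ofHom (IsLocalRing.residue R))))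
    [GeometricallyReduced qs] (x : X) :
    FBase.IsGeomReducedAt (f.fiberToSpecResidueField (f x)) (f.asFiber x) := by
  suffices {x : X | FBase.IsGeomReducedAt (f.fiberToSpecResidueField (f.base x)) (f.asFiber x)} = Set.univ from
    this.ge (Set.mem_univ x)
  refine eq_univ_of_special (f := f) (Groth.Agent.S2549.result f) fun x hx => ?_
  let s := Spec.map (CommRingCat.ofHom (IsLocalRing.residue R))
  let e : IsLocalRing.ResidueField R →+* IsLocalRing.ResidueField R := RingHom.id _
  -- the fibre over the closed point is the base change of `qs`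
  obtain ⟨⟨y, φ⟩, hyφ⟩ := (Scheme.SpecToEquivOfField (IsLocalRing.ResidueField R) _).symm.surjective s
  have hy : y = f x := by
    have h1 : s (IsLocalRing.closedPoint (IsLocalRing.ResidueField R)) = y := by
      rw [← hyφ, Scheme.SpecToEquivOfField_symm_apply, Scheme.Hom.comp_apply]
      exact Scheme.fromSpecResidueField_apply y _
    rw [hx, ← h1]
    exact range_residue.le ⟨_, rfl⟩
  have hsq' : IsPullback i qs f (Spec.map φ ≫ (Spec (CommRingCat.of R)).fromSpecResidueField y) := by
    rw [show Spec.map φ ≫ (Spec (CommRingCat.of R)).fromSpecResidueField y = s from hyφ]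
    exact hsq
  subst hy
  intro K _ _ x'
  haveI : IsClosedImmersion s := IsClosedImmersion.spec_of_surjective _ IsLocalRing.residue_surjective
  haveI : IsPreimmersion s := inferInstance
  intro _
  have hiso : IsIso (Spec.map φ) := by
    have hcomp : Spec.map φ ≫ (Spec (CommRingCat.of R)).fromSpecResidueField (f x) = s := hyφ
    haveI : IsClosedImmersion (Spec.map φ ≫ (Spec (CommRingCat.of R)).fromSpecResidueField (f x)) :=
      hcomp ▸ ‹IsClosedImmersion s›
    haveI : IsClosedImmersion (Spec.map φ) :=
      IsClosedImmersion.of_comp (Spec.map φ) ((Spec (CommRingCat.of R)).fromSpecResidueField (f x))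
    have h := (IsClosedImmersion.isAffine_surjective_of_isAffine (Spec.map φ)).2
    have hsurj : Function.Surjective φ.hom := fun a => by
      obtain ⟨b, hb⟩ := h ((Scheme.ΓSpecIso _).inv a)
      refine ⟨(Scheme.ΓSpecIso _).hom b, ?_⟩
      have := congr(($(Scheme.ΓSpecIso_naturality φ)) b)
      refine this.symm.trans ?_
      rw [CommRingCat.comp_apply, hb]
      exact Iso.inv_hom_id_apply _ _
    haveI : IsIso φ := (ConcreteCategory.isIso_iff_bijective φ).2 ⟨φ.hom.injective, hsurj⟩
    infer_instance
  have hg : GeometricallyReduced (f.fiberToSpecResidueField (f x)) := by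
    let l : Xs ⟶ f.fiber (f x) := pullback.lift i (qs ≫ Spec.map φ) (hsq'.w.trans (Category.assoc _ _ _).symm)
    have h' : IsPullback l qs (f.fiberToSpecResidueField (f x)) (Spec.map φ) :=
      IsPullback.of_right (by
        rw [show l ≫ pullback.fst _ _ = i from pullback.lift_fst _ _ _]; exact hsq')
        (pullback.lift_snd _ _ _) (IsPullback.of_hasPullback f _)
    haveI := hiso
    haveI : IsIso l := h'.isIso_fst_of_isIso
    have hE : f.fiberToSpecResidueField (f x) = inv l ≫ qs ≫ Spec.map φ := by
      rw [← h'.w, ← Category.assoc, IsIso.inv_hom_id, Category.id_comp]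
    rw [hE, MorphismProperty.cancel_left_of_respectsIso @GeometricallyReduced,
      MorphismProperty.cancel_right_of_respectsIso @GeometricallyReduced]
    assumption
  haveI : IsReduced (FBase.bc (f.fiberToSpecResidueField (f x)) K) :=
    @GeometricallyReduced.geometrically_isReduced _ _ _ hg _ _ _ _ _ _ (IsPullback.of_hasPullback _ _)
  infer_instance

/-- Geometric fibres are reduced. -/
theorem isReduced_geometric [IsProper f] [Flat f]
    (hsq : IsPullback i qs f (Spec.map (CommRingCat.ofHom (IsLocalRing.residue R))))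
    [GeometricallyReduced qs] {Ω : Type u} [Field Ω] {t : Spec (CommRingCat.of Ω) ⟶ Spec (CommRingCat.of R)}
    {Y : Scheme.{u}} {i₁ : Y ⟶ X} {qY : Y ⟶ Spec (CommRingCat.of Ω)} (hY : IsPullback i₁ qY f t) :
    IsReduced Y := by
  obtain ⟨⟨y, φ⟩, rfl⟩ := (Scheme.SpecToEquivOfField Ω _).symm.surjective t
  letI : Algebra (IsLocalRing.ResidueField ((Spec (CommRingCat.of R)).presheaf.stalk y)) Ω :=
    φ.hom.toAlgebra
  letI : Algebra ((Spec (CommRingCat.of R)).residueField y) Ω := φ.hom.toAlgebra
  have hY' : IsPullback i₁ qY f (Spec.map φ ≫ (Spec (CommRingCat.of R)).fromSpecResidueField y) := hY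
  let l : Y ⟶ f.fiber y := pullback.lift i₁ (qY ≫ Spec.map φ) (hY'.w.trans (Category.assoc _ _ _).symm)
  have h' : IsPullback l qY (f.fiberToSpecResidueField y) (Spec.map φ) :=
    IsPullback.of_right (by rw [show l ≫ pullback.fst _ _ = i₁ from pullback.lift_fst _ _ _]; exact hY')
      (pullback.lift_snd _ _ _) (IsPullback.of_hasPullback f _)
  let e : Y ≅ FBase.bc (f.fiberToSpecResidueField y) Ω := h'.isoPullback
  have key : ∀ (x : X) (y : Spec (CommRingCat.of R)) (_ : f x = y) (w : f.fiber y),
      f.fiberι y w = x → FBase.IsGeomReducedAt (f.fiberToSpecResidueField y) w := by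
    intro x y hxy w hw
    subst hxy
    rw [show w = f.asFiber x from (f.fiberι _).isEmbedding.injective (hw.trans (f.fiberι_asFiber x).symm)]
    exact isGeomReducedAt_all hsq x
  haveI : ∀ z : ↥(FBase.bc (f.fiberToSpecResidueField y) Ω),
      _root_.IsReduced ((FBase.bc (f.fiberToSpecResidueField y) Ω).presheaf.stalk z) := fun z => by
    refine key (f.fiberι y (FBase.bcπ (f.fiberToSpecResidueField y) Ω z)) y ?_ _ rfl Ω z rfl
    have := Scheme.Hom.range_fiberι f y ▸ Set.mem_range_self (FBase.bcπ (f.fiberToSpecResidueField y) Ω z)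
    exact this
  haveI : IsReduced (FBase.bc (f.fiberToSpecResidueField y) Ω) := isReduced_of_isReduced_stalk _
  exact isReduced_of_isOpenImmersion e.hom

end Groth.TFOneAux
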