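import Groth.Agent.TFOne.Numeric
import Groth.Agent.TFOne.Sub
import Groth.Agent.TFOne.Chain
import Groth.Agent.TFOne.Algebraize
import Groth.Agent.FlatQuot.Basic
import Groth.Agent.SchemeMorphisms.PrinParts.FlatExact
import Groth.Agent.Abvar.Seesaw.Global

/-!
# Lattices in a family over a discrete valuation ring and their chains of modifications
-/

set_option autoImplicit false
set_option linter.style.haveILetI false
set_option backward.isDefEq.respectTransparency.types false

universe u

open CategoryTheory CategoryTheory.Limits AlgebraicGeometry Opposite TopologicalSpace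

noncomputable section

namespace Groth.TFOneAux

variable {R : Type u} [CommRing R] [IsDomain R] [IsDiscreteValuationRing R] {X : Scheme.{u}}

theorem isNoetherian_of_isProper (f : X ⟶ Spec (CommRingCat.of R)) [IsProper f] : IsNoetherian X := by
  haveI : IsLocallyNoetherian X := LocallyOfFiniteType.isLocallyNoetherian f
  haveI : CompactSpace X := QuasiCompact.compactSpace_of_compactSpace f
  exact {}

omit [IsDiscreteValuationRing R] in
theorem isPrincipalIdealRing_of_localization [IsPrincipalIdealRing R] {S : Type u} [CommRing S] [Algebra R S]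
    (M : Submonoid R) [IsLocalization M S] : IsPrincipalIdealRing S := ⟨fun J => by
  obtain ⟨r, hr⟩ := (IsPrincipalIdealRing.principal (Ideal.comap (algebraMap R S) J)).principal
  refine ⟨⟨algebraMap R S r, ?_⟩⟩
  rw [Ideal.submodule_span_eq] at hr ⊢
  refine (IsLocalization.map_comap M S J).symm.trans ((congrArg (Ideal.map (algebraMap R S)) hr).trans ?_)
  rw [Ideal.map_span, Set.image_singleton]⟩

/-- The local rings of the spectrum of a discrete valuation ring. -/
theorem stalk_dvr (y : PrimeSpectrum R) {ϖ : R} (hϖ : Irreducible ϖ) :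
    IsPrincipalIdealRing ((Spec (CommRingCat.of R)).presheaf.stalk y) ∧
      ∀ a : (Spec (CommRingCat.of R)).presheaf.stalk y, a ≠ 0 → ∃ (s : (Spec (CommRingCat.of R)).presheaf.stalk y) (n : ℕ),
        s * a = ((Spec (CommRingCat.of R)).presheaf.germ ⊤ y trivial
          ((Scheme.ΓSpecIso (CommRingCat.of R)).inv ϖ)) ^ n := by
  let ρ : R →+* (Spec.structureSheaf R).presheaf.stalk y := algebraMap R _
  refine ⟨isPrincipalIdealRing_of_localization (S := (Spec.structureSheaf R).presheaf.stalk y)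
    y.asIdeal.primeCompl, fun a ha => ?_⟩
  change ((Spec.structureSheaf R).presheaf.stalk y : Type u) at a
  obtain ⟨⟨r, m⟩, hrm⟩ := IsLocalization.surj y.asIdeal.primeCompl a
  have hm := IsLocalization.map_units ((Spec.structureSheaf R).presheaf.stalk y) m
  have hr : r ≠ 0 := fun h0 => by
    subst h0
    rw [map_zero] at hrm
    exact ha (hm.mul_left_eq_zero.1 hrm)
  obtain ⟨n, v, rfl⟩ := IsDiscreteValuationRing.eq_unit_mul_pow_irreducible hr hϖ
  obtain ⟨v', hv'⟩ := (v.isUnit.map ρ).exists_left_inv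
  refine ⟨v' * ρ m, n, ?_⟩
  show v' * ρ m * a = ρ ϖ ^ n
  rw [mul_assoc, mul_comm (ρ m) a, show a * ρ m = ρ (v * ϖ ^ n) from hrm, map_mul, map_pow, ← mul_assoc,
    hv', one_mul]

/-- A module on which a uniformizer is regular is flat. -/
theorem isFlatOver_of_mono_smul (f : X ⟶ Spec (CommRingCat.of R)) {ϖ : R} (hϖ : Irreducible ϖ)
    {I : X.Modules}
    (h : letI : X.Over (Spec (CommRingCat.of R)) := ⟨f⟩; Mono (Formal.smulMod R I ϖ)) :
    FlatMod.IsFlatOver f I := by
  letI : X.Over (Spec (CommRingCat.of R)) := ⟨f⟩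
  intro x
  show @Module.Flat _ _ _ _ (FlatMod.moduleStalkOver f I x)
  letI := FlatMod.moduleStalkOver f I x
  obtain ⟨hP, hunit⟩ := stalk_dvr (f.base x) hϖ
  haveI := hP
  haveI : IsDomain ((Spec (CommRingCat.of R)).presheaf.stalk (f.base x)) := inferInstance
  refine Module.Flat.flat_iff_torsion_eq_bot_of_isBezout.2 ?_
  rw [Submodule.eq_bot_iff]
  rintro t ⟨⟨a, ha⟩, hat⟩
  have hat' : a • t = 0 := hat
  obtain ⟨s, n, hsn⟩ := hunit a (nonZeroDivisors.ne_zero ha)
  set c := (Spec (CommRingCat.of R)).presheaf.germ ⊤ (f.base x) trivial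
    ((Scheme.ΓSpecIso (CommRingCat.of R)).inv ϖ)
  have hrt : c ^ n • t = 0 := by rw [← hsn, mul_smul, hat', smul_zero]
  have key : ∀ w : I.presheaf.stalk x,
      c • w = RefHull.stalkMapₗ (Formal.smulMod R I ϖ) x w := fun w => by
    have e : (f.stalkMap x).hom c =
        X.presheaf.germ ⊤ x trivial (Coh.toGlobal (X ↘ Spec (CommRingCat.of R)) ϖ) :=
      Scheme.Hom.germ_stalkMap_apply f ⊤ x trivial _
    rw [stalk_smulMod, ← e]
    rfl
  clear hsn hat' hat
  induction n generalizing t with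
  | zero => simpa using hrt
  | succ n ih =>
    rw [pow_succ', mul_smul, key] at hrt
    refine ih t (injective_stalkMap (Formal.smulMod R I ϖ) x ?_)
    rw [hrt, map_zero]

variable (f : X ⟶ Spec (CommRingCat.of R)) {Xs : Scheme.{u}} (i : Xs ⟶ X) {Xg : Scheme.{u}} (j : Xg ⟶ X)

/-- The kernel of `J ⟶ i_* G`. -/
abbrev nxt {G : Xs.Modules} (J : X.Modules) (π : (Scheme.Modules.pullback i).obj J ⟶ G) : X.Modules :=
  kernel ((Scheme.Modules.pullbackPushforwardAdjunction i).unit.app J ≫ (Scheme.Modules.pushforward i).map π)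

/-- A coherent flat module, torsion-free of rank one on the special fibre and generically `I`. -/
structure Good (I J : X.Modules) : Prop where
  coh : Coh.IsCoh J
  flat : FlatMod.IsFlatOver f J
  tf : TFOne.IsTF1 Xs ((Scheme.Modules.pullback i).obj J)
  gen : Nonempty ((Scheme.Modules.pullback j).obj J ≅ (Scheme.Modules.pullback j).obj I)

variable {f i j}
variable [IsProper f] {qg : Xg ⟶ Spec (CommRingCat.of (FractionRing R))}
  {qs : Xs ⟶ Spec (CommRingCat.of (IsLocalRing.ResidueField R))}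

theorem isIso_smul_generic
    (hgen : IsPullback j qg f (Spec.map (CommRingCat.ofHom (algebraMap R (FractionRing R)))))
    {a : R} (ha : a ≠ 0) (M : X.Modules) :
    letI : X.Over (Spec (CommRingCat.of R)) := ⟨f⟩
    IsIso ((Scheme.Modules.pullback j).map (Formal.smulMod R M a)) := by
  letI : X.Over (Spec (CommRingCat.of R)) := ⟨f⟩
  letI : Xg.Over (Spec (CommRingCat.of R)) := ⟨j ≫ f⟩
  letI : Xg.Over (Spec (CommRingCat.of (FractionRing R))) := ⟨qg⟩
  rw [CohC3.map_smulMod_of_adj (Scheme.Modules.pullbackPushforwardAdjunction j) rfl]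
  let N := (Scheme.Modules.pullback j).obj M
  let b : FractionRing R := algebraMap R (FractionRing R) a
  have hb : b ≠ 0 := by simpa [b] using ha
  have e : Formal.smulMod R N a = Formal.smulMod (FractionRing R) N b := by
    have : Coh.toGlobal (j ≫ f) a = Coh.toGlobal qg b := by
      rw [hgen.w, Abvar.Seesaw.toGlobal_specMap]
      rfl
    show Formal.smulModΓ N (Coh.toGlobal (j ≫ f) a) = Formal.smulModΓ N (Coh.toGlobal qg b)
    rw [this]
  rw [e]
  refine ⟨Formal.smulMod (FractionRing R) N b⁻¹, ?_, ?_⟩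
  · rw [← CohC3.smulMod_mul, inv_mul_cancel₀ hb, CohC3.smulMod_one]
  · rw [← CohC3.smulMod_mul, mul_inv_cancel₀ hb, CohC3.smulMod_one]

variable {I J : X.Modules} {G : Xs.Modules}

/-- One elementary modification. -/
theorem exists_next
    (hsq : IsPullback i qs f (Spec.map (CommRingCat.ofHom (IsLocalRing.residue R))))
    (hgen : IsPullback j qg f (Spec.map (CommRingCat.ofHom (algebraMap R (FractionRing R)))))
    (hX : IsCurve Xs) (hJ : Good f i j I J) (π : (Scheme.Modules.pullback i).obj J ⟶ G) [Epi π]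
    (hG : Coh.IsCoh G) (hGt : _root_.TorSh.IsTorsionFree G) :
    Good f i j I (nxt i J π) ∧
      Nonempty (Modif ((Scheme.Modules.pullback i).obj J) π ((Scheme.Modules.pullback i).obj (nxt i J π))) := by
  haveI := isNoetherian_of_isProper f
  haveI := hX.noeth
  letI : X.Over (Spec (CommRingCat.of R)) := ⟨f⟩
  haveI : IsClosedImmersion i :=
    haveI : IsClosedImmersion (Spec.map (CommRingCat.ofHom (IsLocalRing.residue R))) :=
      IsClosedImmersion.spec_of_surjective _ IsLocalRing.residue_surjective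
    MorphismProperty.of_isPullback hsq.flip inferInstance
  obtain ⟨ϖ, hϖ⟩ := IsDiscreteValuationRing.exists_irreducible R
  obtain ⟨S, u, hu, -⟩ := exists_modif_eq hsq hJ.coh hJ.flat π hG hϖ
  haveI := hJ.coh.1
  haveI : ((Scheme.Modules.pushforward i).obj G).IsQuasicoherent := (CohTwo.isCoh_push i hG).1
  let g := (Scheme.Modules.pullbackPushforwardAdjunction i).unit.app J ≫ (Scheme.Modules.pushforward i).map π
  refine ⟨⟨QCohMod.isCoh_kernel g hJ.coh, ?_, S.isTF1 hX hJ.tf
    (⟨inferInstance, hG, hGt, rfl⟩ : TFOne.IsQuotOn Xs _ (CohB1.support G) G π), ?_⟩, ⟨S⟩⟩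
  · refine isFlatOver_of_mono_smul f hϖ ?_
    haveI := mono_smul_of_flat f hJ.flat hϖ.ne_zero
    have h' : Mono (Formal.smulMod R (kernel g) ϖ ≫ kernel.ι g) :=
      CohC3.smulMod_naturality (kernel.ι g) ϖ ▸
        (mono_comp (kernel.ι g) (Formal.smulMod R J ϖ) : Mono (kernel.ι g ≫ Formal.smulMod R J ϖ))
    exact @mono_of_mono _ _ _ _ _ (Formal.smulMod R (kernel g) ϖ) (kernel.ι g) h'
  · let P := Scheme.Modules.pullback j
    haveI h1 : IsIso (P.map (kernel.ι g) ≫ P.map u) := by
      rw [← P.map_comp]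
      have : kernel.ι g ≫ u = Formal.smulMod R (kernel g) ϖ :=
        (cancel_mono (kernel.ι g)).1 ((Category.assoc _ _ _).trans ((congrArg (kernel.ι g ≫ ·) hu).trans
          (CohC3.smulMod_naturality (kernel.ι g) ϖ)))
      rw [this]
      exact isIso_smul_generic hgen hϖ.ne_zero _
    haveI h2 : IsIso (P.map u ≫ P.map (kernel.ι g)) := by
      rw [← P.map_comp, hu]
      exact isIso_smul_generic hgen hϖ.ne_zero _
    haveI : Mono (P.map (kernel.ι g)) := mono_of_mono _ (P.map u)
    haveI : Epi (P.map (kernel.ι g)) := epi_of_epi (P.map u) _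
    have hiso : IsIso (P.map (kernel.ι g)) := isIso_of_mono_of_epi (P.map (kernel.ι g))
    exact ⟨(@asIso _ _ _ _ (P.map (kernel.ι g)) hiso) ≪≫ hJ.gen.some⟩

/-- A family of splitting modifications gives a chain. -/
theorem exists_chain
    (hsq : IsPullback i qs f (Spec.map (CommRingCat.ofHom (IsLocalRing.residue R))))
    {ϖ : R} (hϖ : Irreducible ϖ) (hG : Coh.IsCoh G)
    (T : ∀ J : X.Modules, ((Scheme.Modules.pullback i).obj J ⟶ G) → Prop)
    (hT : ∀ J π, T J π → Coh.IsCoh J ∧ FlatMod.IsFlatOver f J ∧ Epi π)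
    (hstep : ∀ J π, T J π →
      ∀ S : Modif ((Scheme.Modules.pullback i).obj J) π ((Scheme.Modules.pullback i).obj (nxt i J π)),
        ∃ σ, S.a ≫ σ = 𝟙 G ∧ T (nxt i J π) σ)
    (π : (Scheme.Modules.pullback i).obj J ⟶ G) (h0 : T J π) :
    letI : X.Over (Spec (CommRingCat.of R)) := ⟨f⟩
    ∃ (K : Chain (smulNat (X := X) ϖ)) (e : K.M 0 ≅ J)
      (e' : K.Q 0 ≅ (Scheme.Modules.pushforward i).obj G), (∀ n, Coh.IsCoh (K.M n)) ∧
      e.hom ≫ (Scheme.Modules.pullbackPushforwardAdjunction i).unit.app J ≫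
        (Scheme.Modules.pushforward i).map π = K.g 0 ≫ e'.hom := by
  letI : X.Over (Spec (CommRingCat.of R)) := ⟨f⟩
  haveI := isNoetherian_of_isProper f
  haveI : IsClosedImmersion i :=
    haveI : IsClosedImmersion (Spec.map (CommRingCat.ofHom (IsLocalRing.residue R))) :=
      IsClosedImmersion.spec_of_surjective _ IsLocalRing.residue_surjective
    MorphismProperty.of_isPullback hsq.flip inferInstance
  let P := Scheme.Modules.pushforward i
  let η := (Scheme.Modules.pullbackPushforwardAdjunction i).unit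
  let St := {p : Σ J : X.Modules, ((Scheme.Modules.pullback i).obj J ⟶ G) // T p.1 p.2}
  have hnext : ∀ p : St, ∃ (σ : (Scheme.Modules.pullback i).obj (nxt i p.1.1 p.1.2) ⟶ G)
      (u : p.1.1 ⟶ nxt i p.1.1 p.1.2), T (nxt i p.1.1 p.1.2) σ ∧
      u ≫ kernel.ι _ = Formal.smulMod R p.1.1 ϖ ∧
      η.app p.1.1 ≫ P.map p.1.2 = u ≫ η.app _ ≫ P.map σ := fun p => by
    obtain ⟨hc, hf, he⟩ := hT _ _ p.2
    obtain ⟨S, u, hu, hua⟩ := exists_modif_eq hsq hc hf p.1.2 hG hϖ
    obtain ⟨σ, hσ, hσT⟩ := hstep _ _ p.2 S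
    refine ⟨σ, u, hσT, hu, ?_⟩
    have h1 : P.map S.a ≫ P.map σ = 𝟙 (P.obj G) := by
      rw [← Functor.map_comp, hσ, CategoryTheory.Functor.map_id]
    refine Eq.trans ?_ (Category.assoc _ _ _)
    refine Eq.trans ?_ (congrArg (· ≫ P.map σ) hua)
    exact ((Category.assoc _ _ _).trans ((congrArg (_ ≫ ·) h1).trans (Category.comp_id _))).symm
  choose σ u hσT hu hua using hnext
  let seq : ℕ → St := fun n => Nat.rec ⟨⟨J, π⟩, h0⟩ (fun _ p => ⟨⟨nxt i p.1.1 p.1.2, σ p⟩, hσT p⟩) n
  let gm : ∀ p : St, p.1.1 ⟶ P.obj G := fun p => η.app p.1.1 ≫ P.map p.1.2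
  have hπ : ∀ p : St, Epi (gm p) := fun p => by
    obtain ⟨hc, hf, he⟩ := hT _ _ p.2
    haveI := hc.1
    haveI := he
    haveI : Epi (η.app p.1.1) := (unit_exact hsq p.1.1 hϖ.maximalIdeal_eq).1
    haveI : Epi (P.map p.1.2) := epi_push p.1.2
    exact epi_comp _ _
  let K : Chain (smulNat (X := X) ϖ) :=
    { M := fun n => (seq n).1.1
      Q := fun _ => P.obj G
      j := fun n => kernel.ι (gm (seq n))
      g := fun n => gm (seq n)
      u := fun n => u (seq n)
      t := fun _ => 𝟙 _
      mono_j := fun n => inferInstanceAs (Mono (kernel.ι (gm (seq n))))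
      epi_g := fun n => hπ (seq n)
      mono_t := fun _ => inferInstance
      epi_t := fun _ => inferInstance
      w := fun n => kernel.condition _
      ex := fun n => ShortComplex.exact_of_f_is_kernel _ (kernelIsKernel (gm (seq n)))
      u_j := fun n => hu (seq n)
      g_t := fun n => (Category.comp_id _).trans (hua (seq n)) }
  refine ⟨K, Iso.refl _, Iso.refl _, fun n => (hT _ _ (seq n).2).1, ?_⟩
  exact (Category.id_comp _).trans (Category.comp_id _).symm

end Groth.TFOneAux
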