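import Groth.Agent.TFOne.Quot

/-!
# Elementary modifications of torsion-free rank-one sheaves along a subcurve
-/

set_option autoImplicit false
set_option linter.style.haveILetI false
set_option backward.isDefEq.respectTransparency.types false

universe u

open CategoryTheory CategoryTheory.Limits AlgebraicGeometry TopologicalSpace

noncomputable section

namespace Groth.TFOneAux

open Duality.StalkHom (stalkMapₗ_comp_apply stalkMapₗ_zero)

variable {X : Scheme.{u}}

theorem exact_stalk {A B C : X.Modules} (f : A ⟶ B) (g : B ⟶ C) (w : f ≫ g = 0)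
    (h : (ShortComplex.mk f g w).Exact) (x : X) (b : B.presheaf.stalk x)
    (hb : RefHull.stalkMapₗ g x b = 0) : ∃ a, RefHull.stalkMapₗ f x a = b := by
  have hex := (QCohMod.exact_iff_stalk _).mp h x
  rw [ShortComplex.ab_exact_iff_function_exact] at hex
  exact (hex b).1 hb

theorem injective_stalkMap {A B : X.Modules} (f : A ⟶ B) [Mono f] (x : X) :
    Function.Injective (RefHull.stalkMapₗ f x) :=
  (QCohMod.mono_iff_stalk f).1 inferInstance x

theorem exact_kernel {A B : X.Modules} (f : A ⟶ B) (x : X) (a : A.presheaf.stalk x)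
    (ha : RefHull.stalkMapₗ f x a = 0) : ∃ c, RefHull.stalkMapₗ (kernel.ι f) x c = a :=
  exact_stalk _ _ (kernel.condition f) (ShortComplex.exact_of_f_is_kernel _ (kernelIsKernel f)) x a ha

/-- `0 → GY → M' → M → GY → 0`. -/
structure Modif (M : X.Modules) {GY : X.Modules} (πY : M ⟶ GY) (M' : X.Modules) where
  a : GY ⟶ M'
  b : M' ⟶ kernel πY
  w : a ≫ b = 0
  short : (ShortComplex.mk a b w).ShortExact
  coh : Coh.IsCoh M'

variable {M GY M' : X.Modules} {πY : M ⟶ GY} (S : Modif M πY M')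

/-- At generic points of `Y` the modification is `GY`. -/
theorem Modif.kernel_sub (hX : IsCurve X) (hM : TFOne.IsTF1 X M) [Epi πY] {η : X}
    (hη : η ∈ genericPoints (X : Type u)) (h : η ∈ CohB1.support GY) :
    Subsingleton ((kernel πY).presheaf.stalk η) :=
  subsingleton_stalk_kernel πY η (bijective_of_isRkOne hX hM.2.2 πY hη h).1

theorem Modif.surjective_a (hX : IsCurve X) (hM : TFOne.IsTF1 X M) [Epi πY] {η : X}
    (hη : η ∈ genericPoints (X : Type u)) (h : η ∈ CohB1.support GY) :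
    Function.Surjective (RefHull.stalkMapₗ S.a η) := fun m => by
  have := Modif.kernel_sub (πY := πY) hX hM hη h
  exact exact_stalk _ _ S.w S.short.exact η m (Subsingleton.elim _ _)

theorem Modif.isTF1 (S : Modif M πY M') (hX : IsCurve X) (hM : TFOne.IsTF1 X M) {Y : Set X}
    (hY : TFOne.IsQuotOn X M Y GY πY) : TFOne.IsTF1 X M' := by
  haveI := hX.noeth
  haveI := hY.1
  haveI := hY.2.1.1
  haveI : Mono S.a := S.short.mono_f
  haveI : Epi S.b := S.short.epi_g
  have hK : Coh.IsCoh (kernel πY) := QCohMod.isCoh_kernel πY hM.1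
  haveI := hK.1
  refine ⟨S.coh, fun x => ⟨fun r hr => ?_⟩, fun η hη => ?_⟩
  · intro v v' hv
    suffices key : ∀ v : M'.presheaf.stalk x, r • v = 0 → v = 0 from
      sub_eq_zero.1 (key _ (by rw [smul_sub]; exact sub_eq_zero.2 hv))
    intro v hv
    haveI := hY.2.2.1 x
    haveI := (isTorsionFree_of_mono (kernel.ι πY) hM.2.1) x
    have hb : RefHull.stalkMapₗ S.b x v = 0 :=
      (Module.IsTorsionFree.isSMulRegular hr) (by
        show r • RefHull.stalkMapₗ S.b x v = r • (0 : (kernel πY).presheaf.stalk x)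
        rw [← map_smul, hv, map_zero, smul_zero])
    obtain ⟨g, rfl⟩ := exact_stalk _ _ S.w S.short.exact x v hb
    rw [← map_smul] at hv
    have hg : r • g = r • (0 : GY.presheaf.stalk x) := by
      rw [smul_zero]
      exact injective_stalkMap S.a x (hv.trans (map_zero _).symm)
    rw [Module.IsTorsionFree.isSMulRegular hr hg, map_zero]
  · obtain ⟨e⟩ := hM.2.2 η hη
    by_cases h : η ∈ CohB1.support GY
    · exact ⟨(LinearEquiv.ofBijective (RefHull.stalkMapₗ S.a η)
        ⟨injective_stalkMap S.a η, S.surjective_a hX hM hη h⟩).symm.trans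
        ((LinearEquiv.ofBijective _ (bijective_of_isRkOne hX hM.2.2 πY hη h)).symm.trans e)⟩
    · have := subsingleton_stalk_of_not_mem h
      refine ⟨(LinearEquiv.ofBijective (RefHull.stalkMapₗ S.b η) ⟨?_, surjective_stalkMap S.b η⟩).trans
        ((LinearEquiv.ofBijective (RefHull.stalkMapₗ (kernel.ι πY) η)
          ⟨injective_stalkMap _ η, fun m => exact_kernel πY η m (Subsingleton.elim _ _)⟩).trans e)⟩
      intro v v' hv
      obtain ⟨g, hg⟩ := exact_stalk _ _ S.w S.short.exact η (v - v') (by rw [map_sub, hv, sub_self])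
      rw [Subsingleton.elim g 0, map_zero] at hg
      exact sub_eq_zero.1 hg.symm

variable {U Z W V : Set X} {GU GW GZ G4 : X.Modules} {πU : M ⟶ GU} {πW : M ⟶ GW} {πZ : M' ⟶ GZ}
  {π4 : M' ⟶ G4}

/-- The kernel of `GU → GY` is the quotient of the modification on the components of `U` outside `Y`. -/
theorem Modif.exists_outside (S : Modif M πY M') (hX : IsCurve X) (hM : TFOne.IsTF1 X M) {Y : Set X}
    (hY : TFOne.IsQuotOn X M Y GY πY) (hU : TFOne.IsQuotOn X M U GU πU)
    (hYU : ∀ η ∈ genericPoints (X : Type u), η ∈ Y → η ∈ U) :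
    ∃ (c : GU ⟶ GY) (s : kernel πY ⟶ kernel c), Epi c ∧ Epi s ∧ s ≫ kernel.ι c = kernel.ι πY ≫ πU ∧
      TFOne.IsQuotOn X M' (CohB1.support (kernel c)) (kernel c) (S.b ≫ s) ∧
      ∀ η ∈ genericPoints (X : Type u), η ∈ CohB1.support (kernel c) ↔ η ∈ U ∧ η ∉ Y := by
  haveI := hX.noeth
  haveI := hU.1
  haveI := hY.1
  haveI := hY.2.1.1
  haveI : Epi S.b := S.short.epi_g
  obtain ⟨c, hc, hce⟩ := exists_factor hX hM hU hY hYU
  let s : kernel πY ⟶ kernel c := kernel.lift c (kernel.ι πY ≫ πU)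
    (by rw [Category.assoc, hc, kernel.condition])
  have hs : s ≫ kernel.ι c = kernel.ι πY ≫ πU := kernel.lift_ι _ _ _
  haveI : Epi s := (QCohMod.epi_iff_stalk s).2 fun x g => by
    obtain ⟨m, hm⟩ := surjective_stalkMap πU x (RefHull.stalkMapₗ (kernel.ι c) x g)
    obtain ⟨m', hm'⟩ := exact_kernel πY x m (by
      rw [← hc, stalkMapₗ_comp_apply, hm, ← stalkMapₗ_comp_apply, kernel.condition, stalkMapₗ_zero])
    refine ⟨m', injective_stalkMap (kernel.ι c) x ?_⟩
    show RefHull.stalkMapₗ (kernel.ι c) x (RefHull.stalkMapₗ s x m') = _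
    rw [← stalkMapₗ_comp_apply, hs, stalkMapₗ_comp_apply, hm', hm]
  refine ⟨c, s, hce, inferInstance, hs, ⟨inferInstance, QCohMod.isCoh_kernel c hU.2.1,
    isTorsionFree_of_mono (kernel.ι c) hU.2.2.1, rfl⟩, fun η hη => ⟨fun h => ⟨?_, fun hηY => ?_⟩, ?_⟩⟩
  · by_contra hηU
    have := subsingleton_stalk_of_not_mem (hU.2.2.2.symm ▸ hηU : η ∉ CohB1.support GU)
    exact h ((injective_stalkMap (kernel.ι c) η).subsingleton)
  · have := Modif.kernel_sub (πY := πY) hX hM hη (hY.2.2.2.symm ▸ hηY)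
    exact h (surjective_stalkMap s η).subsingleton
  · rintro ⟨hηU, hηY⟩ hs'
    haveI : Subsingleton ((kernel c).presheaf.stalk η) := hs'
    have := subsingleton_stalk_of_not_mem (hY.2.2.2.symm ▸ hηY : η ∉ CohB1.support GY)
    have hmem : η ∈ CohB1.support GU := hU.2.2.2.symm ▸ hηU
    refine hmem ⟨fun u v => sub_eq_zero.1 ?_⟩
    obtain ⟨d, hd⟩ := exact_kernel c η (u - v) (Subsingleton.elim _ _)
    rw [← hd, Subsingleton.elim d 0, map_zero]

variable (φ : X.Modules → ℤ)

/-- The numerical relations between the quotients of a sheaf and of its modification. -/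
theorem Modif.exists_defect (S : Modif M πY M') (hX : IsCurve X)
    (hadd : ∀ S : ShortComplex X.Modules, S.ShortExact → Coh.IsCoh S.X₁ → Coh.IsCoh S.X₂ →
      Coh.IsCoh S.X₃ → φ S.X₂ = φ S.X₁ + φ S.X₃)
    (hM : TFOne.IsTF1 X M) {Y : Set X}
    (hY : TFOne.IsQuotOn X M Y GY πY) (hU : TFOne.IsQuotOn X M U GU πU)
    (hW : TFOne.IsQuotOn X M W GW πW) (hZ : TFOne.IsQuotOn X M' Z GZ πZ)
    (hUYZ : ∀ η ∈ genericPoints (X : Type u), η ∈ U ↔ η ∈ Y ∨ η ∈ Z)
    (hWYZ : ∀ η ∈ genericPoints (X : Type u), η ∈ W ↔ η ∈ Y ∧ η ∈ Z)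
    (hiso : ∀ {A B : X.Modules}, (A ≅ B) → φ A = φ B) :
    ∃ D : X.Modules, Coh.IsCoh D ∧ EulerDeg.SupportedAtClosed D ∧
      φ GZ + φ GY = φ GU + φ GW + φ D ∧
      ((∀ η ∈ genericPoints (X : Type u), η ∈ Y ∨ η ∈ Z) → IsZero D) := by
  haveI := hX.noeth
  haveI := hY.1
  haveI := hZ.1
  haveI := hZ.2.1.1
  haveI := hU.1
  haveI := hY.2.1.1
  haveI : Mono S.a := S.short.mono_f
  haveI : Epi S.b := S.short.epi_g
  have hM' := S.isTF1 hX hM hY
  obtain ⟨c, s, hce, hse, hsι, hK, hKs⟩ := S.exists_outside hX hM hY hU fun η hη h =>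
    (hUYZ η hη).2 (.inl h)
  have hKc : Coh.IsCoh (kernel c) := hK.2.1
  haveI := hKc.1
  obtain ⟨h, hh, hhe⟩ := exists_factor hX hM' hZ hK fun η hη hk =>
    (((hUYZ η hη).1 ((hKs η hη).1 hk).1)).resolve_left ((hKs η hη).1 hk).2
  let f := S.a ≫ πZ
  have hfh : f ≫ h = 0 := by
    simp only [f, Category.assoc, hh]
    rw [← Category.assoc, S.w, zero_comp]
  let α : Abelian.image f ⟶ kernel h := kernel.lift h (Abelian.image.ι f) (by
    rw [← cancel_epi (Abelian.factorThruImage f), ← Category.assoc, Abelian.image.fac, hfh, comp_zero])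
  have hα : α ≫ kernel.ι h = Abelian.image.ι f := kernel.lift_ι _ _ _
  haveI : Mono α := mono_of_mono_fac hα
  have hA : Coh.IsCoh (Abelian.image f) := QCohMod.isCoh_kernel (cokernel.π f) hZ.2.1
  haveI := hA.1
  have hL : Coh.IsCoh (kernel h) := QCohMod.isCoh_kernel h hZ.2.1
  haveI := hL.1
  have hD : Coh.IsCoh (cokernel α) := QCohMod.isCoh_cokernel α hL
  have hAq : TFOne.IsQuotOn X M (CohB1.support (Abelian.image f)) (Abelian.image f)
      (πY ≫ Abelian.factorThruImage f) :=
    ⟨inferInstance, hA, isTorsionFree_of_mono (Abelian.image.ι f) hZ.2.2.1, rfl⟩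
  have hAs : ∀ η ∈ genericPoints (X : Type u), η ∈ CohB1.support (Abelian.image f) ↔ η ∈ W := by
    intro η hη
    rw [hWYZ η hη]
    refine ⟨fun hs => ⟨?_, ?_⟩, fun ⟨hηY, hηZ⟩ hs => ?_⟩
    · by_contra hηY
      have := subsingleton_stalk_of_not_mem (hY.2.2.2.symm ▸ hηY : η ∉ CohB1.support GY)
      exact hs (surjective_stalkMap (Abelian.factorThruImage f) η).subsingleton
    · by_contra hηZ
      have := subsingleton_stalk_of_not_mem (hZ.2.2.2.symm ▸ hηZ : η ∉ CohB1.support GZ)
      exact hs (injective_stalkMap (Abelian.image.ι f) η).subsingleton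
    · haveI : Subsingleton ((Abelian.image f).presheaf.stalk η) := hs
      have hmem : η ∈ CohB1.support GY := hY.2.2.2.symm ▸ hηY
      refine hmem ⟨fun u v => injective_stalkMap S.a η
        ((bijective_of_isRkOne hX hM'.2.2 πZ hη (hZ.2.2.2.symm ▸ hηZ)).1 ?_)⟩
      rw [← stalkMapₗ_comp_apply, ← stalkMapₗ_comp_apply, show S.a ≫ πZ = f from rfl,
        ← Abelian.image.fac f, stalkMapₗ_comp_apply, stalkMapₗ_comp_apply,
        Subsingleton.elim (RefHull.stalkMapₗ (Abelian.factorThruImage f) η u)]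
  obtain ⟨e, -⟩ := exists_iso hX hM hAq hW hAs
  -- elements of `kernel h` coming from `GY`
  have lift : ∀ (x : X) (l : (kernel h).presheaf.stalk x) (g : GY.presheaf.stalk x),
      RefHull.stalkMapₗ (kernel.ι h) x l = RefHull.stalkMapₗ f x g →
        ∃ t, RefHull.stalkMapₗ α x t = l := fun x l g hg =>
    ⟨RefHull.stalkMapₗ (Abelian.factorThruImage f) x g, injective_stalkMap (kernel.ι h) x (by
      rw [← stalkMapₗ_comp_apply, hα, ← stalkMapₗ_comp_apply, Abelian.image.fac, hg])⟩
  have hcok : ∀ (x : X), Function.Surjective (RefHull.stalkMapₗ α x) →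
      Subsingleton ((cokernel α).presheaf.stalk x) := fun x hs => ⟨fun u v => by
    suffices key : ∀ u : (cokernel α).presheaf.stalk x, u = 0 from (key u).trans (key v).symm
    intro u
    obtain ⟨l, rfl⟩ := surjective_stalkMap (cokernel.π α) x u
    obtain ⟨t, rfl⟩ := hs l
    rw [← stalkMapₗ_comp_apply, cokernel.condition, stalkMapₗ_zero]⟩
  refine ⟨cokernel α, hD, supportedAtClosed_of_generic hX fun η hη => hcok η fun l => ?_, ?_,
    fun hfull => (QCohMod.isZero_iff_support_eq_empty _).2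
      (Set.eq_empty_iff_forall_notMem.2 fun x hx => hx (hcok x fun l => ?_))⟩
  · by_cases hηY : η ∈ Y
    · obtain ⟨m, hm⟩ := surjective_stalkMap πZ η (RefHull.stalkMapₗ (kernel.ι h) η l)
      obtain ⟨g, rfl⟩ := S.surjective_a hX hM hη (hY.2.2.2.symm ▸ hηY) m
      exact lift η l g (hm.symm.trans (stalkMapₗ_comp_apply _ _ _ _).symm)
    · refine lift η l 0 ?_
      rw [map_zero]
      by_cases hηZ : η ∈ Z
      · have hbij := bijective_of_isRkOne hX hM'.2.2 (S.b ≫ s) hη
          ((hKs η hη).2 ⟨(hUYZ η hη).2 (.inr hηZ), hηY⟩)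
        obtain ⟨m, hm⟩ := surjective_stalkMap πZ η (RefHull.stalkMapₗ (kernel.ι h) η l)
        have hm0 : m = 0 := hbij.1 (by
          rw [map_zero, ← hh, stalkMapₗ_comp_apply, hm, ← stalkMapₗ_comp_apply, kernel.condition,
            stalkMapₗ_zero])
        rw [← hm, hm0, map_zero]
      · have := subsingleton_stalk_of_not_mem (hZ.2.2.2.symm ▸ hηZ : η ∉ CohB1.support GZ)
        exact Subsingleton.elim _ _
  · have h1 : φ GZ = φ (kernel h) + φ (kernel c) := by
      have hS : (ShortComplex.mk (kernel.ι h) h (kernel.condition h)).ShortExact :=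
        { exact := ShortComplex.exact_of_f_is_kernel _ (kernelIsKernel h) }
      exact hadd _ hS hL hZ.2.1 hKc
    have h2 : φ GU = φ (kernel c) + φ GY := by
      have hS : (ShortComplex.mk (kernel.ι c) c (kernel.condition c)).ShortExact :=
        { exact := ShortComplex.exact_of_f_is_kernel _ (kernelIsKernel c) }
      exact hadd _ hS hKc hU.2.1 hY.2.1
    have h3 : φ (kernel h) = φ (Abelian.image f) + φ (cokernel α) := by
      have hS : (ShortComplex.mk α (cokernel.π α) (cokernel.condition α)).ShortExact :=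
        { exact := ShortComplex.exact_of_g_is_cokernel _ (cokernelIsCokernel α) }
      exact hadd _ hS hA hL hD
    have h4 := hiso e
    omega
  · -- `U` is everything, so `πU` is injective
    haveI : Mono πU := Preadditive.mono_of_isZero_kernel πU (isZero_of_generic hX hM.2.1
      (kernel.ι πU) (have := hU.2.1.1; QCohMod.isCoh_kernel πU hM.1) fun η hη =>
        subsingleton_stalk_kernel πU η (bijective_of_isRkOne hX hM.2.2 πU hη
          (hU.2.2.2.symm ▸ (hUYZ η hη).2 (hfull η hη))).1)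
    haveI : Mono s := by
      haveI : Mono (kernel.ι πY ≫ πU) := mono_comp _ _
      exact mono_of_mono_fac hsι
    obtain ⟨m, hm⟩ := surjective_stalkMap πZ x (RefHull.stalkMapₗ (kernel.ι h) x l)
    have hb : RefHull.stalkMapₗ S.b x m = 0 := injective_stalkMap s x (by
      rw [map_zero, ← stalkMapₗ_comp_apply, ← hh, stalkMapₗ_comp_apply, hm, ← stalkMapₗ_comp_apply,
        kernel.condition, stalkMapₗ_zero])
    obtain ⟨g, rfl⟩ := exact_stalk _ _ S.w S.short.exact x m hb
    exact lift x l g (hm.symm.trans (stalkMapₗ_comp_apply _ _ _ _).symm)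

/-- `φ(GU) = φ(GY) + φ(M'_{U ∖ Y})`. -/
theorem Modif.outside_eq (S : Modif M πY M') (hX : IsCurve X)
    (hadd : ∀ S : ShortComplex X.Modules, S.ShortExact → Coh.IsCoh S.X₁ → Coh.IsCoh S.X₂ →
      Coh.IsCoh S.X₃ → φ S.X₂ = φ S.X₁ + φ S.X₃)
    (hiso : ∀ {A B : X.Modules}, (A ≅ B) → φ A = φ B)
    (hM : TFOne.IsTF1 X M) {Y : Set X}
    (hY : TFOne.IsQuotOn X M Y GY πY) (hU : TFOne.IsQuotOn X M U GU πU)
    (h4 : TFOne.IsQuotOn X M' V G4 π4)
    (hYU : ∀ η ∈ genericPoints (X : Type u), η ∈ Y → η ∈ U)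
    (hV : ∀ η ∈ genericPoints (X : Type u), η ∈ V ↔ η ∈ U ∧ η ∉ Y) :
    φ GU = φ GY + φ G4 := by
  obtain ⟨c, s, hce, -, -, hK, hKs⟩ := S.exists_outside hX hM hY hU hYU
  have hS : (ShortComplex.mk (kernel.ι c) c (kernel.condition c)).ShortExact :=
    { exact := ShortComplex.exact_of_f_is_kernel _ (kernelIsKernel c) }
  have h1 := hadd _ hS hK.2.1 hU.2.1 hY.2.1
  obtain ⟨e, -⟩ := exists_iso hX (S.isTF1 hX hM hY) hK h4 fun η hη => (hKs η hη).trans (hV η hη).symm
  have h2 := hiso e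
  simp only at h1
  omega

end Groth.TFOneAux
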