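import Groth.Agent.TFOne.Family
import Groth.Agent.TFOne.Beta
import Groth.Agent.LocFree.Basic

/-!
# The numbers `β` of a modification
-/

set_option autoImplicit false
set_option linter.style.haveILetI false
set_option backward.isDefEq.respectTransparency.types false

universe u

open CategoryTheory CategoryTheory.Limits AlgebraicGeometry TopologicalSpace

noncomputable section

namespace Groth.TFOneAux

variable {R : Type u} [CommRing R] [IsDomain R] [IsDiscreteValuationRing R] {X : Scheme.{u}}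
  {f : X ⟶ Spec (CommRingCat.of R)} [IsProper f] {Xs : Scheme.{u}}
  [Xs.Over (Spec (CommRingCat.of (IsLocalRing.ResidueField R)))] {i : Xs ⟶ X}

theorem isProper_fibre
    (hsq : IsPullback i (Xs ↘ Spec (CommRingCat.of (IsLocalRing.ResidueField R))) f
      (Spec.map (CommRingCat.ofHom (IsLocalRing.residue R)))) :
    IsProper (Xs ↘ Spec (CommRingCat.of (IsLocalRing.ResidueField R))) :=
  MorphismProperty.of_isPullback hsq inferInstance

theorem exists_modif'
    (hsq : IsPullback i (Xs ↘ Spec (CommRingCat.of (IsLocalRing.ResidueField R))) f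
      (Spec.map (CommRingCat.ofHom (IsLocalRing.residue R))))
    {I : X.Modules} (hIc : Coh.IsCoh I) (hIf : FlatMod.IsFlatOver f I) {Y : Set Xs} {GY : Xs.Modules}
    (πY : (Scheme.Modules.pullback i).obj I ⟶ GY)
    (hGY : TFOne.IsQuotOn Xs ((Scheme.Modules.pullback i).obj I) Y GY πY) {IY : X.Modules}
    (hIY : IY = kernel ((Scheme.Modules.pullbackPushforwardAdjunction i).unit.app I ≫
      (Scheme.Modules.pushforward i).map πY)) :
    Nonempty (Modif ((Scheme.Modules.pullback i).obj I) πY ((Scheme.Modules.pullback i).obj IY)) := by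
  subst hIY
  haveI : IsLocallyNoetherian X := LocallyOfFiniteType.isLocallyNoetherian f
  haveI : CompactSpace X := QuasiCompact.compactSpace_of_compactSpace f
  haveI : IsNoetherian X := {}
  haveI := hGY.1
  exact exists_modif hsq hIc hIf πY hGY.2.1

variable {k : Type u} [Field k] {Z : Scheme.{u}} [Z.Over (Spec (CommRingCat.of k))]
  [IsProper (Z ↘ Spec (CommRingCat.of k))] {M M' GY : Z.Modules} {πY : M ⟶ GY} {E : Z.Modules} {r : ℕ}

omit [IsProper (Z ↘ Spec (CommRingCat.of k))] in
theorem isClosed_sUnion_components [hN : IsNoetherian Z] {S : Set (Set Z)}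
    (hS : S ⊆ irreducibleComponents (Z : Type u)) : IsClosed (⋃₀ S) :=
  Set.sUnion_eq_biUnion ▸ ((TopologicalSpace.NoetherianSpace.finite_irreducibleComponents).subset hS).isClosed_biUnion
    fun C hC => isClosed_of_mem_irreducibleComponents C (hS hC)

omit [IsProper (Z ↘ Spec (CommRingCat.of k))] in
theorem union_components_eq {S : Set (Set Z)} (hS : S ⊆ irreducibleComponents (Z : Type u)) :
    ⋃₀ S = ⋃₀ {C | C ∈ irreducibleComponents (Z : Type u) ∧ C ⊆ ⋃₀ S} :=
  subset_antisymm (Set.sUnion_subset_sUnion fun C hC => ⟨hS hC, Set.subset_sUnion_of_mem hC⟩)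
    (Set.sUnion_subset fun _ hC => hC.2)

/-- A quotient on any union of components. -/
theorem exists_quot_on_union (hX : IsCurve Z) (hM : TFOne.IsTF1 Z M) {S : Set (Set Z)}
    (hS : S ⊆ irreducibleComponents (Z : Type u)) :
    ∃ (G : Z.Modules) (π : M ⟶ G), TFOne.IsQuotOn Z M (⋃₀ S) G π := by
  haveI := hX.noeth
  obtain ⟨G, π, hG, hGP⟩ := exists_quotOn hX hM (fun η => η ∈ ⋃₀ S)
  have h := support_eq_sUnion hX hG.2.1 hG.2.2.1 (isClosed_sUnion_components hS)
    (union_components_eq hS) hGP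
  exact ⟨G, π, h ▸ hG⟩

omit [IsProper (Z ↘ Spec (CommRingCat.of k))] in
/-- A rank-one sheaf is its own quotient on everything. -/
theorem isQuotOn_self (hX : IsCurve Z) (hM : TFOne.IsTF1 Z M) :
    TFOne.IsQuotOn Z M Set.univ M (𝟙 M) := by
  refine ⟨inferInstance, hM.1, hM.2.1, support_eq_sUnion hX hM.1 hM.2.1 isClosed_univ ?_
    fun η hη => iff_of_true (mem_support_of_generic hM.2.2 hη) trivial⟩
  refine (Set.eq_univ_of_forall fun x => ?_).symm
  obtain ⟨C, hC, hxC⟩ := exists_mem_irreducibleComponents_subset_of_isIrreducible _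
    (isIrreducible_singleton (x := x))
  exact ⟨C, ⟨hC, Set.subset_univ _⟩, hxC rfl⟩

theorem phi_isZero (hE : FlatMod.IsFinLocFreeOfRank r E) {D : Z.Modules} (hDc : Coh.IsCoh D)
    (hD : IsZero D) : phi k E r D = 0 := by
  rw [phi_of_supportedAtClosed k hE hDc fun x hx => absurd hx (by
      rw [(QCohMod.isZero_iff_support_eq_empty D).1 hD]; exact fun h => h)]
  rw [EulerDeg.euler_of_isZero fun n => Sheaf.subsingleton_H_of_isZero ((CohBase.toAbF Z).map_isZero hD) n,
    mul_zero]

omit [IsProper (Z ↘ Spec (CommRingCat.of k))] in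
theorem euler_isZero {D : Z.Modules} (hD : IsZero D) : Curv2.euler k Z D = 0 :=
  EulerDeg.euler_of_isZero fun n => Sheaf.subsingleton_H_of_isZero ((CohBase.toAbF Z).map_isZero hD) n

variable {U W V : Set Z} {GU GW GZ G4 : Z.Modules} {πU : M ⟶ GU} {πW : M ⟶ GW} {πZ : M' ⟶ GZ}
  {π4 : M' ⟶ G4} {Y T : Set Z}

/-- The two identities: for `χ` and for `β`. -/
theorem Modif.numeric (S : Modif M πY M') (hX : IsCurve Z) (hE : FlatMod.IsFinLocFreeOfRank r E)
    (hM : TFOne.IsTF1 Z M)
    (hY : TFOne.IsQuotOn Z M Y GY πY) (hU : TFOne.IsQuotOn Z M U GU πU)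
    (hW : TFOne.IsQuotOn Z M W GW πW) (hT : TFOne.IsQuotOn Z M' T GZ πZ)
    (hUYZ : ∀ η ∈ genericPoints (Z : Type u), η ∈ U ↔ η ∈ Y ∨ η ∈ T)
    (hWYZ : ∀ η ∈ genericPoints (Z : Type u), η ∈ W ↔ η ∈ Y ∧ η ∈ T) :
    ∃ n : ℤ, 0 ≤ n ∧
      Curv2.euler k Z GZ + Curv2.euler k Z GY = Curv2.euler k Z GU + Curv2.euler k Z GW + n ∧
      phi k E r GZ + phi k E r GY = phi k E r GU + phi k E r GW + r * n ∧
      ((∀ η ∈ genericPoints (Z : Type u), η ∈ Y ∨ η ∈ T) → n = 0) := by
  haveI := hX.noeth
  let φ : Z.Modules → ℤ := fun A => Curv2.euler k Z A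
  obtain ⟨D, hD, hDs, h1, h0⟩ := S.exists_defect φ hX
    (fun S hS a _ c => DecShCurve.euler_ses k hS a c) hM hY hU hW hT hUYZ hWYZ
    (fun e => EulerDeg.euler_congr k e)
  obtain ⟨D', hD', hDs', h2, h0'⟩ := S.exists_defect (phi k E r) hX
    (fun S hS a b c => phi_add k hE hS a b c) hM hY hU hW hT hUYZ hWYZ (fun e => phi_congr k e)
  -- compare the two defects through the difference function
  obtain ⟨D'', hD'', hDs'', h3, -⟩ := S.exists_defect (fun A => EulerDeg.tensorDefect k E r A) hX
    (fun S hS a b c => EulerDeg.tensorDefect_add k hE hS a b c) hM hY hU hW hT hUYZ hWYZ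
    (fun {A B} e => by
      simp only [EulerDeg.tensorDefect, EulerDeg.euler_congr k e]
      rw [show Curv2.euler k Z (CohB1.tensorMod E A) = Curv2.euler k Z (CohB1.tensorMod E B) from
        EulerDeg.euler_congr k (((DCoh.tensorBi (X := Z)).obj E).mapIso e)])
  refine ⟨φ D, EulerDeg.euler_nonneg k hDs, h1, ?_, fun hfull => euler_isZero (h0 hfull)⟩
  rw [EulerDeg.tensorDefect_of_supportedAtClosed k hE hD'' hDs''] at h3
  simp only [phi, φ] at h1 h3 ⊢
  linear_combination (r : ℤ) * h1 + h3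

/-- A decomposition is detected by the Euler characteristics. -/
theorem isIso_lift_iff_euler (hX : IsCurve Z) (hM : TFOne.IsTF1 Z M) {G1 G2 : Z.Modules} {A B : Set Z}
    {π1 : M ⟶ G1} {π2 : M ⟶ G2} (h1 : TFOne.IsQuotOn Z M A G1 π1) (h2 : TFOne.IsQuotOn Z M B G2 π2)
    (hAB : ∀ η ∈ genericPoints (Z : Type u), η ∈ A ↔ η ∉ B) :
    IsIso (biprod.lift π1 π2) ↔
      Curv2.euler k Z M = Curv2.euler k Z G1 + Curv2.euler k Z G2 := by
  haveI := hX.noeth
  haveI := h1.1
  haveI := h2.1
  have hb : Coh.IsCoh (G1 ⊞ G2) := QCohMod.isCoh_biprod h1.2.1 h2.2.1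
  haveI := hb.1
  haveI := hM.1.1
  have hsum : Curv2.euler k Z (G1 ⊞ G2) = Curv2.euler k Z G1 + Curv2.euler k Z G2 := by
    have h3 := DecShCurve.euler_mono k (biprod.inl : G1 ⟶ G1 ⊞ G2) h1.2.1 hb
    rw [EulerDeg.euler_congr k (cokernelBiprodInlIso (X := G1) (Y := G2))] at h3
    exact h3
  let l := biprod.lift π1 π2
  haveI : Mono l := by
    refine Preadditive.mono_of_isZero_kernel l (isZero_of_generic hX hM.2.1 (kernel.ι l)
      (QCohMod.isCoh_kernel l hM.1) fun η hη => subsingleton_stalk_kernel l η fun u v huv => ?_)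
    have key : ∀ {G : Z.Modules} (q : G1 ⊞ G2 ⟶ G) (π : M ⟶ G), l ≫ q = π → [Epi π] →
        η ∈ CohB1.support G → u = v := fun q π e _ hG =>
      (bijective_of_isRkOne hX hM.2.2 π hη hG).1 (by
        rw [← e, Duality.StalkHom.stalkMapₗ_comp_apply, Duality.StalkHom.stalkMapₗ_comp_apply, huv])
    by_cases hB : η ∈ B
    · exact key biprod.snd π2 (biprod.lift_snd _ _) (h2.2.2.2.symm ▸ hB)
    · exact key biprod.fst π1 (biprod.lift_fst _ _) (h1.2.2.2.symm ▸ (hAB η hη).2 hB)
  constructor
  · intro hiso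
    haveI : IsIso l := hiso
    rw [← hsum]
    exact EulerDeg.euler_congr k (asIso l)
  · intro he
    have h3 := DecShCurve.euler_mono k l hM.1 hb
    have hC : Coh.IsCoh (cokernel l) := QCohMod.isCoh_cokernel l hb
    have hs : EulerDeg.SupportedAtClosed (cokernel l) := supportedAtClosed_of_generic hX fun η hη => by
      let s1 : G1 ⟶ cokernel l := biprod.inl ≫ cokernel.π l
      let s2 : G2 ⟶ cokernel l := biprod.inr ≫ cokernel.π l
      have hst : π1 ≫ s1 + π2 ≫ s2 = 0 := by
        have : l = π1 ≫ biprod.inl + π2 ≫ biprod.inr := by apply biprod.hom_ext <;> simp [l]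
        simp only [s1, s2, ← Category.assoc, ← Preadditive.add_comp, ← this, cokernel.condition]
      have hone : ∀ {G G' : Z.Modules} (q : M ⟶ G) (q' : M ⟶ G') (s : G ⟶ cokernel l)
          (s' : G' ⟶ cokernel l), [Epi q] → q ≫ s + q' ≫ s' = 0 → η ∉ CohB1.support G' →
            ∀ a, RefHull.stalkMapₗ s η a = 0 := fun q q' s s' _ e hG' a => by
        obtain ⟨m, rfl⟩ := surjective_stalkMap q η a
        have := subsingleton_stalk_of_not_mem hG'
        have e' := congrArg (fun z => RefHull.stalkMapₗ z η m) e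
        simp only [stalkMap_add, Duality.StalkHom.stalkMapₗ_zero,
          Duality.StalkHom.stalkMapₗ_comp_apply] at e'
        rw [Subsingleton.elim (RefHull.stalkMapₗ q' η m) 0, map_zero, add_zero] at e'
        exact e'
      refine ⟨fun u v => ?_⟩
      suffices key : ∀ u : (cokernel l).presheaf.stalk η, u = 0 from (key u).trans (key v).symm
      intro u
      obtain ⟨p, rfl⟩ := surjective_stalkMap (cokernel.π l) η u
      have hp : p = RefHull.stalkMapₗ biprod.inl η (RefHull.stalkMapₗ biprod.fst η p) +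
          RefHull.stalkMapₗ biprod.inr η (RefHull.stalkMapₗ biprod.snd η p) := by
        rw [← Duality.StalkHom.stalkMapₗ_comp_apply, ← Duality.StalkHom.stalkMapₗ_comp_apply,
          ← stalkMap_add, biprod.total, stalkMap_id]
      rw [hp, map_add, ← Duality.StalkHom.stalkMapₗ_comp_apply biprod.inl (cokernel.π l),
        ← Duality.StalkHom.stalkMapₗ_comp_apply biprod.inr (cokernel.π l)]
      by_cases hB : η ∈ B
      · have hn : η ∉ CohB1.support G1 := fun h => (hAB η hη).1 (h1.2.2.2 ▸ h) hB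
        have := subsingleton_stalk_of_not_mem hn
        rw [Subsingleton.elim (RefHull.stalkMapₗ biprod.fst η p) 0, map_zero, zero_add]
        exact hone π2 π1 s2 s1 (by rw [add_comm]; exact hst) hn _
      · have hn : η ∉ CohB1.support G2 := fun h => hB (h2.2.2.2 ▸ h)
        have := subsingleton_stalk_of_not_mem hn
        rw [Subsingleton.elim (RefHull.stalkMapₗ biprod.snd η p) 0, map_zero, add_zero]
        exact hone π1 π2 s1 s2 hst hn _
    have hz := EulerDeg.isZero_of_euler_nonpos k hC hs (by omega)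
    haveI : Epi l := Preadditive.epi_of_isZero_cokernel l hz
    exact isIso_of_mono_of_epi l

end Groth.TFOneAux
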