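import Groth.Agent.TFOne.Assemble
import Groth.Agent.TFOne.Decompose

/-!
# Torsion-free quotients indexed by sets of components
-/

set_option autoImplicit false
set_option linter.style.haveILetI false
set_option backward.isDefEq.respectTransparency.types false

universe u

open CategoryTheory CategoryTheory.Limits AlgebraicGeometry TopologicalSpace

noncomputable section

namespace Groth.TFOneAux

open Duality.StalkHom (stalkMapₗ_comp_apply stalkMapₗ_zero)

/-- The generic points of the components. -/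
abbrev Gen (X : Scheme.{u}) : Type u := {η : X // η ∈ genericPoints (X : Type u)}

variable {X : Scheme.{u}}

theorem finite_gen [IsNoetherian X] : Finite (Gen X) :=
  (Curves1.CurveMor.finite_genericPoints (X := X)).to_subtype

/-- `(G, π)` is the torsion-free quotient of `M` on the components in `P`. -/
structure IsQ (M : X.Modules) (P : Set (Gen X)) (G : X.Modules) (π : M ⟶ G) : Prop where
  epi : Epi π
  coh : Coh.IsCoh G
  tf : _root_.TorSh.IsTorsionFree G
  supp : ∀ η : Gen X, η.1 ∈ CohB1.support G ↔ η ∈ P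

variable {M M' G G' : X.Modules} {P Q T : Set (Gen X)} {π : M ⟶ G} {π' : M ⟶ G'}

theorem IsQ.quotOn (h : IsQ M P G π) : TFOne.IsQuotOn X M (CohB1.support G) G π :=
  ⟨h.epi, h.coh, h.tf, rfl⟩

theorem IsQ.of_quotOn {Y : Set X} (h : TFOne.IsQuotOn X M Y G π) : IsQ M {η | η.1 ∈ Y} G π :=
  ⟨h.1, h.2.1, h.2.2.1, fun η => by rw [h.2.2.2]; rfl⟩

theorem exists_isQ (hX : IsCurve X) (hM : TFOne.IsTF1 X M) (P : Set (Gen X)) :
    ∃ (G : X.Modules) (π : M ⟶ G), IsQ M P G π := by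
  obtain ⟨G, π, hG, hP⟩ := exists_quotOn hX hM fun η => ∃ h, (⟨η, h⟩ : Gen X) ∈ P
  exact ⟨G, π, hG.1, hG.2.1, hG.2.2.1, fun η =>
    (hP η.1 η.2).trans ⟨fun ⟨_, h⟩ => h, fun h => ⟨η.2, h⟩⟩⟩

theorem IsQ.iso (hX : IsCurve X) (hM : TFOne.IsTF1 X M) (h : IsQ M P G π) (h' : IsQ M P G' π') :
    ∃ e : G ≅ G', π ≫ e.hom = π' :=
  exists_iso hX hM h.quotOn h'.quotOn fun η hη => (h.supp ⟨η, hη⟩).trans (h'.supp ⟨η, hη⟩).symm

open Classical in
/-- A function of the torsion-free quotient on `P`. -/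
def qv (φ : X.Modules → ℤ) (M : X.Modules) (P : Set (Gen X)) : ℤ :=
  if h : ∃ (G : X.Modules) (π : M ⟶ G), IsQ M P G π then φ h.choose else 0

theorem qv_eq (hX : IsCurve X) (hM : TFOne.IsTF1 X M) {φ : X.Modules → ℤ}
    (hφ : ∀ {A B : X.Modules}, (A ≅ B) → φ A = φ B) (h : IsQ M P G π) : qv φ M P = φ G := by
  have he : ∃ (G : X.Modules) (π : M ⟶ G), IsQ M P G π := ⟨G, π, h⟩
  rw [qv, dif_pos he]
  obtain ⟨π₀, h₀⟩ := he.choose_spec
  exact hφ (h₀.iso hX hM h).choose

theorem isQ_univ (hX : IsCurve X) (hM : TFOne.IsTF1 X M) : IsQ M Set.univ M (𝟙 M) :=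
  ⟨inferInstance, hM.1, hM.2.1, fun η => iff_of_true (mem_support_of_generic hM.2.2 η.2) trivial⟩

variable {k : Type u} [Field k] [X.Over (Spec (CommRingCat.of k))] {E : X.Modules} {r : ℕ}

/-- `β` on the pattern `P`. -/
def bPat (k : Type u) [Field k] [X.Over (Spec (CommRingCat.of k))] (E : X.Modules) (r : ℕ)
    (M : X.Modules) (P : Set (Gen X)) : ℤ :=
  qv (phi k E r) M P

theorem bPat_eq (hX : IsCurve X) (hM : TFOne.IsTF1 X M) (h : IsQ M P G π) :
    bPat k E r M P = phi k E r G :=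
  qv_eq hX hM (fun e => phi_congr k e) h

variable [IsProper (X ↘ Spec (CommRingCat.of k))]

theorem bPat_empty (hX : IsCurve X) (hE : FlatMod.IsFinLocFreeOfRank r E) (hM : TFOne.IsTF1 X M) :
    bPat k E r M ∅ = 0 := by
  haveI := hX.noeth
  obtain ⟨G, π, h⟩ := exists_isQ hX hM ∅
  haveI := h.coh.1
  rw [bPat_eq hX hM h]
  refine phi_isZero hE h.coh ((QCohMod.isZero_iff_support_eq_empty G).2 ?_)
  rw [support_eq hX h.coh h.tf]
  simp only [Set.iUnion_eq_empty]
  exact fun η hη => absurd ((h.supp ⟨η, hη.1⟩).1 hη.2) (Set.notMem_empty _)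

theorem bPat_univ (hX : IsCurve X) (hM : TFOne.IsTF1 X M) : bPat k E r M Set.univ = phi k E r M :=
  bPat_eq hX hM (isQ_univ hX hM)

variable {S₀ : Modif M π M'}

theorem Modif.isTF1' (S : Modif M π M') (hX : IsCurve X) (hM : TFOne.IsTF1 X M) (hY : IsQ M P G π) :
    TFOne.IsTF1 X M' := S.isTF1 hX hM hY.quotOn

/-- `β^Y(T) + β(Y) ≥ β(Y ∪ T) + β(Y ∩ T)`. -/
theorem Modif.bPat_le (S : Modif M π M') (hX : IsCurve X) (hE : FlatMod.IsFinLocFreeOfRank r E)
    (hM : TFOne.IsTF1 X M) (hY : IsQ M P G π) (T : Set (Gen X)) :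
    bPat k E r M (P ∪ T) + bPat k E r M (P ∩ T) ≤ bPat k E r M' T + bPat k E r M P := by
  have hM' := S.isTF1' hX hM hY
  obtain ⟨GU, πU, hU⟩ := exists_isQ hX hM (P ∪ T)
  obtain ⟨GW, πW, hW⟩ := exists_isQ hX hM (P ∩ T)
  obtain ⟨GZ, πZ, hZ⟩ := exists_isQ hX hM' T
  obtain ⟨n, hn, -, h, -⟩ := S.numeric (k := k) hX hE hM hY.quotOn hU.quotOn hW.quotOn hZ.quotOn
    (fun η hη => ((hU.supp ⟨η, hη⟩).trans (or_congr (hY.supp ⟨η, hη⟩).symm (hZ.supp ⟨η, hη⟩).symm)))
    (fun η hη => ((hW.supp ⟨η, hη⟩).trans (and_congr (hY.supp ⟨η, hη⟩).symm (hZ.supp ⟨η, hη⟩).symm)))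
  rw [bPat_eq hX hM hU, bPat_eq hX hM hW, bPat_eq hX hM' hZ, bPat_eq hX hM hY, h]
  have : (0 : ℤ) ≤ r * n := mul_nonneg (Int.natCast_nonneg r) hn
  linarith

theorem phi_kernel (hE : FlatMod.IsFinLocFreeOfRank r E) (hM : Coh.IsCoh M) (hY : IsQ M P G π) :
    phi k E r M = phi k E r (kernel π) + phi k E r G := by
  haveI := hM.1
  haveI := hY.coh.1
  haveI := hY.epi
  haveI := EulerDeg.isNoetherian_of_proper k X
  exact phi_add k hE (S := ShortComplex.mk (kernel.ι π) π (kernel.condition π))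
    { exact := ShortComplex.exact_of_f_is_kernel _ (kernelIsKernel π) }
    (QCohMod.isCoh_kernel π hM) hM hY.coh

theorem Modif.bPat_univ_eq (S : Modif M π M') (hX : IsCurve X) (hE : FlatMod.IsFinLocFreeOfRank r E)
    (hM : TFOne.IsTF1 X M) (hY : IsQ M P G π) :
    bPat k E r M' Set.univ = bPat k E r M Set.univ := by
  haveI := hM.1.1
  haveI := hY.coh.1
  haveI := EulerDeg.isNoetherian_of_proper k X
  rw [bPat_univ hX hM, bPat_univ hX (S.isTF1' hX hM hY), phi_kernel hE hM.1 hY,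
    phi_add k hE S.short hY.coh S.coh (QCohMod.isCoh_kernel π hM.1), add_comm]

/-- A split modification. -/
theorem Modif.exists_section (S : Modif M π M') (hX : IsCurve X) (hE : FlatMod.IsFinLocFreeOfRank r E)
    (hr : 0 < r) (hM : TFOne.IsTF1 X M) (hY : IsQ M P G π)
    (h : bPat k E r M' P ≤ bPat k E r M P) : ∃ σ : M' ⟶ G, S.a ≫ σ = 𝟙 G ∧ IsQ M' P G σ := by
  haveI := hX.noeth
  haveI := hY.epi
  haveI : Mono S.a := S.short.mono_f
  have hM' := S.isTF1' hX hM hY
  obtain ⟨G₁, π₁, h₁⟩ := exists_isQ hX hM' P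
  haveI := h₁.epi
  haveI := h₁.coh.1
  haveI := hY.coh.1
  let c := S.a ≫ π₁
  have hbij : ∀ η ∈ genericPoints (X : Type u), η ∈ CohB1.support G →
      Function.Bijective (RefHull.stalkMapₗ c η) := by
    intro η hη h
    have hs := bijective_of_isRkOne hX hM'.2.2 π₁ hη ((h₁.supp ⟨η, hη⟩).2 ((hY.supp ⟨η, hη⟩).1 h))
    refine ⟨fun a b hab => injective_stalkMap S.a η (hs.1 ?_), fun w => ?_⟩
    · simpa only [c, stalkMapₗ_comp_apply] using hab
    · obtain ⟨v, rfl⟩ := hs.2 w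
      obtain ⟨a, rfl⟩ := S.surjective_a hX hM hη h v
      exact ⟨a, by rw [stalkMapₗ_comp_apply]⟩
  haveI : Mono c := by
    refine Preadditive.mono_of_isZero_kernel c (isZero_of_generic hX hY.tf (kernel.ι c)
      (QCohMod.isCoh_kernel c hY.coh) fun η hη => ?_)
    by_cases hs : η ∈ CohB1.support G
    · exact subsingleton_stalk_kernel c η (hbij η hη hs).1
    · haveI := subsingleton_stalk_of_not_mem hs
      exact (injective_stalkMap (kernel.ι c) η).subsingleton
  have hC : Coh.IsCoh (cokernel c) := QCohMod.isCoh_cokernel c h₁.coh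
  have hS : EulerDeg.SupportedAtClosed (cokernel c) := supportedAtClosed_of_generic hX fun η hη => by
    refine ⟨fun x y => ?_⟩
    suffices key : ∀ x : (cokernel c).presheaf.stalk η, x = 0 from (key x).trans (key y).symm
    intro x
    obtain ⟨v, rfl⟩ := surjective_stalkMap (cokernel.π c) η x
    by_cases hs : η ∈ CohB1.support G
    · obtain ⟨a, rfl⟩ := (hbij η hη hs).2 v
      rw [← stalkMapₗ_comp_apply, cokernel.condition, stalkMapₗ_zero]
    · have hG1 : η ∉ CohB1.support G₁ := fun h' => hs ((hY.supp ⟨η, hη⟩).2 ((h₁.supp ⟨η, hη⟩).1 h'))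
      haveI := subsingleton_stalk_of_not_mem hG1
      rw [Subsingleton.elim v 0, map_zero]
  have hphi := phi_add k hE (S := ShortComplex.mk c (cokernel.π c) (cokernel.condition c))
    { exact := ShortComplex.exact_of_g_is_cokernel _ (cokernelIsCokernel c) } hY.coh h₁.coh hC
  simp only [phi_of_supportedAtClosed k hE hC hS] at hphi
  rw [bPat_eq hX hM hY, bPat_eq hX hM' h₁] at h
  have hle : Curv2.euler k X (cokernel c) ≤ 0 := by
    have hr' : (0 : ℤ) < r := by exact_mod_cast hr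
    nlinarith
  haveI : Epi c := Preadditive.epi_of_isZero_cokernel c (EulerDeg.isZero_of_euler_nonpos k hC hS hle)
  haveI : IsIso c := isIso_of_mono_of_epi c
  refine ⟨π₁ ≫ inv c, by rw [← Category.assoc]; exact IsIso.hom_inv_id c,
    inferInstance, hY.coh, hY.tf, hY.supp⟩

section Dec

omit [X.Over (Spec (CommRingCat.of k))] [IsProper (X ↘ Spec (CommRingCat.of k))]

/-- `M` decomposes at `P`. -/
def Dec (M : X.Modules) (P : Set (Gen X)) : Prop :=
  ∃ (G : X.Modules) (π : M ⟶ G) (s : G ⟶ M), IsQ M P G π ∧ s ≫ π = 𝟙 G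

theorem isQ_retract (hX : IsCurve X) (hM : TFOne.IsTF1 X M) (hY : IsQ M P G π) (s : G ⟶ M)
    (hs : s ≫ π = 𝟙 G) (p : M ⟶ kernel π) (hp : p ≫ kernel.ι π = 𝟙 M - π ≫ s) :
    kernel.ι π ≫ p = 𝟙 _ ∧ IsQ M Pᶜ (kernel π) p := by
  haveI := hX.noeth
  haveI := hY.epi
  haveI := hY.coh.1
  have h1 : kernel.ι π ≫ p = 𝟙 _ := by
    rw [← cancel_mono (kernel.ι π), Category.assoc, hp, Category.id_comp, Preadditive.comp_sub,
      Category.comp_id, kernel.condition_assoc, zero_comp, sub_zero]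
  haveI : Epi p := (SplitEpi.mk (kernel.ι π) h1).epi
  refine ⟨h1, inferInstance, QCohMod.isCoh_kernel π hM.1, isTorsionFree_of_mono (kernel.ι π) hM.2.1,
    fun η => ⟨fun hmem hP => hmem ?_, fun hP hsub => ?_⟩⟩
  · exact subsingleton_stalk_kernel π η.1 (bijective_of_isRkOne hX hM.2.2 π η.2 ((hY.supp η).2 hP)).1
  · haveI := hsub
    haveI := subsingleton_stalk_of_not_mem (fun h => hP ((hY.supp η).1 h) : η.1 ∉ CohB1.support G)
    refine mem_support_of_generic hM.2.2 η.2 ⟨fun a b => ?_⟩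
    suffices key : ∀ v : M.presheaf.stalk η.1, v = 0 from (key a).trans (key b).symm
    intro v
    obtain ⟨w, hw⟩ := exact_kernel π η.1 v (Subsingleton.elim _ _)
    rw [← hw, Subsingleton.elim w 0, map_zero]

theorem Dec.compl (hX : IsCurve X) (hM : TFOne.IsTF1 X M) (h : Dec M P) : Dec M Pᶜ := by
  obtain ⟨G, π, s, hY, hs⟩ := h
  let p : M ⟶ kernel π := kernel.lift π (𝟙 M - π ≫ s) (by
    rw [Preadditive.sub_comp, Category.id_comp, Category.assoc, hs, Category.comp_id, sub_self])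
  obtain ⟨h1, h2⟩ := isQ_retract hX hM hY s hs p (kernel.lift_ι _ _ _)
  exact ⟨_, p, kernel.ι π, h2, h1⟩

/-- A decomposition of a modification at a decomposition comes from one of the original sheaf. -/
theorem Modif.dec_of_dec (S : Modif M π M') (hX : IsCurve X) (hM : TFOne.IsTF1 X M) (hY : IsQ M P G π)
    (s : G ⟶ M) (hs : s ≫ π = 𝟙 G) (hT : Dec M' T) : Dec M T := by
  haveI := hX.noeth
  haveI := hY.epi
  haveI := hY.coh.1
  haveI : Mono S.a := S.short.mono_f
  haveI : Epi S.b := S.short.epi_g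
  obtain ⟨G', π', s', hG', hs'⟩ := hT
  haveI := hG'.epi
  have hM' := S.isTF1' hX hM hY
  let p : M ⟶ kernel π := kernel.lift π (𝟙 M - π ≫ s) (by
    rw [Preadditive.sub_comp, Category.id_comp, Category.assoc, hs, Category.comp_id, sub_self])
  have hp : p ≫ kernel.ι π = 𝟙 M - π ≫ s := kernel.lift_ι _ _ _
  obtain ⟨hιp, hK⟩ := isQ_retract hX hM hY s hs p hp
  let e' := π' ≫ s'
  have he' : e' ≫ e' = e' := by simp only [e', Category.assoc, reassoc_of% hs']
  have he1 : ∀ η : Gen X, η ∈ T → ∀ v, RefHull.stalkMapₗ e' η.1 v = v := fun η hη v => by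
    refine (bijective_of_isRkOne hX hM'.2.2 π' η.2 ((hG'.supp η).2 hη)).1 ?_
    rw [← stalkMapₗ_comp_apply]
    simp only [e', Category.assoc, hs', Category.comp_id]
  have he0 : ∀ η : Gen X, η ∉ T → ∀ v, RefHull.stalkMapₗ e' η.1 v = 0 := fun η hη v => by
    haveI := subsingleton_stalk_of_not_mem (fun h => hη ((hG'.supp η).1 h) : η.1 ∉ CohB1.support G')
    rw [stalkMapₗ_comp_apply, Subsingleton.elim (RefHull.stalkMapₗ π' η.1 v) 0, map_zero]
  have hz : S.a ≫ e' ≫ S.b = 0 := eq_zero_of_generic hX hY.coh hK.coh hK.tf _ fun η hη v => by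
    by_cases hP : (⟨η, hη⟩ : Gen X) ∈ P
    · haveI := subsingleton_stalk_of_not_mem
        (fun h => (hK.supp ⟨η, hη⟩).1 h hP : η ∉ CohB1.support (kernel π))
      exact Subsingleton.elim _ _
    · haveI := subsingleton_stalk_of_not_mem (fun h => hP ((hY.supp ⟨η, hη⟩).1 h) : η ∉ CohB1.support G)
      rw [Subsingleton.elim v 0, map_zero]
  let ψ : G ⟶ G := S.short.exact.lift (S.a ≫ e') ((Category.assoc _ _ _).trans hz)
  have hψ : ψ ≫ S.a = S.a ≫ e' := S.short.exact.lift_f _ _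
  let χ : kernel π ⟶ kernel π := S.short.exact.desc (e' ≫ S.b) hz
  have hχ : S.b ≫ χ = e' ≫ S.b := S.short.exact.g_desc _ _
  have hψ2 : ψ ≫ ψ = ψ := by
    rw [← cancel_mono S.a, Category.assoc, hψ, ← Category.assoc, hψ, Category.assoc, he']
  have hχ2 : χ ≫ χ = χ := by
    rw [← cancel_epi S.b, ← Category.assoc, hχ, Category.assoc, hχ, ← Category.assoc, he']
  let e : M ⟶ M := π ≫ ψ ≫ s + p ≫ χ ≫ kernel.ι π
  have hsp : s ≫ p = 0 := by
    rw [← cancel_mono (kernel.ι π), Category.assoc, hp, Preadditive.comp_sub, Category.comp_id,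
      reassoc_of% hs, sub_self, zero_comp]
  have hee : e ≫ e = e := by
    simp only [e, Preadditive.comp_add, Preadditive.add_comp, Category.assoc, reassoc_of% hs,
      reassoc_of% hsp, reassoc_of% hψ2, reassoc_of% hχ2, kernel.condition_assoc, reassoc_of% hιp,
      zero_comp, comp_zero, add_zero, zero_add]
  have hval : ∀ η : Gen X, ∀ v, ∀ c : X.presheaf.stalk η.1,
      (∀ w, RefHull.stalkMapₗ e' η.1 w = c • w) → RefHull.stalkMapₗ e η.1 v = c • v := by
    intro η v c hc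
    have hψ' : ∀ a, RefHull.stalkMapₗ ψ η.1 a = c • a := fun a => injective_stalkMap S.a η.1 (by
      rw [← stalkMapₗ_comp_apply, hψ, stalkMapₗ_comp_apply, hc, map_smul])
    have hχ' : ∀ w, RefHull.stalkMapₗ χ η.1 w = c • w := fun w => by
      obtain ⟨w, rfl⟩ := surjective_stalkMap S.b η.1 w
      rw [← stalkMapₗ_comp_apply, hχ, stalkMapₗ_comp_apply, hc, map_smul]
    have hsum : π ≫ s + p ≫ kernel.ι π = 𝟙 M := by rw [hp]; abel
    simp only [e, stalkMap_add, stalkMapₗ_comp_apply, hψ', hχ', map_smul, ← smul_add]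
    rw [← stalkMapₗ_comp_apply, ← stalkMapₗ_comp_apply, ← stalkMap_add, hsum, stalkMap_id]
  have hq := isQuotOn_image hX hM e (fun η => ∃ h, (⟨η, h⟩ : Gen X) ∈ T)
    (fun η _ ⟨h, hT⟩ v => by rw [hval ⟨η, h⟩ v 1 fun w => by rw [he1 _ hT, one_smul], one_smul])
    (fun η hη hT v => by
      rw [hval ⟨η, hη⟩ v 0 fun w => by rw [he0 _ (fun h => hT ⟨hη, h⟩), zero_smul], zero_smul])
  refine ⟨Abelian.image e, Abelian.factorThruImage e, Abelian.image.ι e,
    ⟨hq.1, hq.2.1, hq.2.2.1, fun η => ?_⟩, ?_⟩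
  · rw [hq.2.2.2]
    refine ⟨fun h => ?_, fun h => Set.mem_iUnion₂.2 ⟨η.1, ⟨η.2, η.2, h⟩, subset_closure rfl⟩⟩
    obtain ⟨η', hη', hcl⟩ := Set.mem_iUnion₂.1 h
    obtain ⟨h', hT⟩ := hη'.2
    have := eq_of_mem_closure_generic η.2 hη'.1 hcl
    obtain rfl : η = ⟨η', h'⟩ := Subtype.ext this
    exact hT
  · haveI := hq.1
    rw [← cancel_epi (Abelian.factorThruImage e), ← cancel_mono (Abelian.image.ι e)]
    simp only [Category.assoc, Abelian.image.fac, Category.id_comp]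
    rw [← Category.assoc, Abelian.image.fac]
    exact hee

end Dec

/-- On a decomposition `β` is additive. -/
theorem bPat_dec (hX : IsCurve X) (hE : FlatMod.IsFinLocFreeOfRank r E) (hM : TFOne.IsTF1 X M)
    (h : Dec M P) : bPat k E r M P + bPat k E r M Pᶜ = bPat k E r M Set.univ := by
  obtain ⟨G, π, s, hY, hs⟩ := h
  let p : M ⟶ kernel π := kernel.lift π (𝟙 M - π ≫ s) (by
    rw [Preadditive.sub_comp, Category.id_comp, Category.assoc, hs, Category.comp_id, sub_self])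
  obtain ⟨-, h2⟩ := isQ_retract hX hM hY s hs p (kernel.lift_ι _ _ _)
  rw [bPat_eq hX hM hY, bPat_eq hX hM h2, bPat_univ hX hM, phi_kernel hE hM.1 hY, add_comm]

end Groth.TFOneAux
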