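import Groth.Agent.TFOne.Decompose
import Groth.Agent.QCohMod.SubMod
import Groth.Agent.QCohMod.FiniteType
import Groth.Agent.QCohMod.Sections

/-!
# Existence and uniqueness of torsion-free quotients on subcurves
-/

set_option autoImplicit false
set_option linter.style.haveILetI false
set_option backward.isDefEq.respectTransparency.types false

universe u

open CategoryTheory CategoryTheory.Limits AlgebraicGeometry Opposite TopologicalSpace

noncomputable section

namespace Groth.TFOneAux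

open Duality.StalkHom (stalkMapₗ_comp_apply stalkMapₗ_zero)
open QCohMod (germ germ_res germ_smul exists_germ res resFun)

variable {X : Scheme.{u}} (M : X.Modules) (P : X → Prop)

/-- The sections vanishing at the generic points in `P`. -/
def vanSub : QCohMod.SubMod M where
  mem W :=
    { carrier := {s | ∀ η ∈ genericPoints (X : Type u), P η → ∀ h : η ∈ W, germ M η h s = 0}
      add_mem' := fun {s t} hs ht η hη hP h => by rw [map_add, hs η hη hP h, ht η hη hP h, add_zero]
      zero_mem' := fun η _ _ h => map_zero _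
      smul_mem' := fun r s hs η hη hP h => by rw [germ_smul, hs η hη hP h, smul_zero] }
  res_mem {W W'} hle s hs η hη hP h := by rw [germ_res]; exact hs η hη hP (hle h)
  local_mem {W} s hs η hη hP h := by
    obtain ⟨W', hle, hη', hs'⟩ := hs η h
    rw [← germ_res M hle η hη' s]
    exact hs' η hη hP hη'

variable {M P}

theorem mem_vanSub_iff {W : X.Opens} (s : Γ(M, W)) :
    s ∈ (vanSub M P).mem W ↔ ∀ η ∈ genericPoints (X : Type u), P η → ∀ h : η ∈ W, germ M η h s = 0 :=
  Iff.rfl

/-- At a generic point of a reduced scheme a nonunit kills nothing else: the stalk is a field. -/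
theorem germ_eq_zero_of_not_mem_basicOpen [IsReduced X] {W : X.Opens} (f : Γ(X, W)) {η : X}
    (hη : η ∈ genericPoints (X : Type u)) (h : η ∈ W) (hf : η ∉ X.basicOpen f) :
    X.presheaf.germ W η h f = 0 := by
  letI : Field (X.presheaf.stalk η) := (Duality.TorsionFree.isField_stalk_generic hη).toField
  by_contra hne
  exact hf ((Scheme.mem_basicOpen X f η h).2 (IsUnit.mk0 _ hne))

theorem goodOn_vanSub [IsNoetherian X] [IsReduced X] [M.IsQuasicoherent] (hM : Coh.IsCoh M) :
    (vanSub M P).GoodOn ⊤ := by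
  intro x _
  obtain ⟨A, hA, hxA⟩ := QCohMod.exists_affine_mem x
  refine ⟨A, le_top, hxA, hA, ?_, fun f s hs => ?_⟩
  · haveI : IsNoetherianRing Γ(X, A) := IsLocallyNoetherian.component_noetherian ⟨A, hA⟩
    haveI := QCohMod.finite_sections M hM.2 hA
    exact IsNoetherian.noetherian _
  · obtain ⟨n, t, ht⟩ := QCohMod.exists_pow_smul_eq_res M hA f s
    refine ⟨n + 1, f • t, fun η hη hP h => ?_, ?_⟩
    · rw [germ_smul]
      by_cases hf : η ∈ X.basicOpen f
      · have e : germ M η h t = germ M η hf (resFun X (X.basicOpen_le f) f ^ n • s) := by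
          rw [← ht, germ_res]
        rw [e, germ_smul, hs η hη hP hf, smul_zero, smul_zero]
      · rw [germ_eq_zero_of_not_mem_basicOpen f hη h hf, zero_smul]
    · rw [QCohMod.res_smul, ht, pow_succ', mul_smul]

theorem isCoh_vanSub [IsNoetherian X] [IsReduced X] (hM : Coh.IsCoh M) :
    Coh.IsCoh (vanSub M P).toMod :=
  have := hM.1
  QCohMod.SubMod.isQCoh_toMod (goodOn_vanSub hM)

theorem exists_open_nbhd [IsNoetherian X] (x : X) :
    ∃ O : X.Opens, x ∈ O ∧ ∀ η ∈ genericPoints (X : Type u), η ∈ O → η ⤳ x := by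
  have hfin := (Curves1.CurveMor.finite_genericPoints (X := X))
  let S : Set X := ⋃ η ∈ {η ∈ genericPoints (X : Type u) | x ∉ closure ({η} : Set X)}, closure ({η} : Set X)
  have hS : IsClosed S := (hfin.sep _).isClosed_biUnion fun η _ => isClosed_closure
  refine ⟨⟨Sᶜ, hS.isOpen_compl⟩, fun hx => ?_, fun η hη hηO => ?_⟩
  · obtain ⟨η, hη, hxη⟩ := Set.mem_iUnion₂.1 hx
    exact hη.2 hxη
  · by_contra hne
    exact hηO (Set.mem_iUnion₂.2 ⟨η, ⟨hη, fun h => hne (specializes_iff_mem_closure.2 h)⟩,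
      subset_closure rfl⟩)

theorem eq_of_specializes_genericPoints {η η' : X} (hη : η ∈ genericPoints (X : Type u))
    (hη' : η' ∈ genericPoints (X : Type u)) (h : η' ⤳ η) : η' = η :=
  (eq_of_mem_closure_generic hη hη' h.mem_closure).symm

theorem mem_vanSub_stalk {x : X} (t : ((vanSub M P).toMod).presheaf.stalk x) :
    ∃ (W : X.Opens) (h : x ∈ W) (s : Γ(M, W)), s ∈ (vanSub M P).mem W ∧
      RefHull.stalkMapₗ (vanSub M P).ι x t = germ M x h s := by
  obtain ⟨W, hW, m, rfl⟩ := exists_germ (vanSub M P).toMod x t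
  exact ⟨W, hW, (vanSub M P).ι.app W m, (vanSub M P).ι_app_mem m, RefHull.stalkMapₗ_germ _ x hW m⟩

/-- The torsion-free quotient on the components whose generic points satisfy `P`. -/
theorem exists_quotOn (hX : IsCurve X) (hM : TFOne.IsTF1 X M) (P : X → Prop) :
    ∃ (G : X.Modules) (π : M ⟶ G), TFOne.IsQuotOn X M (CohB1.support G) G π ∧
      ∀ η ∈ genericPoints (X : Type u), η ∈ CohB1.support G ↔ P η := by
  haveI := hX.noeth
  haveI := hX.red
  haveI := hM.1.1
  let ι := (vanSub M P).ι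
  have hK := isCoh_vanSub (P := P) hM.1
  haveI := hK.1
  have hG : Coh.IsCoh (cokernel ι) := QCohMod.isCoh_cokernel ι hM.1
  have hker : ∀ (x : X) (m : M.presheaf.stalk x), RefHull.stalkMapₗ (cokernel.π ι) x m = 0 →
      ∃ t, RefHull.stalkMapₗ ι x t = m := fun x m hm => by
    have hex := (QCohMod.exact_iff_stalk (ShortComplex.mk ι (cokernel.π ι) (cokernel.condition ι))).mp
      (ShortComplex.exact_of_g_is_cokernel _ (cokernelIsCokernel ι)) x
    rw [ShortComplex.ab_exact_iff_function_exact] at hex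
    exact (hex m).1 hm
  have hzero : ∀ (x : X) t, RefHull.stalkMapₗ (cokernel.π ι) x (RefHull.stalkMapₗ ι x t) = 0 :=
    fun x t => by rw [← stalkMapₗ_comp_apply, cokernel.condition, stalkMapₗ_zero]
  refine ⟨cokernel ι, cokernel.π ι, ⟨inferInstance, hG, ?_, rfl⟩, fun η hη => ⟨fun hs => ?_, fun hP hs => ?_⟩⟩
  · intro x
    refine ⟨fun r hr => ?_⟩
    intro a b hab
    replace hab : r • (a - b) = 0 := by rw [smul_sub]; exact sub_eq_zero.2 hab
    suffices key : ∀ g : (cokernel ι).presheaf.stalk x, r • g = 0 → g = 0 from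
      sub_eq_zero.1 (key _ hab)
    intro g hg
    obtain ⟨m, rfl⟩ := surjective_stalkMap (cokernel.π ι) x g
    rw [← map_smul] at hg
    obtain ⟨t, ht⟩ := hker x _ hg
    obtain ⟨W₁, hx₁, s₁, hs₁, e₁⟩ := mem_vanSub_stalk t
    obtain ⟨U₀, hxU₀, r₀, rfl⟩ := TopCat.Presheaf.exists_germ_eq X.presheaf r
    obtain ⟨U₁, hxU₁, m₁, rfl⟩ := exists_germ M x m
    rw [e₁] at ht
    obtain ⟨O, hxO, hO⟩ := exists_open_nbhd (X := X) x
    have hx2 : x ∈ U₀ ⊓ U₁ := ⟨hxU₀, hxU₁⟩
    have e3 : germ M x hx2 (resFun X (inf_le_left : U₀ ⊓ U₁ ≤ U₀) r₀ • res M (inf_le_right : U₀ ⊓ U₁ ≤ U₁) m₁) =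
        germ M x hx₁ s₁ := by
      rw [germ_smul, germ_res]
      refine Eq.trans ?_ ht.symm
      congr 1
      exact TopCat.Presheaf.germ_res_apply X.presheaf (homOfLE (inf_le_left : U₀ ⊓ U₁ ≤ U₀)) x hx2 r₀
    obtain ⟨V, hxV, iV, iW, e4⟩ := M.presheaf.germ_eq x hx2 hx₁ _ _ e3
    obtain ⟨W, hW, hxW, hWV⟩ := exists_isAffineOpen_mem_and_subset (X := X) (x := x) (U := V ⊓ O)
      ⟨hxV, hxO⟩
    have hW0 : W ≤ U₀ := (hWV.trans inf_le_left).trans (iV.le.trans inf_le_left)
    have hW1 : W ≤ U₁ := (hWV.trans inf_le_left).trans (iV.le.trans inf_le_right)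
    have hmem : res M hW1 m₁ ∈ (vanSub M P).mem W := by
      intro η hη hP hηW
      rw [germ_res]
      have hηV : η ∈ V := (hWV hηW).1
      have h0 : X.presheaf.germ U₀ η (hW0 hηW) r₀ • germ M η (hW1 hηW) m₁ = 0 := by
        have h1 := congrArg (germ M η hηV) e4
        have h2 : germ M η hηV (res M iV.le (resFun X (inf_le_left : U₀ ⊓ U₁ ≤ U₀) r₀ • res M (inf_le_right : U₀ ⊓ U₁ ≤ U₁) m₁)) =
            germ M η hηV (res M iW.le s₁) := h1
        rw [germ_res, germ_smul, germ_res, germ_res, hs₁ η hη hP (iW.le hηV)] at h2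
        refine Eq.trans ?_ h2
        congr 1
        exact (TopCat.Presheaf.germ_res_apply X.presheaf (homOfLE (inf_le_left : U₀ ⊓ U₁ ≤ U₀)) η (iV.le hηV) r₀).symm
      letI : Field (X.presheaf.stalk η) := (Duality.TorsionFree.isField_stalk_generic hη).toField
      refine (smul_eq_zero.1 h0).resolve_left fun hr0 => ?_
      -- otherwise `r` is a zero divisor at `x`
      have hsp : η ⤳ x := hO η hη (hWV hηW).2
      obtain ⟨N, hN, hNη⟩ : ∃ N : X.Opens, η ∈ N ∧ ∀ η' ∈ genericPoints (X : Type u), η' ∈ N → η' = η := by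
        obtain ⟨N, hN, h⟩ := exists_open_nbhd (X := X) η
        exact ⟨N, hN, fun η' hη' hN' => eq_of_specializes_genericPoints hη hη' (h η' hη' hN')⟩
      obtain ⟨c, hcη, hcN⟩ := QCohMod.exists_basicOpen_mem hW hηW hN
      let r' : Γ(X, W) := resFun X hW0 r₀
      have hr' : X.presheaf.germ W x hxW r' = X.presheaf.germ U₀ x hxU₀ r₀ :=
        TopCat.Presheaf.germ_res_apply X.presheaf (homOfLE hW0) x hxW r₀
      have hr'η : X.presheaf.germ W η hηW r' = 0 :=
        (TopCat.Presheaf.germ_res_apply X.presheaf (homOfLE hW0) η hηW r₀).trans hr0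
      have hcr : X.basicOpen (c * r') = ⊥ := by
        refine (Opens.ext ?_)
        refine Set.eq_empty_of_forall_notMem fun y hy => ?_
        obtain ⟨C, hC, hyC⟩ := exists_mem_irreducibleComponents_subset_of_isIrreducible _
          (isIrreducible_singleton (x := y))
        obtain ⟨η', hη'⟩ := QuasiSober.sober hC.1 (isClosed_of_mem_irreducibleComponents C hC)
        have hg' : η' ∈ genericPoints (X : Type u) := by
          show closure ({η'} : Set X) ∈ irreducibleComponents (X : Type u)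
          rw [hη'.def]; exact hC
        have h' : η' ∈ X.basicOpen (c * r') := (hη'.specializes (hyC rfl)).mem_open (X.basicOpen _).2 hy
        rw [Scheme.basicOpen_mul] at h'
        obtain rfl := hNη η' hg' (hcN h'.1)
        exact not_isUnit_zero (hr'η ▸ (Scheme.mem_basicOpen X r' η' hηW).1 h'.2)
      rw [AlgebraicGeometry.basicOpen_eq_bot_iff] at hcr
      have hc0 : X.presheaf.germ W x hxW c = 0 := by
        have := congrArg (X.presheaf.germ W x hxW) hcr
        rw [map_mul, map_zero, hr'] at this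
        exact hr.right.eq_iff.1 (this.trans (zero_mul _).symm)
      have hcη0 : X.presheaf.germ W η hηW c = 0 := by
        rw [← TopCat.Presheaf.germ_stalkSpecializes_apply X.presheaf hxW hsp c, hc0, map_zero]
      exact not_isUnit_zero (hcη0 ▸ (Scheme.mem_basicOpen X c η hηW).1 hcη)
    obtain ⟨t', ht'⟩ := (vanSub M P).exists_ι_app_eq _ hmem
    have : RefHull.stalkMapₗ ι x (germ (vanSub M P).toMod x hxW t') = germ M x hxU₁ m₁ := by
      rw [RefHull.stalkMapₗ_germ, ← germ_res M hW1 x hxW m₁]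
      exact congrArg (germ M x hxW) ht'
    rw [← this, hzero]
  · by_contra hP
    refine hs ⟨fun a b => ?_⟩
    suffices key : ∀ g : (cokernel ι).presheaf.stalk η, g = 0 from (key a).trans (key b).symm
    intro g
    obtain ⟨m, rfl⟩ := surjective_stalkMap (cokernel.π ι) η g
    obtain ⟨U, hU, m₁, rfl⟩ := exists_germ M η m
    obtain ⟨O, hO, hOη⟩ := exists_open_nbhd (X := X) η
    have hmem : res M (inf_le_left : U ⊓ O ≤ U) m₁ ∈ (vanSub M P).mem (U ⊓ O) := fun η' hη' hP' h => by
      obtain rfl := eq_of_specializes_genericPoints hη hη' (hOη η' hη' h.2)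
      exact absurd hP' hP
    obtain ⟨t', ht'⟩ := (vanSub M P).exists_ι_app_eq _ hmem
    have hηUO : η ∈ U ⊓ O := ⟨hU, hO⟩
    have : RefHull.stalkMapₗ ι η (germ (vanSub M P).toMod η hηUO t') = germ M η hU m₁ := by
      rw [RefHull.stalkMapₗ_germ, ← germ_res M inf_le_left η hηUO m₁]
      exact congrArg (germ M η hηUO) ht'
    rw [← this, hzero]
  · haveI : Subsingleton ((cokernel ι).presheaf.stalk η) := hs
    refine mem_support_of_generic hM.2.2 hη ⟨fun a b => ?_⟩
    suffices key : ∀ m : M.presheaf.stalk η, m = 0 from (key a).trans (key b).symm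
    intro m
    obtain ⟨t, rfl⟩ := hker η m (Subsingleton.elim _ _)
    obtain ⟨W, h, s, hs', e⟩ := mem_vanSub_stalk t
    rw [e]
    exact hs' η hη hP h

theorem support_eq_sUnion (hX : IsCurve X) {G : X.Modules} (hG : Coh.IsCoh G)
    (hGt : _root_.TorSh.IsTorsionFree G) {T : Set X} (hT : IsClosed T)
    (hTs : T = ⋃₀ {C | C ∈ irreducibleComponents (X : Type u) ∧ C ⊆ T})
    (h : ∀ η ∈ genericPoints (X : Type u), η ∈ CohB1.support G ↔ η ∈ T) : CohB1.support G = T := by
  rw [support_eq hX hG hGt]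
  refine Set.Subset.antisymm (Set.iUnion₂_subset fun η hη =>
    closure_minimal (Set.singleton_subset_iff.2 ((h η hη.1).1 hη.2)) hT) ?_
  intro x hx
  rw [hTs] at hx
  obtain ⟨C, ⟨hC, hCT⟩, hxC⟩ := hx
  obtain ⟨η, hη⟩ := QuasiSober.sober hC.1 (isClosed_of_mem_irreducibleComponents C hC)
  have hg : η ∈ genericPoints (X : Type u) := by
    show closure ({η} : Set X) ∈ irreducibleComponents (X : Type u)
    rw [hη.def]; exact hC
  exact Set.mem_iUnion₂.2 ⟨η, ⟨hg, (h η hg).2 (hCT hη.mem)⟩, hη.def.ge hxC⟩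

/-- Torsion-free quotients with the same generic support are isomorphic. -/
theorem exists_iso (hX : IsCurve X) (hM : TFOne.IsTF1 X M) {G G' : X.Modules} {Y Y' : Set X}
    {π : M ⟶ G} {π' : M ⟶ G'} (hG : TFOne.IsQuotOn X M Y G π) (hG' : TFOne.IsQuotOn X M Y' G' π')
    (h : ∀ η ∈ genericPoints (X : Type u), η ∈ Y ↔ η ∈ Y') :
    ∃ e : G ≅ G', π ≫ e.hom = π' := by
  haveI := hG.1
  haveI := hG'.1
  obtain ⟨a, ha, -⟩ := exists_factor hX hM hG hG' fun η hη => (h η hη).2
  obtain ⟨b, hb, -⟩ := exists_factor hX hM hG' hG fun η hη => (h η hη).1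
  exact ⟨⟨a, b, (cancel_epi π).1 (by rw [← Category.assoc, ha, hb, Category.comp_id]),
    (cancel_epi π').1 (by rw [← Category.assoc, hb, ha, Category.comp_id])⟩, ha⟩

end Groth.TFOneAux
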