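import Groth.Agent.TFOne.Completion

/-!
# A chain of splitting modifications contradicts the conditions on the generic fibre
-/

set_option autoImplicit false
set_option linter.style.haveILetI false
set_option linter.unusedSectionVars false
set_option backward.isDefEq.respectTransparency.types false

universe u

open CategoryTheory CategoryTheory.Limits AlgebraicGeometry Opposite TopologicalSpace

noncomputable section

namespace Groth.TFOneAux

variable {R : Type u} [CommRing R] [IsDomain R] [IsDiscreteValuationRing R] {X Xs Xg : Scheme.{u}}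
  {f : X ⟶ Spec (CommRingCat.of R)} [IsProper f] [Flat f]
  [Xs.Over (Spec (CommRingCat.of (IsLocalRing.ResidueField R)))] [IsReduced Xs] {i : Xs ⟶ X}
  [Xg.Over (Spec (CommRingCat.of (FractionRing R)))] {j : Xg ⟶ X}
  (hsq : IsPullback i (Xs ↘ Spec (CommRingCat.of (IsLocalRing.ResidueField R))) f
    (Spec.map (CommRingCat.ofHom (IsLocalRing.residue R))))
  (hgen : IsPullback j (Xg ↘ Spec (CommRingCat.of (FractionRing R))) f
    (Spec.map (CommRingCat.ofHom (algebraMap R (FractionRing R)))))
  (hpure : ∀ C ∈ irreducibleComponents (Xs : Type u), topologicalKrullDim C = 1)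
  (hgi : ∀ (C : Set Xs) (hC : C ∈ irreducibleComponents (Xs : Type u)),
    GeometricallyIntegral (VecSt.subschι Xs C (isClosed_of_mem_irreducibleComponents C hC) ≫
      (Xs ↘ Spec (CommRingCat.of (IsLocalRing.ResidueField R)))))
  {I J : X.Modules} (hJ : Good f i j I J)

omit [IsReduced Xs] [Flat f] [IsProper f] in
theorem isPullback_gm_hh :
    IsPullback (gm f ≫ hh f) (Yh f ↘ Spec (CommRingCat.of (Om R))) f (tm R ≫ cmap R) :=
  (isPullback_gm f).paste_horiz (IsPullback.of_hasPullback f (cmap R))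

include hsq hgen in
theorem exists_genericPt : Nonempty (GenericPt (Om R) (gm f ≫ hh f) j (tm R ≫ cmap R)) := by
  rcases closed_or_generic (Ω := Om R) (Y := Yh f) (i₁ := gm f ≫ hh f) (t := tm R ≫ cmap R)
    hsq hgen isPullback_gm_hh with ⟨⟨c⟩⟩ | h
  · exfalso
    have h1 : (tm R ≫ cmap R) (IsLocalRing.closedPoint (Om R)) = IsLocalRing.closedPoint R := by
      rw [← c.ht, Scheme.Hom.comp_apply]
      exact range_residue.le ⟨_, rfl⟩
    have h2 : (tm R ≫ cmap R) (IsLocalRing.closedPoint (Om R)) = genPoint R := by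
      rw [Scheme.Hom.comp_apply, tm_closedPoint]
      exact PrimeSpectrum.ext (Ideal.comap_bot_of_injective (algebraMap R (Rh R)) (injective_algebraMap_Rh R))
    exact genPoint_ne_closedPoint (h2.symm.trans h1)
  · exact h

include hsq hgi in
theorem isReduced_Yh : IsReduced (Yh f) := isReduced_fibre hsq hgi isPullback_gm_hh

include hsq hpure in
theorem pure_Yh : ∀ C ∈ irreducibleComponents (Yh f : Type u), topologicalKrullDim C = 1 :=
  pure_geometric hsq (isCurve_special hsq hpure) hpure isPullback_gm_hh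

include hJ in
/-- The restriction of `J` to a generic geometric point. -/
theorem exists_iso_Yh (c : GenericPt (Om R) (gm f ≫ hh f) j (tm R ≫ cmap R)) :
    Nonempty ((Scheme.Modules.pullback c.l).obj ((Scheme.Modules.pullback j).obj I) ≅
      (Scheme.Modules.pullback (gm f)).obj ((Scheme.Modules.pullback (hh f)).obj J)) :=
  ⟨(Scheme.Modules.pullback c.l).mapIso hJ.gen.some.symm ≪≫ pullIso c.hl J ≪≫ (pullIso rfl J).symm⟩

variable {E : X.Modules} {r : ℕ} (hE : FlatMod.IsFinLocFreeOfRank r E) {G : Xs.Modules}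
  (π : (Scheme.Modules.pullback i).obj J ⟶ G)

theorem phi_hh (F : Xs.Modules) :
    phi (IsLocalRing.ResidueField R)
        ((Scheme.Modules.pullback (ih hsq)).obj ((Scheme.Modules.pullback (hh f)).obj E)) r F =
      phi (IsLocalRing.ResidueField R) ((Scheme.Modules.pullback i).obj E) r F :=
  phi_congr_left _ (pullIso (ih_hh hsq) E) r F

theorem phi_hh_self :
    phi (IsLocalRing.ResidueField R)
        ((Scheme.Modules.pullback (ih hsq)).obj ((Scheme.Modules.pullback (hh f)).obj E)) r
        ((Scheme.Modules.pullback (ih hsq)).obj ((Scheme.Modules.pullback (hh f)).obj J)) =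
      phi (IsLocalRing.ResidueField R) ((Scheme.Modules.pullback i).obj E) r
        ((Scheme.Modules.pullback i).obj J) := by
  rw [phi_hh hsq, phi_congr _ (pullIso (ih_hh hsq) J)]

include hsq hgen hpure hgi hJ hE in
theorem false_of_chain_neg (hr : 0 < r)
    (hg : TFOne.FibSemistable (Xg ↘ Spec (CommRingCat.of (FractionRing R)))
      ((Scheme.Modules.pullback j).obj I) ((Scheme.Modules.pullback j).obj E) r)
    (hJ0 : phi (IsLocalRing.ResidueField R) ((Scheme.Modules.pullback i).obj E) r
      ((Scheme.Modules.pullback i).obj J) = 0)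
    (hK : HasChain f π)
    (hneg : phi (IsLocalRing.ResidueField R) ((Scheme.Modules.pullback i).obj E) r G < 0) : False := by
  obtain ⟨N, φ, e, hN, hNf, hφ, -⟩ := exists_quot_completion hsq hK
  obtain ⟨c⟩ := exists_genericPt hsq hgen
  obtain ⟨eJ⟩ := exists_iso_Yh hJ c
  haveI := isReduced_Yh hsq hgi
  have hss : TFOne.IsSemistable (Yh f) (Om R) (Yh f ↘ Spec (CommRingCat.of (Om R)))
      ((Scheme.Modules.pullback (gm f)).obj ((Scheme.Modules.pullback (hh f)).obj J))
      ((Scheme.Modules.pullback (gm f)).obj ((Scheme.Modules.pullback (hh f)).obj E)) r :=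
    semistable_congr eJ (pullIso c.hl E ≪≫ (pullIso rfl E).symm)
      (hg (Om R) c.t' (Yh f) c.l _ c.sq)
  have hb := (exists_bound (isCoh_hh hJ.coh) (flat_hh_obj hJ.flat) hN hNf φ e (sq_ih_field hsq)
    (LocFree.isFinLocFreeOfRank_pullback (hh f) hE) (pure_Yh hsq hpure) (isPullback_gm f) hr hss
    ((phi_hh_self hsq).trans hJ0)).1
  rw [phi_hh hsq] at hb
  exact absurd hb (not_le.2 hneg)

include hsq hgen hpure hgi hJ hE in
theorem false_of_chain_quasistable (hr : 0 < r) (σ : Spec (CommRingCat.of R) ⟶ X) (hσ : σ ≫ f = 𝟙 _)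
    (σg : Spec (CommRingCat.of (FractionRing R)) ⟶ Xg)
    (hσg : σg ≫ (Xg ↘ Spec (CommRingCat.of (FractionRing R))) = 𝟙 _)
    (hσgj : σg ≫ j = Spec.map (CommRingCat.ofHom (algebraMap R (FractionRing R))) ≫ σ)
    (hg : TFOne.FibQuasistableAlong (Xg ↘ Spec (CommRingCat.of (FractionRing R)))
      ((Scheme.Modules.pullback j).obj I) ((Scheme.Modules.pullback j).obj E) σg hσg r)
    {s₀ : Xs} (hs₀ : i s₀ = σ (IsLocalRing.closedPoint R))
    (hJ0 : phi (IsLocalRing.ResidueField R) ((Scheme.Modules.pullback i).obj E) r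
      ((Scheme.Modules.pullback i).obj J) = 0)
    (hK : HasChain f π)
    (hG0 : phi (IsLocalRing.ResidueField R) ((Scheme.Modules.pullback i).obj E) r G = 0)
    (hker : s₀ ∉ CohB1.support (kernel π)) (hiso : ¬ IsIso π) : False := by
  obtain ⟨N, φ, e, hN, hNf, hφ, he⟩ := exists_quot_completion hsq hK
  obtain ⟨c⟩ := exists_genericPt hsq hgen
  obtain ⟨eJ⟩ := exists_iso_Yh hJ c
  haveI := isReduced_Yh hsq hgi
  haveI : IsClosedImmersion i :=
    haveI : IsClosedImmersion (Spec.map (CommRingCat.ofHom (IsLocalRing.residue R))) :=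
      IsClosedImmersion.spec_of_surjective _ IsLocalRing.residue_surjective
    MorphismProperty.of_isPullback hsq.flip inferInstance
  let σh : Spec (CommRingCat.of (Rh R)) ⟶ Xh f :=
    pullback.lift (cmap R ≫ σ) (𝟙 _) (by rw [Category.assoc, hσ, Category.comp_id, Category.id_comp])
  let yΩ : Spec (CommRingCat.of (Om R)) ⟶ Yh f :=
    pullback.lift (tm R ≫ σh) (𝟙 _)
      (by rw [Category.assoc, pullback.lift_snd, Category.comp_id, Category.id_comp])
  have hy1 : yΩ ≫ gm f = tm R ≫ σh := pullback.lift_fst _ _ _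
  have hy2 : yΩ ≫ (Yh f ↘ Spec (CommRingCat.of (Om R))) = 𝟙 _ := pullback.lift_snd _ _ _
  have hy3 : yΩ ≫ c.l = c.t' ≫ σg := by
    refine hgen.hom_ext ?_ ?_
    · rw [Category.assoc, c.hl, reassoc_of% hy1, pullback.lift_fst, Category.assoc, hσgj,
        reassoc_of% c.ht]
    · rw [Category.assoc, c.sq.w, reassoc_of% hy2, Category.assoc, hσg, Category.comp_id]
  have hq : TFOne.IsQuasistableAtPt (Yh f) (Om R) (Yh f ↘ Spec (CommRingCat.of (Om R)))
      ((Scheme.Modules.pullback (gm f)).obj ((Scheme.Modules.pullback (hh f)).obj J))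
      ((Scheme.Modules.pullback (gm f)).obj ((Scheme.Modules.pullback (hh f)).obj E)) r
      (yΩ (IsLocalRing.closedPoint (Om R))) :=
    quasistable_congr eJ (pullIso c.hl E ≪≫ (pullIso rfl E).symm)
      (hg (Om R) c.t' (Yh f) c.l _ c.sq yΩ hy3 hy2)
  have hsp : gm f (yΩ (IsLocalRing.closedPoint (Om R))) ⤳ ih hsq s₀ := by
    have h1 : σh (IsLocalRing.closedPoint (Rh R)) ∈ Set.range (ih hsq) := by
      rw [range_special (sq_ih hsq)]
      show fh f (σh (IsLocalRing.closedPoint (Rh R))) = IsLocalRing.closedPoint (Rh R)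
      rw [← Scheme.Hom.comp_apply, pullback.lift_snd]
      rfl
    obtain ⟨w, hw⟩ := h1
    have hws : w = s₀ := by
      refine i.isEmbedding.injective ?_
      rw [hs₀, ← ih_hh hsq, Scheme.Hom.comp_apply, hw, ← Scheme.Hom.comp_apply, pullback.lift_fst,
        Scheme.Hom.comp_apply]
      exact congrArg σ (IsLocalRing.comap_closedPoint (algebraMap R (Rh R)))
    rw [← hws, hw, ← Scheme.Hom.comp_apply, hy1, Scheme.Hom.comp_apply]
    exact (specializes_closedPoint _).map σh.continuous
  have hker' : s₀ ∉ CohB1.support (kernel (πh hsq π)) := by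
    show s₀ ∉ CohB1.support (kernel ((pullIso (ih_hh hsq) J).hom ≫ π))
    rw [QCohMod.support_eq_of_iso (kernelIsIsoComp _ π)]
    exact hker
  have hiso' : ¬ IsIso (πh hsq π) := fun h => hiso (by
    haveI : IsIso ((pullIso (ih_hh hsq) J).hom ≫ π) := h
    exact IsIso.of_isIso_comp_left (pullIso (ih_hh hsq) J).hom π)
  exact not_quasistable (sq_ih hsq) (isCoh_hh hJ.coh) (flat_hh_obj hJ.flat) hN hNf φ (πh hsq π) e he
    (sq_ih_field hsq) (LocFree.isFinLocFreeOfRank_pullback (hh f) hE) (pure_Yh hsq hpure) (isPullback_gm f)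
    (tm_closedPoint R) hr hker' hiso' hsp ((phi_hh hsq G).trans hG0) ((phi_hh_self hsq).trans hJ0) hq

include hsq hgen hJ in
theorem isZero_or_isZero_of_chains
    (hg : TFOne.FibSimple (Xg ↘ Spec (CommRingCat.of (FractionRing R))) ((Scheme.Modules.pullback j).obj I))
    {G' : Xs.Modules} (π' : (Scheme.Modules.pullback i).obj J ⟶ G') (hK : HasChain f π) (hK' : HasChain f π')
    (hiso : IsIso (biprod.lift π π')) : IsZero G ∨ IsZero G' := by
  obtain ⟨N, φ, e, hN, hNf, hφ, he⟩ := exists_quot_completion hsq hK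
  obtain ⟨N', φ', e', hN', hNf', hφ', he'⟩ := exists_quot_completion hsq hK'
  obtain ⟨c⟩ := exists_genericPt hsq hgen
  obtain ⟨eJ⟩ := exists_iso_Yh hJ c
  have hs : TFOne.IsSimple (Yh f) (Om R) (Yh f ↘ Spec (CommRingCat.of (Om R)))
      ((Scheme.Modules.pullback (gm f)).obj ((Scheme.Modules.pullback (hh f)).obj J)) :=
    isSimple_of_iso eJ (hg (Om R) c.t' (Yh f) c.l _ c.sq)
  have hiso' : IsIso (biprod.lift (πh hsq π) (πh hsq π')) := by
    rw [show biprod.lift (πh hsq π) (πh hsq π') = (pullIso (ih_hh hsq) J).hom ≫ biprod.lift π π' by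
      apply biprod.hom_ext <;> simp [πh]]
    infer_instance
  exact isZero_or_isZero_of_simple (sq_ih hsq) (isCoh_hh hJ.coh) (flat_hh_obj hJ.flat) hN hNf φ
    (πh hsq π) e he (isPullback_gm f) (tm_closedPoint R) hN' hNf' φ' (πh hsq π') e' he' hiso' hs

end Groth.TFOneAux
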