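import Groth.Agent.TFOne.Lattice
import Groth.Agent.TFOne.GeomFibre

/-!
# Restriction to the special fibre of kernels and of quotients without torsion
-/

set_option autoImplicit false
set_option linter.style.haveILetI false
set_option backward.isDefEq.respectTransparency.types false

universe u

open CategoryTheory CategoryTheory.Limits AlgebraicGeometry Opposite TopologicalSpace

noncomputable section

namespace Groth.TFOneAux

variable {R : Type u} [CommRing R] [IsDomain R] [IsDiscreteValuationRing R] {X Xs : Scheme.{u}}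
  {f : X ⟶ Spec (CommRingCat.of R)} {i : Xs ⟶ X}
  {qs : Xs ⟶ Spec (CommRingCat.of (IsLocalRing.ResidueField R))}

theorem range_fst_of_isPullback {X Y S P : Scheme.{u}} {g : X ⟶ S} {h : Y ⟶ S} {p : P ⟶ X} {q : P ⟶ Y}
    (sq : IsPullback p q g h) : Set.range p = g ⁻¹' Set.range h := by
  rw [← sq.isoPullback_hom_fst, Scheme.Hom.comp_base, TopCat.coe_comp,
    (sq.isoPullback.hom.surjective).range_comp, Scheme.Pullback.range_fst]

theorem range_special
    (hsq : IsPullback i qs f (Spec.map (CommRingCat.ofHom (IsLocalRing.residue R)))) :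
    Set.range i = {x : X | f x = IsLocalRing.closedPoint R} := by
  rw [range_fst_of_isPullback hsq, range_residue]
  rfl

/-- A kernel with target without torsion restricts to a submodule of the special fibre. -/
theorem mono_special [IsProper f]
    (hsq : IsPullback i qs f (Spec.map (CommRingCat.ofHom (IsLocalRing.residue R))))
    {ϖ : R} (hϖ : Irreducible ϖ) {K M N : X.Modules} [K.IsQuasicoherent] [M.IsQuasicoherent]
    (κ : K ⟶ M) (q : M ⟶ N) (w : κ ≫ q = 0) (hex : (ShortComplex.mk κ q w).Exact) [Mono κ]
    (hN : letI : X.Over (Spec (CommRingCat.of R)) := ⟨f⟩; Mono (Formal.smulMod R N ϖ)) :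
    Mono ((Scheme.Modules.pullback i).map κ) := by
  letI : X.Over (Spec (CommRingCat.of R)) := ⟨f⟩
  haveI : IsClosedImmersion i :=
    haveI : IsClosedImmersion (Spec.map (CommRingCat.ofHom (IsLocalRing.residue R))) :=
      IsClosedImmersion.spec_of_surjective _ IsLocalRing.residue_surjective
    MorphismProperty.of_isPullback hsq.flip inferInstance
  haveI := (Misc7.ClosedImm.fullyFaithfulPush i).faithful
  let P := Scheme.Modules.pushforward i
  let Pl := Scheme.Modules.pullback i
  let η := (Scheme.Modules.pullbackPushforwardAdjunction i).unit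
  obtain ⟨hKe, wK, -⟩ := unit_exact hsq K hϖ.maximalIdeal_eq
  obtain ⟨-, wM, hMex⟩ := unit_exact hsq M hϖ.maximalIdeal_eq
  haveI : Mono (P.map (Pl.map κ)) := by
    refine Preadditive.mono_of_cancel_zero _ fun {W} ψ hψ => ?_
    haveI := hKe
    let p := pullback.fst ψ (η.app K)
    let χ := pullback.snd ψ (η.app K)
    have hpχ : p ≫ ψ = χ ≫ η.app K := pullback.condition
    haveI : Epi p := inferInstanceAs (Epi (pullback.fst ψ (η.app K)))
    have h0 : (χ ≫ κ) ≫ η.app M = 0 := by
      have hn : η.app K ≫ P.map (Pl.map κ) = κ ≫ η.app M := (η.naturality κ).symm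
      rw [Category.assoc, ← hn, ← Category.assoc, ← hpχ, Category.assoc, hψ, comp_zero]
    obtain ⟨W', e, he, a, ha⟩ := hMex.exact_up_to_refinements (χ ≫ κ) h0
    haveI := he
    have ha' : e ≫ χ ≫ κ = a ≫ Formal.smulMod R M ϖ := ha
    have hq : a ≫ q = 0 := by
      rw [← cancel_mono (Formal.smulMod R N ϖ), Category.assoc, CohC3.smulMod_naturality, ← Category.assoc,
        ← ha', Category.assoc, Category.assoc, w, comp_zero, comp_zero, zero_comp]
    obtain ⟨W'', e', he', b, hb⟩ := hex.exact_up_to_refinements a hq
    haveI := he'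
    have hb' : e' ≫ a = b ≫ κ := hb
    have h1 : (e' ≫ e ≫ χ) ≫ κ = (b ≫ Formal.smulMod R K ϖ) ≫ κ := by
      rw [Category.assoc, Category.assoc, ha', ← Category.assoc, hb', Category.assoc, Category.assoc,
        CohC3.smulMod_naturality]
    have h2 : e' ≫ e ≫ p ≫ ψ = 0 := by
      rw [hpχ, ← Category.assoc e, ← Category.assoc e', (cancel_mono κ).1 h1, Category.assoc, wK, comp_zero]
    rw [← cancel_epi p, ← cancel_epi e, ← cancel_epi e', h2]
    simp
  exact P.mono_of_mono_map inferInstance

/-- A coherent module on a proper scheme with zero restriction to the special fibre vanishes. -/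
theorem isZero_of_isZero_special [IsProper f]
    (hsq : IsPullback i qs f (Spec.map (CommRingCat.ofHom (IsLocalRing.residue R))))
    {C : X.Modules} (hC : Coh.IsCoh C) (h : IsZero ((Scheme.Modules.pullback i).obj C)) : IsZero C := by
  haveI := isNoetherian_of_isProper f
  haveI := hC.1
  refine (QCohMod.isZero_iff_support_eq_empty C).2 ?_
  by_contra hne
  obtain ⟨x, hx⟩ := Set.nonempty_iff_ne_empty.2 hne
  have hcl := f.isClosedMap _ (CohTwo.isClosed_support C hC)
  obtain ⟨z, hz, hfz⟩ := (specializes_closedPoint (f x)).mem_closed hcl ⟨x, hx, rfl⟩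
  have hzr : z ∈ Set.range i := (range_special hsq).ge hfz
  obtain ⟨w, rfl⟩ := hzr
  have h0 := (QCohMod.isZero_iff_support_eq_empty _).1
    (h : IsZero ((Scheme.Modules.pullback i).obj C))
  rw [QCohMod.support_pullback i C hC.2] at h0
  exact h0.le hz

end Groth.TFOneAux
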