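import Groth.Agent.TFOne.Pattern

/-!
# (Quasi)stability in terms of patterns of components
-/

set_option autoImplicit false
set_option linter.style.haveILetI false
set_option backward.isDefEq.respectTransparency.types false

universe u

open CategoryTheory CategoryTheory.Limits AlgebraicGeometry TopologicalSpace

noncomputable section

namespace Groth.TFOneAux

variable {X : Scheme.{u}} {M G : X.Modules} {P : Set (Gen X)} {π : M ⟶ G}

/-- The components in `P` through some generic point meeting `p`. -/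
def Through (P : Set (Gen X)) (p : X) : Prop := ∃ η ∈ P, η.1 ⤳ p

theorem exists_gen_specializes (x : X) : ∃ η : Gen X, η.1 ⤳ x := by
  obtain ⟨C, hC, hxC⟩ := exists_mem_irreducibleComponents_subset_of_isIrreducible _
    (isIrreducible_singleton (x := x))
  obtain ⟨η, hη⟩ := QuasiSober.sober hC.1 (isClosed_of_mem_irreducibleComponents C hC)
  exact ⟨⟨η, show closure ({η} : Set X) ∈ irreducibleComponents (X : Type u) from hη.def.symm ▸ hC⟩,
    hη.specializes (hxC rfl)⟩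

theorem IsQ.mem_supp_iff (hX : IsCurve X) (h : IsQ M P G π) (x : X) :
    x ∈ CohB1.support G ↔ Through P x := by
  haveI := hX.noeth
  rw [support_eq hX h.coh h.tf]
  simp only [Set.mem_iUnion₂, Set.mem_ofPred_eq]
  constructor
  · rintro ⟨η, ⟨hη, hs⟩, hx⟩
    exact ⟨⟨η, hη⟩, (h.supp ⟨η, hη⟩).1 hs, specializes_iff_mem_closure.2 hx⟩
  · rintro ⟨η, hη, hx⟩
    exact ⟨η.1, ⟨η.2, (h.supp η).2 hη⟩, specializes_iff_mem_closure.1 hx⟩

theorem IsQ.isSubcurve (hX : IsCurve X) (h : IsQ M P G π) (hP : P.Nonempty) :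
    VecSt.IsSubcurve X (CohB1.support G) := by
  haveI := hX.noeth
  obtain ⟨η, hη⟩ := hP
  rw [support_eq hX h.coh h.tf]
  exact isSubcurve_biUnion (P := fun x => x ∈ CohB1.support G) ⟨η.1, η.2, (h.supp η).2 hη⟩

theorem IsQ.supp_ne_univ (h : IsQ M P G π) (hP : P ≠ Set.univ) : CohB1.support G ≠ Set.univ := by
  obtain ⟨η, hη⟩ := (Set.ne_univ_iff_exists_notMem _).1 hP
  exact fun e => hη ((h.supp η).1 (e.ge (Set.mem_univ _)))

theorem subcurve_gen {Z : Set X} (hZ : VecSt.IsSubcurve X Z) (hZc : IsClosed Z) :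
    ({η : Gen X | η.1 ∈ Z} : Set (Gen X)).Nonempty ∧
      (Z ≠ Set.univ → ({η : Gen X | η.1 ∈ Z} : Set (Gen X)) ≠ Set.univ) ∧
      ∀ x ∈ Z, Through {η : Gen X | η.1 ∈ Z} x := by
  obtain ⟨S, hS, ⟨C, hC⟩, rfl⟩ := hZ
  have key : ∀ D ∈ S, ∀ x ∈ D, Through {η : Gen X | η.1 ∈ ⋃₀ S} x := fun D hD x hx => by
    obtain ⟨η, hη⟩ := QuasiSober.sober (hS hD).1 (isClosed_of_mem_irreducibleComponents D (hS hD))
    exact ⟨⟨η, show closure ({η} : Set X) ∈ irreducibleComponents (X : Type u) from hη.def.symm ▸ hS hD⟩,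
      ⟨D, hD, hη.mem⟩, hη.specializes hx⟩
  obtain ⟨x, hx⟩ := (hS hC).1.1
  obtain ⟨η, hη, -⟩ := key C hC x hx
  refine ⟨⟨η, hη⟩, fun hne h => hne (Set.eq_univ_of_forall fun y => ?_), ?_⟩
  · obtain ⟨η', hη'⟩ := exists_gen_specializes y
    exact hη'.mem_closed hZc (h.ge (Set.mem_univ η'))
  · rintro y ⟨D, hD, hy⟩
    exact key D hD y hy

variable {k : Type u} [Field k] [X.Over (Spec (CommRingCat.of k))]
  [IsProper (X ↘ Spec (CommRingCat.of k))] [IsReduced X] {E : X.Modules} {r : ℕ}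

theorem rBeta_eq_bPat (hpure : ∀ C ∈ irreducibleComponents (X : Type u), topologicalKrullDim C = 1)
    (hE : FlatMod.IsFinLocFreeOfRank r E) (hM : TFOne.IsTF1 X M) {Z : Set X} (hZ : IsClosed Z)
    (hG : TFOne.IsQuotOn X M Z G π) :
    TFOne.rBeta X k (X ↘ Spec (CommRingCat.of k)) Z hZ E r G = bPat k E r M {η | η.1 ∈ Z} := by
  rw [rBeta_eq_phi k hpure hE hM hZ hG, bPat_eq (isCurve k hpure) hM (IsQ.of_quotOn hG)]

theorem isSemistable_iff (hpure : ∀ C ∈ irreducibleComponents (X : Type u), topologicalKrullDim C = 1)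
    (hE : FlatMod.IsFinLocFreeOfRank r E) :
    TFOne.IsSemistable X k (X ↘ Spec (CommRingCat.of k)) M E r ↔
      TFOne.IsTF1 X M ∧ ∀ P : Set (Gen X), P.Nonempty → P ≠ Set.univ → 0 ≤ bPat k E r M P := by
  have hX := isCurve k hpure
  refine ⟨fun h => ⟨h.1, fun P hne hu => ?_⟩, fun h => ⟨h.1, fun Z hZ hZs hZu G π hG => ?_⟩⟩
  · obtain ⟨G, π, hG⟩ := exists_isQ hX h.1 P
    rw [bPat_eq hX h.1 hG, ← rBeta_eq_phi k hpure hE h.1 (CohTwo.isClosed_support G hG.coh) hG.quotOn]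
    exact h.2 _ _ (hG.isSubcurve hX hne) (hG.supp_ne_univ hu) G π hG.quotOn
  · rw [rBeta_eq_bPat hpure hE h.1 hZ hG]
    obtain ⟨h1, h2, -⟩ := subcurve_gen hZs hZ
    exact h.2 _ h1 (h2 hZu)

theorem isQuasistableAtPt_iff (hpure : ∀ C ∈ irreducibleComponents (X : Type u), topologicalKrullDim C = 1)
    (hE : FlatMod.IsFinLocFreeOfRank r E) (p : X) :
    TFOne.IsQuasistableAtPt X k (X ↘ Spec (CommRingCat.of k)) M E r p ↔
      TFOne.IsSemistable X k (X ↘ Spec (CommRingCat.of k)) M E r ∧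
        ∀ P : Set (Gen X), Through P p → P ≠ Set.univ → 0 < bPat k E r M P := by
  have hX := isCurve k hpure
  refine ⟨fun h => ⟨h.1, fun P hp hu => ?_⟩, fun h => ⟨h.1, fun Z hZ hZs hZu hpZ G π hG => ?_⟩⟩
  · obtain ⟨G, π, hG⟩ := exists_isQ hX h.1.1 P
    obtain ⟨η, hη, -⟩ := id hp
    rw [bPat_eq hX h.1.1 hG, ← rBeta_eq_phi k hpure hE h.1.1 (CohTwo.isClosed_support G hG.coh) hG.quotOn]
    exact h.2 _ _ (hG.isSubcurve hX ⟨η, hη⟩) (hG.supp_ne_univ hu) ((hG.mem_supp_iff hX p).2 hp) G π hG.quotOn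
  · rw [rBeta_eq_bPat hpure hE h.1.1 hZ hG]
    obtain ⟨-, h2, h3⟩ := subcurve_gen hZs hZ
    exact h.2 _ (h3 p hpZ) (h2 hZu)

/-- Simplicity over a field with geometrically integral components from indecomposability. -/
theorem isSimple_of_no_dec (hpure : ∀ C ∈ irreducibleComponents (X : Type u), topologicalKrullDim C = 1)
    [Nonempty X] (hgi : ∀ (C : Set X) (hC : C ∈ irreducibleComponents (X : Type u)),
      GeometricallyIntegral (VecSt.subschι X C (isClosed_of_mem_irreducibleComponents C hC) ≫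
        (X ↘ Spec (CommRingCat.of k))))
    (hM : TFOne.IsTF1 X M)
    (h : ∀ P : Set (Gen X), P.Nonempty → P ≠ Set.univ → ∀ (G G' : X.Modules) (π : M ⟶ G) (π' : M ⟶ G'),
      IsQ M P G π → IsQ M Pᶜ G' π' → ¬ IsIso (biprod.lift π π')) :
    TFOne.IsSimple X k (X ↘ Spec (CommRingCat.of k)) M := by
  have hX := isCurve k hpure
  haveI := hX.noeth
  refine isSimple_of_not_decomposable hX hgi hM ?_
  rintro ⟨Y, Z, hY, hZ, GY, GZ, πY, πZ, hYs, hZs, hYu, hZu, hGY, hGZ, hiso⟩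
  obtain ⟨h1, h2, -⟩ := subcurve_gen hYs hY
  refine h _ h1 (h2 hYu) GY GZ πY πZ (IsQ.of_quotOn hGY) ⟨hGZ.1, hGZ.2.1, hGZ.2.2.1, fun η => ?_⟩ hiso
  haveI := hiso
  haveI := hGY.1
  rw [hGZ.2.2.2, Set.mem_compl_iff, Set.mem_ofPred_eq]
  let l := biprod.lift πY πZ
  let t : GY ⟶ M := biprod.inl ≫ inv l
  let t' : GZ ⟶ M := biprod.inr ≫ inv l
  have hl : t ≫ l = biprod.inl := by simp [t]
  have hl' : t' ≫ l = biprod.inr := by simp [t']
  constructor
  · intro hηZ hηY
    have hmemY : η.1 ∈ CohB1.support GY := hGY.2.2.2.symm ▸ hηY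
    refine (hGZ.2.2.2.symm ▸ hηZ : η.1 ∈ CohB1.support GZ) ⟨fun a b => ?_⟩
    suffices key : ∀ a : GZ.presheaf.stalk η.1, a = 0 from (key a).trans (key b).symm
    intro a
    have e1 : t' ≫ πY = 0 := by simpa [l] using congrArg (· ≫ biprod.fst) hl'
    have e2 : t' ≫ πZ = 𝟙 _ := by simpa [l] using congrArg (· ≫ biprod.snd) hl'
    have h0 : RefHull.stalkMapₗ t' η.1 a = 0 := (bijective_of_isRkOne hX hM.2.2 πY η.2 hmemY).1 (by
      rw [← Duality.StalkHom.stalkMapₗ_comp_apply, e1, Duality.StalkHom.stalkMapₗ_zero, map_zero])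
    have := congrArg (fun g => RefHull.stalkMapₗ g η.1 a) e2
    simp only [Duality.StalkHom.stalkMapₗ_comp_apply, stalkMap_id, h0, map_zero] at this
    exact this.symm
  · intro hηY
    by_contra hηZ
    haveI := subsingleton_stalk_of_not_mem (show η.1 ∉ CohB1.support GY from hGY.2.2.2.symm ▸ hηY)
    haveI := subsingleton_stalk_of_not_mem (show η.1 ∉ CohB1.support GZ from hGZ.2.2.2.symm ▸ hηZ)
    refine mem_support_of_generic hM.2.2 η.2 ⟨fun a b => ?_⟩
    suffices key : ∀ a : M.presheaf.stalk η.1, a = 0 from (key a).trans (key b).symm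
    intro a
    have e : πY ≫ t + πZ ≫ t' = 𝟙 M := by
      rw [← cancel_mono l, Preadditive.add_comp]
      simp only [t, t', Category.assoc, IsIso.inv_hom_id, Category.comp_id, Category.id_comp]
      apply biprod.hom_ext <;> simp [l]
    have := congrArg (fun g => RefHull.stalkMapₗ g η.1 a) e
    simp only [stalkMap_add, Duality.StalkHom.stalkMapₗ_comp_apply, stalkMap_id] at this
    rw [Subsingleton.elim (RefHull.stalkMapₗ πY η.1 a) 0, Subsingleton.elim (RefHull.stalkMapₗ πZ η.1 a) 0,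
      map_zero, map_zero, add_zero] at this
    exact this.symm

end Groth.TFOneAux
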